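import Groth.Prelude.Def_W4c1hilbpnTgt
import Mathlib.LinearAlgebra.Dimension.Constructions
import Mathlib.LinearAlgebra.FiniteDimensional.Basic
import Mathlib.Data.Fintype.Pi
import Mathlib.RingTheory.Finiteness.Basic
import Mathlib.Tactic

/-!
The tangent module of a monomial ideal of finite colength as a space of functions on exponent vectors.
-/

set_option autoImplicit false

universe u

namespace Groth.Agent.L13.HilbPn

open MvPolynomial W4c1hilbpn

variable {σ : Type} [Finite σ] [DecidableEq σ] {k : Type u} [Field k]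

/-- The integer vector of an exponent. -/
def cast (β : σ →₀ ℕ) : σ → ℤ := fun i => (β i : ℤ)

/-- The exponent of a nonnegative vector. -/
noncomputable def toN (γ : σ → ℤ) : σ →₀ ℕ := Finsupp.equivFunOnFinite.symm fun i => (γ i).toNat

omit [DecidableEq σ] in
@[simp] lemma toN_apply (γ : σ → ℤ) (i : σ) : toN γ i = (γ i).toNat := by simp [toN]

omit [DecidableEq σ] in
@[simp] lemma toN_cast (β : σ →₀ ℕ) : toN (cast β) = β := by
  ext i; simp [cast]

omit [DecidableEq σ] in
lemma cast_toN {γ : σ → ℤ} (h : ∀ i, 0 ≤ γ i) : cast (toN γ) = γ := by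
  funext i; simp [cast, h i]

omit [Finite σ] [DecidableEq σ] in
lemma cast_injective : Function.Injective (cast : (σ →₀ ℕ) → σ → ℤ) := fun a b h =>
  Finsupp.ext fun i => by simpa [cast] using congrFun h i

omit [Finite σ] [DecidableEq σ] in
@[simp] lemma cast_add (a b : σ →₀ ℕ) : cast (a + b) = cast a + cast b := by funext i; simp [cast]

omit [Finite σ] in
@[simp] lemma cast_single (i : σ) : cast (Finsupp.single i 1) = Pi.single i 1 := by
  funext l; simp [cast, Finsupp.single_apply, Pi.single_apply, eq_comm]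

omit [DecidableEq σ] in
lemma shift_eq (β : σ →₀ ℕ) (α : σ → ℤ) : shift β α = toN (cast β + α) := rfl

variable (I : Ideal (MvPolynomial σ k))

omit [Finite σ] [DecidableEq σ] in
lemma exps_upper {a b : σ →₀ ℕ} (hab : a ≤ b) (ha : a ∈ exps I) : b ∈ exps I := by
  obtain ⟨c, rfl⟩ := le_iff_exists_add.mp hab
  show monomial (a + c) (1 : k) ∈ I
  rw [show monomial (a + c) (1 : k) = monomial c 1 * monomial a 1 by
    rw [monomial_mul, one_mul, add_comm c a]]
  exact I.mul_mem_left _ ha

/-- Exponents of the standard monomials. -/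
def Good (γ : σ → ℤ) : Prop := (∀ i, 0 ≤ γ i) ∧ toN γ ∉ exps I

omit [DecidableEq σ] in
lemma Good.of_le {γ δ : σ → ℤ} (h : Good I γ) (hle : δ ≤ γ) (h0 : ∀ i, 0 ≤ δ i) : Good I δ :=
  ⟨h0, fun hd => h.2 (exps_upper I (fun i => by simp; have : δ i ≤ γ i := hle i; omega) hd)⟩

omit [DecidableEq σ] in
lemma good_cast_iff {δ : σ →₀ ℕ} : Good I (cast δ) ↔ δ ∉ exps I :=
  ⟨fun h => by simpa using h.2, fun h => ⟨fun i => by simp [cast], by simpa using h⟩⟩

/-- The exponents of the ideal translated by `α`. -/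
def Src (α : σ → ℤ) (γ : σ → ℤ) : Prop := (∀ i, α i ≤ γ i) ∧ toN (γ - α) ∈ exps I

omit [DecidableEq σ] in
lemma src_cast {α : σ → ℤ} {β : σ →₀ ℕ} (h : β ∈ exps I) : Src I α (cast β + α) :=
  ⟨fun i => by simp [cast], by simpa using h⟩

omit [DecidableEq σ] in
lemma Src.exists_eq {α γ : σ → ℤ} (h : Src I α γ) : ∃ β ∈ exps I, γ = cast β + α :=
  ⟨toN (γ - α), h.2, by rw [cast_toN fun i => by simpa using h.1 i]; simp⟩

omit [DecidableEq σ] in
lemma Src.mono {α γ δ : σ → ℤ} (h : Src I α γ) (hle : γ ≤ δ) : Src I α δ :=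
  ⟨fun i => (h.1 i).trans (hle i), exps_upper I (fun i => by simp; have : γ i ≤ δ i := hle i; omega) h.2⟩

/-- The equations of a homogeneous map of degree `α`, on the values at the targets. -/
def Sol (α : σ → ℤ) : Submodule k ((σ → ℤ) → k) where
  carrier := {c | (∀ γ, ¬ (Src I α γ ∧ Good I γ) → c γ = 0) ∧
    ∀ γ i, Src I α γ → Good I (γ + Pi.single i 1) → c (γ + Pi.single i 1) = c γ}
  zero_mem' := ⟨fun _ _ => rfl, fun _ _ _ _ => rfl⟩
  add_mem' := fun ha hb => ⟨fun γ h => by simp [ha.1 γ h, hb.1 γ h],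
    fun γ i h h' => by simp [ha.2 γ i h h', hb.2 γ i h h']⟩
  smul_mem' := fun t _ ha => ⟨fun γ h => by simp [ha.1 γ h], fun γ i h h' => by simp [ha.2 γ i h h']⟩

lemma Sol.translate {α : σ → ℤ} {c : (σ → ℤ) → k} (hc : c ∈ Sol I α) {γ : σ → ℤ} (h : Src I α γ)
    (m : σ →₀ ℕ) : Good I (γ + cast m) → c (γ + cast m) = c γ := by
  induction m using Finsupp.induction generalizing γ with
  | zero => intro _; simp [show γ + cast (0 : σ →₀ ℕ) = γ by funext i; simp [cast]]
  | single_add i t m _ _ ih =>
    clear ‹i ∉ m.support›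
    induction t generalizing γ with
    | zero => simpa using ih h
    | succ t iht =>
      rw [Finsupp.single_add, add_right_comm, cast_add, cast_single, ← add_assoc]
      intro hg
      have hs : Src I α (γ + cast (Finsupp.single i t + m)) :=
        h.mono I (fun l => by simp [cast]; positivity)
      rw [hc.2 _ i hs hg]
      by_cases hd : Good I (γ + cast (Finsupp.single i t + m))
      · rcases Nat.eq_zero_or_pos t with rfl | ht
        · simp only [Finsupp.single_zero, zero_add] at hd ⊢
          exact ih h hd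
        · exact iht (by omega) h hd
      · rw [hc.1 _ fun hh => hd hh.2]
        by_contra hne
        have hgood : Good I γ := by
          by_contra hb
          exact hne (hc.1 _ fun hh => hb hh.2).symm
        refine hd (hg.of_le I (fun l => ?_) fun l => ?_)
        · simp only [Pi.add_apply, Pi.single_apply]; split_ifs <;> simp
        · have := hgood.1 l; simp [cast]; omega

section coeff

variable {I} (hI : IsMonomial I)

/-- The coefficient of a standard monomial in the quotient. -/
noncomputable def coeffQ (γ : σ → ℤ) (hγ : Good I γ) : (MvPolynomial σ k ⧸ I) →ₗ[k] k :=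
  (Submodule.liftQ (I.restrictScalars k) (lcoeff k (toN γ)) (fun p hp => by
    by_contra hne
    exact hγ.2 (hI p hp _ (mem_support_iff.mpr hne)))).comp
    (Submodule.Quotient.restrictScalarsEquiv k I).symm.toLinearMap

omit [DecidableEq σ] in
lemma coeffQ_mk (γ : σ → ℤ) (hγ : Good I γ) (p : MvPolynomial σ k) :
    coeffQ hI γ hγ (Ideal.Quotient.mk I p) = coeff (toN γ) p := rfl

include hI in
omit [DecidableEq σ] in
lemma quot_ext {x y : MvPolynomial σ k ⧸ I}
    (h : ∀ γ (hγ : Good I γ), coeffQ hI γ hγ x = coeffQ hI γ hγ y) : x = y := by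
  obtain ⟨p, rfl⟩ := Ideal.Quotient.mk_surjective x
  obtain ⟨q, rfl⟩ := Ideal.Quotient.mk_surjective y
  rw [Ideal.Quotient.eq, ← (p - q).support_sum_monomial_coeff]
  refine I.sum_mem fun β hβ => ?_
  have hβI : β ∈ exps I := by
    by_contra hne
    have := h _ (good_cast_iff I |>.mpr hne)
    simp only [coeffQ_mk, toN_cast] at this
    rw [mem_support_iff, coeff_sub, this, sub_self] at hβ
    exact hβ rfl
  rw [show monomial β (coeff β (p - q)) = C (coeff β (p - q)) * monomial β 1 by
    rw [C_mul_monomial, mul_one]]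
  exact I.mul_mem_left _ hβI

/-- A monomial of the ideal. -/
noncomputable def mon {β : σ →₀ ℕ} (h : β ∈ exps I) : I := ⟨monomial β 1, h⟩

include hI in
omit [DecidableEq σ] in
lemma tgt_ext {φ ψ : Tgt I} (h : ∀ β (hβ : β ∈ exps I), φ (mon hβ) = ψ (mon hβ)) : φ = ψ := by
  refine LinearMap.ext fun ⟨p, hp⟩ => ?_
  have hmem : ∀ β ∈ p.support, β ∈ exps I := fun β hβ => hI p hp β hβ
  have e : (⟨p, hp⟩ : I) = ∑ β ∈ p.support.attach, (C (coeff β.1 p) : MvPolynomial σ k) • mon (hmem β.1 β.2) := by
    apply Subtype.ext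
    rw [Submodule.coe_sum]
    simp only [SetLike.val_smul, mon, smul_eq_mul, C_mul_monomial, mul_one]
    rw [Finset.sum_attach p.support (fun β => monomial β (coeff β p))]
    exact p.support_sum_monomial_coeff.symm
  rw [e, map_sum, map_sum]
  exact Finset.sum_congr rfl fun β _ => by rw [map_smul, map_smul, h]

open Classical in
/-- The values of a map at the targets, in degree `α`. -/
noncomputable def val (α : σ → ℤ) (φ : Tgt I) (γ : σ → ℤ) : k :=
  if h : Src I α γ ∧ Good I γ then coeffQ hI γ h.2 (φ (mon h.1.2)) else 0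

omit [DecidableEq σ] in
lemma mon_congr {a b : σ →₀ ℕ} (e : a = b) (ha : a ∈ exps I) (hb : b ∈ exps I) : mon ha = mon hb := by
  subst e; rfl

omit [DecidableEq σ] in
lemma val_cast (α : σ → ℤ) (φ : Tgt I) {β : σ →₀ ℕ} (hβ : β ∈ exps I)
    (hg : Good I (cast β + α)) : val hI α φ (cast β + α) = coeffQ hI _ hg (φ (mon hβ)) := by
  rw [val, dif_pos ⟨src_cast I hβ, hg⟩]
  congr 2
  exact mon_congr (by simp) _ _

lemma val_mem (α : σ → ℤ) (φ : Tgt I) : val hI α φ ∈ Sol I α := by
  refine ⟨fun γ h => dif_neg h, fun γ i hs hg => ?_⟩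
  obtain ⟨β, hβ, rfl⟩ := hs.exists_eq I
  have hβ' : β + Finsupp.single i 1 ∈ exps I := exps_upper I le_self_add hβ
  have e : cast β + α + Pi.single i 1 = cast (β + Finsupp.single i 1) + α := by simp; abel
  have hg' := hg
  rw [e] at hg' ⊢
  rw [val_cast hI α φ hβ' hg']
  have hm : mon hβ' = (X i : MvPolynomial σ k) • mon hβ := by
    apply Subtype.ext
    simp only [mon, SetLike.val_smul, smul_eq_mul, X, monomial_mul, one_mul, add_comm]
  rw [hm, map_smul]
  obtain ⟨p, hp⟩ := Ideal.Quotient.mk_surjective (φ (mon hβ))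
  rw [← hp, show (X i : MvPolynomial σ k) • Ideal.Quotient.mk I p = Ideal.Quotient.mk I (X i * p) from rfl,
    coeffQ_mk]
  by_cases hnn : ∀ l, 0 ≤ (cast β + α) l
  · have hg0 : Good I (cast β + α) := hg.of_le I (fun l => by
      simp only [Pi.add_apply, Pi.single_apply]; split_ifs <;> simp) hnn
    rw [val_cast hI α φ hβ hg0, ← hp, coeffQ_mk,
      show toN (cast (β + Finsupp.single i 1) + α) = Finsupp.single i 1 + toN (cast β + α) by
        ext l
        have := hnn l
        rcases eq_or_ne l i with rfl | hli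
        · simp [cast] at this ⊢; omega
        · simp [cast, Pi.single_eq_of_ne hli, Finsupp.single_eq_of_ne hli] at this ⊢]
    exact coeff_X_mul _ _ _
  · have : val hI α φ (cast β + α) = 0 := dif_neg fun h => hnn h.2.1
    rw [this, coeff_X_mul', if_neg]
    intro hsupp
    push Not at hnn
    obtain ⟨l, hl⟩ := hnn
    have h1 : 0 ≤ (cast β + α + (Pi.single i 1 : σ → ℤ)) l := hg.1 l
    rcases eq_or_ne l i with rfl | hli
    · simp [cast] at hsupp h1 hl
      omega
    · simp [cast, Pi.single_eq_of_ne hli] at h1 hl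
      omega

open Classical in
/-- The linear map on monomials attached to values at the targets. -/
noncomputable def pre (α : σ → ℤ) (c : (σ → ℤ) → k) : MvPolynomial σ k →ₗ[k] MvPolynomial σ k ⧸ I :=
  (basisMonomials σ k).constr k fun β =>
    if β ∈ exps I then c (cast β + α) • Ideal.Quotient.mk I (monomial (shift β α) 1) else 0

omit [DecidableEq σ] in
lemma pre_monomial (α : σ → ℤ) (c : (σ → ℤ) → k) {β : σ →₀ ℕ} (hβ : β ∈ exps I) :
    pre (I := I) α c (monomial β 1) = c (cast β + α) • Ideal.Quotient.mk I (monomial (shift β α) 1) := by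
  have : monomial β (1 : k) = basisMonomials σ k β := by simp
  rw [this, pre, Module.Basis.constr_basis, if_pos hβ]

include hI in
lemma pre_X_mul (α : σ → ℤ) {c : (σ → ℤ) → k} (hc : c ∈ Sol I α) (i : σ) (p : MvPolynomial σ k)
    (hp : p ∈ I) : pre (I := I) α c (X i * p) = (X i : MvPolynomial σ k) • pre (I := I) α c p := by
  rw [← p.support_sum_monomial_coeff, Finset.mul_sum, map_sum, map_sum, Finset.smul_sum]
  refine Finset.sum_congr rfl fun β hβ => ?_
  have hβI : β ∈ exps I := hI p hp β hβ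
  have hβ' : Finsupp.single i 1 + β ∈ exps I := exps_upper I le_add_self hβI
  rw [show monomial β (coeff β p) = coeff β p • monomial β 1 by simp [smul_monomial],
    mul_smul_comm, map_smul, map_smul, smul_comm (X i : MvPolynomial σ k)]
  congr 1
  rw [show (X i : MvPolynomial σ k) * monomial β 1 = monomial (Finsupp.single i 1 + β) 1 by
    rw [X, monomial_mul, one_mul]]
  rw [pre_monomial α c hβ', pre_monomial α c hβI, smul_comm (X i : MvPolynomial σ k)]
  have e : cast (Finsupp.single i 1 + β) + α = cast β + α + Pi.single i 1 := by simp; abel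
  rw [e]
  by_cases hg : Good I (cast β + α + Pi.single i 1)
  · rw [hc.2 _ i (src_cast I hβI) hg]
    by_cases h0 : c (cast β + α) = 0
    · rw [h0, zero_smul, zero_smul]
    congr 1
    have hnn : Good I (cast β + α) := by
      by_contra hb; exact h0 (hc.1 _ fun h => hb h.2)
    rw [show (X i : MvPolynomial σ k) • Ideal.Quotient.mk I (monomial (shift β α) 1) =
      Ideal.Quotient.mk I (X i * monomial (shift β α) 1) from rfl, X, monomial_mul, one_mul]
    have es : shift (Finsupp.single i 1 + β) α = Finsupp.single i 1 + shift β α := by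
      rw [shift_eq, shift_eq, e]
      ext l
      have := hnn.1 l
      rcases eq_or_ne l i with rfl | hli
      · simp [cast] at this ⊢; omega
      · simp [cast, Pi.single_eq_of_ne hli, Finsupp.single_eq_of_ne hli] at this ⊢
    rw [es]
  · rw [hc.1 _ fun h => hg h.2, zero_smul]
    by_cases h0 : Good I (cast β + α)
    · rw [show (X i : MvPolynomial σ k) • Ideal.Quotient.mk I (monomial (shift β α) 1) =
        Ideal.Quotient.mk I (X i * monomial (shift β α) 1) from rfl, X, monomial_mul, one_mul]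
      have hmem : Finsupp.single i 1 + shift β α ∈ exps I := by
        by_contra hne
        refine hg ?_
        have := (good_cast_iff I).mpr hne
        rwa [cast_add, cast_single, shift_eq, cast_toN h0.1, add_comm] at this
      rw [Ideal.Quotient.eq_zero_iff_mem.mpr hmem, smul_zero]
    · rw [hc.1 _ fun h => h0 h.2, zero_smul]

/-- The map of degree `α` with given values. -/
noncomputable def mk (α : σ → ℤ) (c : Sol I α) : Tgt I where
  toFun p := pre (I := I) α c.1 p.1
  map_add' p q := by simp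
  map_smul' r p := by
    simp only [RingHom.id_apply, SetLike.val_smul, smul_eq_mul]
    induction r using MvPolynomial.induction_on generalizing p with
    | C a => rw [C_mul', map_smul]; exact (IsScalarTower.algebraMap_smul _ a _).symm
    | add r s hr hs => rw [add_mul, map_add, hr, hs, add_smul]
    | mul_X r i hr =>
      have := hr ⟨X i * p.1, I.mul_mem_left _ p.2⟩
      rw [mul_assoc, this, mul_smul, pre_X_mul hI α c.2 i p.1 p.2]

lemma mk_mon (α : σ → ℤ) (c : Sol I α) {β : σ →₀ ℕ} (hβ : β ∈ exps I) :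
    mk hI α c (mon hβ) = c.1 (cast β + α) • Ideal.Quotient.mk I (monomial (shift β α) 1) :=
  pre_monomial α c.1 hβ

lemma mk_mem (α : σ → ℤ) (c : Sol I α) : mk hI α c ∈ tPiece I α := by
  intro β hβ
  refine ⟨fun _ => ?_, fun ⟨i, hi⟩ => ?_⟩
  · exact Submodule.mem_span_singleton.mpr ⟨_, (mk_mon hI α c hβ).symm⟩
  · refine (mk_mon hI α c hβ).trans ?_
    rw [c.2.1 _ fun h => (h.2.1 i).not_gt (by simpa [cast] using hi), zero_smul]

open scoped Classical in
lemma val_mk (α α' : σ → ℤ) (c : Sol I α) :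
    val hI α' (mk hI α c) = if α' = α then c.1 else 0 := by
  funext γ
  by_cases h : Src I α' γ ∧ Good I γ
  swap
  · rw [val, dif_neg h]
    split_ifs with e
    · subst e; exact (c.2.1 γ h).symm
    · rfl
  obtain ⟨β, hβ, rfl⟩ := h.1.exists_eq I
  rw [val_cast hI α' _ hβ h.2, mk_mon, map_smul, coeffQ_mk, coeff_monomial, smul_eq_mul]
  by_cases e : α' = α
  · subst e; rw [if_pos (shift_eq β α'), if_pos rfl, mul_one]
  · rw [if_neg e]
    split_ifs with hh
    · by_cases hg : Good I (cast β + α)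
      · refine absurd ?_ e
        have := congrArg cast hh
        rw [shift_eq, cast_toN hg.1, cast_toN h.2.1] at this
        exact (add_left_cancel this).symm
      · rw [c.2.1 _ fun h => hg h.2]; simp
    · simp

lemma coeff_tPiece {α : σ → ℤ} {φ : Tgt I} (hφ : φ ∈ tPiece I α) {β : σ →₀ ℕ} (hβ : β ∈ exps I)
    {δ : σ → ℤ} (hδ : Good I δ) (hne : δ ≠ cast β + α) : coeffQ hI δ hδ (φ (mon hβ)) = 0 := by
  by_cases h : ∀ i, 0 ≤ (β i : ℤ) + α i
  · obtain ⟨t, ht⟩ := Submodule.mem_span_singleton.mp ((hφ β hβ).1 h)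
    rw [show φ (mon hβ) = φ ⟨monomial β 1, hβ⟩ from rfl, ← ht, map_smul, coeffQ_mk, coeff_monomial,
      if_neg, smul_zero]
    intro e
    refine hne ?_
    rw [← cast_toN hδ.1, ← e, shift_eq, cast_toN (γ := cast β + α) (fun i => h i)]
  · push Not at h
    rw [show φ (mon hβ) = φ ⟨monomial β 1, hβ⟩ from rfl, (hφ β hβ).2 h, map_zero]

lemma eq_mk_val {α : σ → ℤ} {φ : Tgt I} (hφ : φ ∈ tPiece I α) :
    φ = mk hI α ⟨val hI α φ, val_mem hI α φ⟩ := by
  refine tgt_ext hI fun β hβ => quot_ext hI fun δ hδ => ?_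
  by_cases e : δ = cast β + α
  · subst e
    rw [mk_mon, map_smul, coeffQ_mk, coeff_monomial, if_pos (shift_eq β α), smul_eq_mul, mul_one]
    exact (val_cast hI α φ hβ hδ).symm
  · rw [coeff_tPiece hI hφ hβ hδ e, coeff_tPiece hI (mk_mem hI α _) hβ hδ e]

/-- The graded pieces are the solution spaces. -/
noncomputable def pieceEquiv (α : σ → ℤ) : tPiece I α ≃ₗ[k] Sol I α where
  toFun φ := ⟨val hI α φ.1, val_mem hI α φ.1⟩
  map_add' φ ψ := by
    ext γ
    simp only [val, Submodule.coe_add]
    by_cases h : Src I α γ ∧ Good I γ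
    · simp [val, dif_pos h]
    · simp [val, dif_neg h]
  map_smul' t φ := by
    ext γ
    by_cases h : Src I α γ ∧ Good I γ
    · simp [val, dif_pos h]
    · simp [val, dif_neg h]
  invFun c := ⟨mk hI α c, mk_mem hI α c⟩
  left_inv φ := Subtype.ext (eq_mk_val hI φ.2).symm
  right_inv c := Subtype.ext (by simp [val_mk])

include hI in
lemma finrank_tPiece (α : σ → ℤ) : Module.finrank k (tPiece I α) = Module.finrank k (Sol I α) :=
  (pieceEquiv hI α).finrank_eq

section finite

variable [Module.Finite k (MvPolynomial σ k ⧸ I)]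

include hI in
omit [DecidableEq σ] in
lemma finite_good : {γ : σ → ℤ | Good I γ}.Finite := by
  classical
  let v : {γ : σ → ℤ | Good I γ} → MvPolynomial σ k ⧸ I := fun γ =>
    Ideal.Quotient.mk I (monomial (toN γ.1) 1)
  have hv : LinearIndependent k v := by
    rw [linearIndependent_iff']
    intro s g hg γ hγ
    have := congrArg (coeffQ hI γ.1 γ.2) hg
    rw [map_sum, map_zero, Finset.sum_eq_single γ] at this
    · simpa [v, coeffQ_mk] using this
    · intro δ _ hne
      rw [map_smul, coeffQ_mk, coeff_monomial, if_neg, smul_zero]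
      intro e
      exact hne (Subtype.ext (by rw [← cast_toN δ.2.1, e, cast_toN γ.2.1]))
    · exact fun h => absurd hγ h
  exact @Set.toFinite _ _ hv.finite

include hI in
lemma exists_gens : ∃ G : Finset (σ →₀ ℕ), (∀ β ∈ G, β ∈ exps I) ∧
    ∀ β ∈ exps I, ∃ β₀ ∈ G, β₀ ≤ β := by
  classical
  have hN : ∃ N : ℕ, ∀ i : σ, Finsupp.single i N ∈ exps I := by
    have hi : ∀ i : σ, ∃ N : ℕ, Finsupp.single i N ∈ exps I := by
      intro i
      by_contra hne
      push Not at hne
      refine Set.infinite_univ (α := ℕ) (Set.Finite.of_finite_image ((finite_good hI).subset ?_)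
        (f := fun N : ℕ => cast (Finsupp.single i N)) ?_)
      · rintro _ ⟨N, -, rfl⟩; exact (good_cast_iff I).mpr (hne N)
      · exact (cast_injective.comp (Finsupp.single_injective i)).injOn
    choose N hN using hi
    haveI := Fintype.ofFinite σ
    exact ⟨∑ i, N i, fun i => exps_upper I (Finsupp.single_le_single.mpr
      (Finset.single_le_sum (fun j _ => Nat.zero_le _) (Finset.mem_univ i))) (hN i)⟩
  obtain ⟨N, hN⟩ := hN
  haveI := Fintype.ofFinite σ
  refine ⟨(Finset.univ : Finset (σ → Fin (N + 1))).image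
    (fun f => Finsupp.equivFunOnFinite.symm fun i => (f i).1) |>.filter (· ∈ exps I),
    fun β hβ => (Finset.mem_filter.mp hβ).2, fun β hβ => ?_⟩
  let β₁ : σ →₀ ℕ := Finsupp.equivFunOnFinite.symm fun i => min (β i) N
  refine ⟨β₁, Finset.mem_filter.mpr ⟨Finset.mem_image.mpr
    ⟨fun i => ⟨min (β i) N, by omega⟩, Finset.mem_univ _, rfl⟩, ?_⟩, fun i => by simp [β₁]⟩
  by_cases h : ∃ i, N ≤ β i
  · obtain ⟨i, hi⟩ := h
    refine exps_upper I (fun l => ?_) (hN i)
    simp only [Finsupp.single_apply, β₁]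
    split_ifs with e
    · subst e; simp [hi]
    · simp
  · push Not at h
    have : β₁ = β := Finsupp.ext fun i => by simp [β₁, (h i).le]
    rwa [this]

include hI in
/-- Only finitely many degrees occur. -/
lemma finite_degrees : {α : σ → ℤ | Sol I α ≠ ⊥}.Finite := by
  classical
  obtain ⟨G, hG, hmin⟩ := exists_gens hI
  refine (((finite_good hI).prod G.finite_toSet).image fun x => x.1 - cast x.2).subset ?_
  intro α hα
  obtain ⟨c, hc, hc0⟩ := Submodule.exists_mem_ne_zero_of_ne_bot hα
  obtain ⟨γ, hγ⟩ := Function.ne_iff.mp hc0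
  obtain ⟨hs, hg⟩ : Src I α γ ∧ Good I γ := by_contra fun h => hγ (hc.1 γ h)
  obtain ⟨β, hβ, rfl⟩ := hs.exists_eq I
  obtain ⟨β₀, hβ₀, hle⟩ := hmin β hβ
  obtain ⟨m, rfl⟩ := le_iff_exists_add.mp hle
  have e : cast (β₀ + m) + α = cast β₀ + α + cast m := by simp; abel
  rw [e] at hg hγ
  have := Sol.translate I hc (src_cast I (hG _ hβ₀)) m hg
  have hg0 : Good I (cast β₀ + α) := by
    by_contra hb
    exact hγ (this.trans (hc.1 _ fun h => hb h.2))
  exact ⟨(cast β₀ + α, β₀), ⟨hg0, hβ₀⟩, by simp⟩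

/-- The degrees that occur. -/
noncomputable def degs : Finset (σ → ℤ) := (finite_degrees hI).toFinset

lemma mem_degs {α : σ → ℤ} : α ∈ degs hI ↔ Sol I α ≠ ⊥ := by simp [degs]

include hI in
theorem instFiniteSol (α : σ → ℤ) : FiniteDimensional k (Sol I α) := by
  classical
  haveI : Fintype {γ : σ → ℤ | Good I γ} := (finite_good hI).fintype
  refine Module.Finite.of_injective
    ({ toFun := fun c (γ : {γ : σ → ℤ | Good I γ}) => c.1 γ.1
       map_add' := fun _ _ => rfl
       map_smul' := fun _ _ => rfl } : Sol I α →ₗ[k] ({γ : σ → ℤ | Good I γ} → k)) ?_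
  intro c d h
  ext γ
  by_cases hg : Good I γ
  · exact congrFun h ⟨γ, hg⟩
  · rw [c.2.1 γ fun h => hg h.2, d.2.1 γ fun h => hg h.2]

lemma val_sum (α : σ → ℤ) {ι : Type*} (s : Finset ι) (f : ι → Tgt I) :
    val hI α (∑ x ∈ s, f x) = ∑ x ∈ s, val hI α (f x) := by
  funext γ
  rw [Finset.sum_apply]
  by_cases h : Src I α γ ∧ Good I γ
  · simp [val, dif_pos h]
  · simp [val, dif_neg h]

include hI in
lemma mk_zero_of_eq_bot {α : σ → ℤ} (h : Sol I α = ⊥) : tPiece I α = ⊥ := by
  rw [eq_bot_iff]
  intro φ hφ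
  have := (pieceEquiv hI α ⟨φ, hφ⟩).2
  simp only [h, Submodule.mem_bot] at this
  have h2 : pieceEquiv hI α ⟨φ, hφ⟩ = 0 := Subtype.ext this
  simpa using (pieceEquiv hI α).map_eq_zero_iff.mp h2

include hI in
/-- Dimension of a sum of graded pieces. -/
theorem finrank_iSup (p : (σ → ℤ) → Prop) [DecidablePred p] :
    Module.finrank k ↥(⨆ α : {α : σ → ℤ // p α}, tPiece I α.1) =
      ∑ α ∈ (degs hI).filter p, Module.finrank k (tPiece I α) := by
  classical
  haveI : ∀ α, FiniteDimensional k (tPiece I α) := fun α => by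
    haveI := instFiniteSol hI α
    exact (pieceEquiv hI α).symm.finiteDimensional
  haveI : ∀ α, Module.Free k (tPiece I α) := fun α => Module.Free.of_divisionRing k (tPiece I α)
  let D := (degs hI).filter p
  let Ψ : (Π α : D, tPiece I α.1) →ₗ[k] Tgt I := ∑ α : D, (tPiece I α.1).subtype ∘ₗ LinearMap.proj α
  have hΨ : ∀ f, Ψ f = ∑ α : D, (f α : Tgt I) := fun f => by simp [Ψ]
  have hinj : Function.Injective Ψ := by
    have hval : ∀ f (α : D), val hI α.1 (Ψ f) = val hI α.1 (f α : Tgt I) := by
      intro f α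
      rw [hΨ, val_sum, Finset.sum_eq_single α]
      · intro β _ hne
        rw [eq_mk_val hI (f β).2, val_mk, if_neg fun e => hne (Subtype.ext e.symm)]
      · simp
    intro f g hfg
    funext α
    refine (pieceEquiv hI α.1).injective (Subtype.ext ?_)
    show val hI α.1 (f α : Tgt I) = val hI α.1 (g α : Tgt I)
    rw [← hval f α, ← hval g α, hfg]
  have hrange : LinearMap.range Ψ = ⨆ α : {α : σ → ℤ // p α}, tPiece I α.1 := by
    apply le_antisymm
    · rintro _ ⟨f, rfl⟩
      rw [hΨ]
      exact Submodule.sum_mem _ fun α _ =>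
        Submodule.mem_iSup_of_mem ⟨α.1, (Finset.mem_filter.mp α.2).2⟩ (f α).2
    · refine iSup_le fun ⟨α, hα⟩ => ?_
      by_cases hd : α ∈ degs hI
      · intro φ hφ
        refine ⟨Pi.single ⟨α, Finset.mem_filter.mpr ⟨hd, hα⟩⟩ ⟨φ, hφ⟩, ?_⟩
        rw [hΨ, Finset.sum_eq_single ⟨α, Finset.mem_filter.mpr ⟨hd, hα⟩⟩]
        · simp
        · intro β _ hne; simp [Pi.single_eq_of_ne hne]
        · simp
      · rw [mem_degs, not_not] at hd
        simp [mk_zero_of_eq_bot hI hd]
  rw [← hrange, LinearMap.finrank_range_of_inj hinj, Module.finrank_pi_fintype]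
  exact Finset.sum_coe_sort D fun α => Module.finrank k (tPiece I α)

include hI in
/-- The graded pieces span everything. -/
theorem iSup_eq_top : (⨆ α : σ → ℤ, tPiece I α) = ⊤ := by
  classical
  rw [eq_top_iff]
  intro φ _
  let ψ : Tgt I := ∑ α ∈ degs hI, mk hI α ⟨val hI α φ, val_mem hI α φ⟩
  suffices φ = ψ by
    rw [this]
    exact Submodule.sum_mem _ fun α _ => Submodule.mem_iSup_of_mem α (mk_mem hI α _)
  refine tgt_ext hI fun β hβ => quot_ext hI fun δ hδ => ?_
  obtain ⟨α, rfl⟩ : ∃ α, δ = cast β + α := ⟨δ - cast β, by simp⟩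
  rw [← val_cast hI α φ hβ hδ, ← val_cast hI α ψ hβ hδ, val_sum]
  rw [Finset.sum_eq_single α]
  · rw [val_mk, if_pos rfl]
  · intro α' _ hne; rw [val_mk, if_neg hne.symm]
  · intro hα
    rw [mem_degs, not_not] at hα
    have : val hI α φ = 0 := by
      have := val_mem hI α φ
      rwa [hα, Submodule.mem_bot] at this
    rw [val_mk, if_pos rfl]; exact this

end finite

end coeff

end Groth.Agent.L13.HilbPn
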