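import Groth.Agent.L13.HilbPn.Stair
import Mathlib.Algebra.MvPolynomial.Rename

/-!
Strongly stable ideals in three variables: staircases and slices.
-/

set_option autoImplicit false

universe u

namespace Groth.Agent.L13.HilbPn

open MvPolynomial W4c1hilbpn

variable {k : Type u} [Field k] {I : Ideal (MvPolynomial (Fin 3) k)}

lemma e3_shift01 {i j c : ℕ} (hs : IsStronglyStable I) (h : e3 i (j + 1) c ∈ exps I) :
    e3 (i + 1) j c ∈ exps I := by
  have := hs.2 _ h 0 1 (by decide) (by simp [e3])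
  convert this using 1
  ext l; fin_cases l <;> simp [e3, Matrix.vecHead, Matrix.vecTail]

lemma e3_shift02 {i j c : ℕ} (hs : IsStronglyStable I) (h : e3 i j (c + 1) ∈ exps I) :
    e3 (i + 1) j c ∈ exps I := by
  have := hs.2 _ h 0 2 (by decide) (by simp [e3])
  convert this using 1
  ext l; fin_cases l <;> simp [e3, Matrix.vecHead, Matrix.vecTail]

lemma e3_shift12 {i j c : ℕ} (hs : IsStronglyStable I) (h : e3 i j (c + 1) ∈ exps I) :
    e3 i (j + 1) c ∈ exps I := by
  have := hs.2 _ h 1 2 (by decide) (by simp [e3])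
  convert this using 1
  ext l; fin_cases l <;> simp [e3, Matrix.vecHead, Matrix.vecTail]

lemma mem_iff_exps {σ : Type*} {J : Ideal (MvPolynomial σ k)} (hJ : IsMonomial J)
    (p : MvPolynomial σ k) : p ∈ J ↔ ∀ β ∈ p.support, β ∈ exps J := by
  refine ⟨fun hp β hβ => hJ p hp β hβ, fun h => ?_⟩
  rw [← p.support_sum_monomial_coeff]
  refine J.sum_mem fun β hβ => ?_
  rw [show monomial β (coeff β p) = C (coeff β p) * monomial β 1 by rw [C_mul_monomial, mul_one]]
  exact J.mul_mem_left _ (h β hβ)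

theorem stair_succ_le [Module.Finite k (MvPolynomial (Fin 3) k ⧸ I)] (hs : IsStronglyStable I)
    (i j : ℕ) : stairZ I (i + 1) j ≤ stairZ I i (j + 1) ∧ stairY I (i + 1) j ≤ stairY I i (j + 1) := by
  refine ⟨?_, ?_⟩
  · by_contra hlt
    exact (not_exps_iff_lt hs.1 (i + 1) j _).mpr (not_le.mp hlt)
      (e3_shift01 hs (not_not.mp fun h => lt_irrefl _ ((not_exps_iff_lt hs.1 i (j + 1) _).mp h)))
  · have hfin : {b : ℕ | e3 i b (j + 1) ∉ exps I}.Finite := by
      refine Set.Finite.of_finite_image (f := fun b : ℕ => cast (e3 i b (j + 1)))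
        ((finite_good hs.1).subset ?_) (fun a _ b _ h => ?_)
      · rintro _ ⟨b, hb, rfl⟩; exact (good_cast_iff I).mpr hb
      · have := congrFun h 1; simpa [cast, e3] using this
    exact Nat.card_mono (t := {b : ℕ | e3 i b (j + 1) ∉ exps I}) hfin
      (s := {b : ℕ | e3 (i + 1) b j ∉ exps I}) fun b hb hmem => hb (e3_shift02 hs hmem)

/-- The exponent of a slice monomial in the ideal. -/
noncomputable def lift2 (a : ℕ) (β : Fin 2 →₀ ℕ) : Fin 3 →₀ ℕ := e3 a (β 0) (β 1)

lemma lift2_inj (a : ℕ) : Function.Injective (lift2 a) := fun β γ h => by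
  ext l
  fin_cases l
  · simpa [lift2, e3] using congrArg (fun x : Fin 3 →₀ ℕ => x 1) h
  · simpa [lift2, e3] using congrArg (fun x : Fin 3 →₀ ℕ => x 2) h

lemma mapDomain_succ (a : ℕ) (β : Fin 2 →₀ ℕ) :
    Finsupp.mapDomain Fin.succ β + Finsupp.single 0 a = lift2 a β := by
  ext l
  fin_cases l
  · simp [lift2, e3, Finsupp.mapDomain_of_notMem_range, Fin.succ_ne_zero]
  · have := Finsupp.mapDomain_apply (Fin.succ_injective 2) β 0
    simp [lift2, e3] at this ⊢; exact this
  · have := Finsupp.mapDomain_apply (Fin.succ_injective 2) β 1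
    simp [lift2, e3] at this ⊢; exact this

lemma mem_sliceX_iff (hI : IsMonomial I) (a : ℕ) (f : MvPolynomial (Fin 2) k) :
    f ∈ sliceX I a ↔ ∀ β ∈ f.support, lift2 a β ∈ exps I := by
  classical
  rw [sliceX, Ideal.mem_comap, Submodule.mem_colon_singleton]
  change rename Fin.succ f * X 0 ^ a ∈ I ↔ _
  rw [mem_iff_exps hI, X_pow_eq_monomial]
  have hs : (rename Fin.succ f * monomial (Finsupp.single 0 a) 1).support =
      f.support.image (lift2 a) := by
    ext m
    simp only [Finset.mem_image, mem_support_iff]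
    constructor
    · intro hm
      rw [coeff_mul_monomial'] at hm
      split_ifs at hm with hle
      swap; · exact absurd rfl hm
      obtain ⟨β, hβ, hne⟩ := coeff_rename_ne_zero _ _ _ (by simpa using hm)
      refine ⟨β, hne, ?_⟩
      rw [← mapDomain_succ, hβ, tsub_add_cancel_of_le hle]
    · rintro ⟨β, hβ, rfl⟩
      rw [← mapDomain_succ, coeff_mul_monomial, coeff_rename_mapDomain _ (Fin.succ_injective 2)]
      simpa using hβ
  rw [hs]
  simp

lemma exps_sliceX (hI : IsMonomial I) (a : ℕ) {β : Fin 2 →₀ ℕ} :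
    β ∈ exps (sliceX I a) ↔ lift2 a β ∈ exps I := by
  show monomial β (1 : k) ∈ sliceX I a ↔ _
  rw [mem_sliceX_iff hI]; simp

theorem slice_stable (hs : IsStronglyStable I) (a : ℕ) :
    IsStronglyStable (sliceX I a) ∧
      (sliceX I a).colon {(X 0 : MvPolynomial (Fin 2) k)} ≤ sliceX I (a + 1) := by
  classical
  refine ⟨⟨fun p hp β hβ => (exps_sliceX hs.1 a).mpr ((mem_sliceX_iff hs.1 a p).mp hp β hβ),
    fun β hβ i j hij hpos => ?_⟩, fun f hf => ?_⟩
  · obtain ⟨rfl, rfl⟩ : i = 0 ∧ j = 1 := by revert i j; intro i j; fin_cases i <;> fin_cases j <;> simp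
    rw [exps_sliceX hs.1] at hβ ⊢
    obtain ⟨c, hc⟩ : ∃ c, β 1 = c + 1 := ⟨β 1 - 1, by omega⟩
    rw [lift2, hc] at hβ
    convert e3_shift12 hs hβ using 1
    ext l; fin_cases l <;> simp [lift2, e3, hc, Matrix.vecHead, Matrix.vecTail]
  · rw [Submodule.mem_colon_singleton, smul_eq_mul, mem_sliceX_iff hs.1] at hf
    rw [mem_sliceX_iff hs.1]
    intro β hβ
    have hmem : β + Finsupp.single 0 1 ∈ (f * X 0).support := by
      rw [mem_support_iff, X, coeff_mul_monomial]; simpa using hβ
    have := hf _ hmem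
    rw [show lift2 a (β + Finsupp.single 0 1) = e3 a (β 0 + 1) (β 1) by simp [lift2]] at this
    exact e3_shift01 hs this

end Groth.Agent.L13.HilbPn
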