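import Groth.Agent.L13.HilbPn.Vanish
import Groth.Agent.L13.HilbPn.Slice
import Mathlib.RingTheory.MvPolynomial.Ideal
import Mathlib.Data.Sym.Card
import Mathlib.Data.Finsupp.Multiset

/-!
The tangent pieces at a power of the ideal of the variables.
-/

set_option autoImplicit false

universe u

namespace Groth.Agent.L13.HilbPn

open MvPolynomial W4c1hilbpn

section general

variable {σ : Type} [Fintype σ] {k : Type u} [Field k] {I : Ideal (MvPolynomial σ k)}

/-- Finitely many standard monomials: finite colength. -/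
theorem finite_quot_of_finite_good (h : {γ : σ → ℤ | Good I γ}.Finite) :
    Module.Finite k (MvPolynomial σ k ⧸ I) := by
  classical
  haveI := h.to_subtype
  refine Module.finite_def.mpr ⟨h.toFinset.image fun γ => Ideal.Quotient.mk I (monomial (toN γ) 1), ?_⟩
  rw [eq_top_iff]
  intro x _
  obtain ⟨p, rfl⟩ := Ideal.Quotient.mk_surjective x
  rw [← p.support_sum_monomial_coeff, map_sum]
  refine Submodule.sum_mem _ fun β _ => ?_
  by_cases hβ : β ∈ exps I
  · rw [show monomial β (coeff β p) = C (coeff β p) * monomial β 1 by rw [C_mul_monomial, mul_one],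
      Ideal.Quotient.eq_zero_iff_mem.mpr (I.mul_mem_left _ hβ)]
    exact Submodule.zero_mem _
  · rw [show monomial β (coeff β p) = coeff β p • monomial β 1 by simp [smul_monomial],
      ← Ideal.Quotient.mkₐ_eq_mk k, map_smul]
    refine Submodule.smul_mem _ _ (Submodule.subset_span ?_)
    simp only [Finset.coe_image, Set.Finite.coe_toFinset, Set.mem_image]
    exact ⟨cast β, (good_cast_iff I).mpr hβ, by simp⟩

/-- The colength is the number of standard monomials. -/
theorem finrank_quot_eq_card (hI : IsMonomial I) [Module.Finite k (MvPolynomial σ k ⧸ I)] :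
    Module.finrank k (MvPolynomial σ k ⧸ I) = Nat.card {γ : σ → ℤ // Good I γ} := by
  classical
  haveI : Finite {γ : σ → ℤ // Good I γ} := (finite_good hI).to_subtype
  haveI := Fintype.ofFinite {γ : σ → ℤ // Good I γ}
  let Φ : (MvPolynomial σ k ⧸ I) →ₗ[k] ({γ : σ → ℤ // Good I γ} → k) :=
    LinearMap.pi fun γ => coeffQ hI γ.1 γ.2
  have hΦ : Function.Bijective Φ := by
    refine ⟨fun x y h => quot_ext hI fun γ hγ => congrFun h ⟨γ, hγ⟩, fun v => ?_⟩
    refine ⟨Ideal.Quotient.mk I (∑ γ, monomial (toN γ.1) (v γ)), funext fun δ => ?_⟩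
    show coeffQ hI δ.1 δ.2 (Ideal.Quotient.mk I _) = v δ
    rw [coeffQ_mk, coeff_sum, Finset.sum_eq_single δ, coeff_monomial, if_pos rfl]
    · intro γ _ hne
      rw [coeff_monomial, if_neg]
      intro e
      exact hne (Subtype.ext (by rw [← cast_toN γ.2.1, e, cast_toN δ.2.1]))
    · simp
  rw [(LinearEquiv.ofBijective Φ hΦ).finrank_eq, Module.finrank_fintype_fun_eq_card,
    Nat.card_eq_fintype_card]

lemma card_sum_eq (n t : ℕ) : Nat.card {P : Fin n → ℕ // ∑ i, P i = t} = (n + t - 1).choose t := by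
  classical
  rw [Nat.card_congr (Sym.equivNatSumOfFintype (Fin n) t).symm, Nat.card_eq_fintype_card,
    Sym.card_sym_eq_choose, Fintype.card_fin]

lemma card_sum_lt (n r : ℕ) (hn : 0 < n) :
    Nat.card {P : Fin n → ℕ // ∑ i, P i < r} = (n + r - 1).choose n := by
  rcases r with - | t
  · have : IsEmpty {P : Fin n → ℕ // ∑ i, P i < 0} := ⟨fun P => Nat.not_lt_zero _ P.2⟩
    rw [Nat.card_of_isEmpty, Nat.choose_eq_zero_of_lt (by omega)]
  have e : {P : Fin n → ℕ // ∑ i, P i < t + 1} ≃ {Q : Fin (n + 1) → ℕ // ∑ i, Q i = t} :=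
    { toFun := fun P => ⟨Fin.cons (t - ∑ i, P.1 i) P.1, by
        have := P.2; simp [Fin.sum_univ_succ]; omega⟩
      invFun := fun Q => ⟨Fin.tail Q.1, by
        have := Q.2; simp [Fin.sum_univ_succ, Fin.tail] at this ⊢; omega⟩
      left_inv := fun P => by simp
      right_inv := fun Q => by
        refine Subtype.ext (funext fun i => ?_)
        have := Q.2
        simp only [Fin.sum_univ_succ] at this
        refine Fin.cases ?_ ?_ i
        · simp [Fin.tail]; omega
        · intro j; simp [Fin.tail] }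
  rw [Nat.card_congr e, card_sum_eq, show n + 1 + t - 1 = n + (t + 1) - 1 by omega,
    ← Nat.choose_symm (by omega)]
  congr 1
  omega

end general

section power

variable {n : ℕ} {k : Type u} [Field k] (r : ℕ)

/-- The power of the ideal of the variables. -/
noncomputable abbrev mPow : Ideal (MvPolynomial (Fin n) k) :=
  (Ideal.span (Set.range (MvPolynomial.X : Fin n → MvPolynomial (Fin n) k))) ^ r

lemma mem_mPow {p : MvPolynomial (Fin n) k} :
    p ∈ mPow (n := n) (k := k) r ↔ ∀ β ∈ p.support, r ≤ ∑ i, β i := by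
  have := mem_pow_idealOfVars_iff (σ := Fin n) (R := k) r p
  simpa [Finsupp.degree_eq_sum] using this

lemma exps_mPow {β : Fin n →₀ ℕ} : β ∈ exps (mPow (n := n) (k := k) r) ↔ r ≤ ∑ i, β i := by
  show monomial β (1 : k) ∈ mPow r ↔ _
  classical
  rw [mem_mPow]; simp

lemma mPow_monomial : IsMonomial (mPow (n := n) (k := k) r) :=
  fun p hp β hβ => (exps_mPow r).mpr ((mem_mPow r).mp hp β hβ)

lemma sum_toN {γ : Fin n → ℤ} (h : ∀ i, 0 ≤ γ i) : ((∑ i, toN γ i : ℕ) : ℤ) = ∑ i, γ i := by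
  push_cast
  exact Finset.sum_congr rfl fun i _ => by simp [toN, h i]

lemma good_mPow {γ : Fin n → ℤ} :
    Good (mPow (k := k) r) γ ↔ (∀ i, 0 ≤ γ i) ∧ ∑ i, γ i < r :=
  and_congr_right fun h => by
    rw [exps_mPow, ← sum_toN h]; omega

lemma src_mPow {α γ : Fin n → ℤ} :
    Src (mPow (k := k) r) α γ ↔ (∀ i, α i ≤ γ i) ∧ r + ∑ i, α i ≤ ∑ i, γ i :=
  and_congr_right fun h => by
    have := sum_toN (γ := γ - α) fun i => by have := h i; simp; omega
    simp only [Pi.sub_apply, Finset.sum_sub_distrib] at this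
    rw [exps_mPow]; omega

lemma goodEquiv : Nonempty ({γ : Fin n → ℤ // Good (mPow (k := k) r) γ} ≃ {P : Fin n → ℕ // ∑ i, P i < r}) :=
  ⟨{ toFun := fun γ => ⟨fun i => (γ.1 i).toNat, by
      obtain ⟨h0, h⟩ := (good_mPow r).mp γ.2
      have : ((∑ i, (γ.1 i).toNat : ℕ) : ℤ) = ∑ i, γ.1 i := by
        push_cast; exact Finset.sum_congr rfl fun i _ => by simp [h0 i]
      beta_reduce; omega⟩
     invFun := fun P => ⟨fun i => (P.1 i : ℤ), (good_mPow r).mpr ⟨fun i => by simp, by
       have := P.2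
       calc ∑ i, (P.1 i : ℤ) = ((∑ i, P.1 i : ℕ) : ℤ) := by push_cast; rfl
         _ < r := by exact_mod_cast this⟩⟩
     left_inv := fun γ => Subtype.ext (funext fun i => by simpa using γ.2.1 i)
     right_inv := fun P => Subtype.ext (funext fun i => by simp) }⟩

theorem finite_mPow : Module.Finite k (MvPolynomial (Fin n) k ⧸ mPow (n := n) (k := k) r) := by
  refine finite_quot_of_finite_good ?_
  refine ((Fintype.piFinset fun _ : Fin n => Finset.Ico (0 : ℤ) r).finite_toSet).subset fun γ hγ => ?_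
  obtain ⟨h0, h⟩ := (good_mPow r).mp hγ
  exact Fintype.mem_piFinset.mpr fun i => Finset.mem_Ico.mpr ⟨h0 i,
    (Finset.single_le_sum (fun j _ => h0 j) (Finset.mem_univ i)).trans_lt h⟩

theorem finrank_quot_mPow (hn : 0 < n) :
    Module.finrank k (MvPolynomial (Fin n) k ⧸ mPow (n := n) (k := k) r) = (n + r - 1).choose n := by
  haveI := finite_mPow (n := n) (k := k) r
  rw [finrank_quot_eq_card (mPow_monomial r), Nat.card_congr (goodEquiv r).some, card_sum_lt n r hn]

lemma sol_mPow_eq_bot (hn : 2 ≤ n) {α : Fin n → ℤ} (hα : ∑ i, α i ≠ -1) :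
    Sol (mPow (k := k) r) α = ⊥ := by
  classical
  haveI := finite_mPow (n := n) (k := k) r
  haveI : Nontrivial (Fin n) := Fin.nontrivial_iff_two_le.mpr hn
  rw [Submodule.eq_bot_iff]
  intro c hc
  by_contra hne
  obtain ⟨γ₁, hγ₁⟩ := Function.ne_iff.mp hne
  have hS' : ∀ γ, c γ ≠ 0 → Src (mPow (k := k) r) α γ ∧ Good (mPow (k := k) r) γ :=
    fun γ h => by_contra fun h' => h (hc.1 γ h')
  obtain ⟨hs₁, hg₁⟩ := hS' γ₁ hγ₁
  have hneg : ∑ i, α i ≤ -2 := by
    have := (src_mPow r).mp hs₁; have := (good_mPow r).mp hg₁; omega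
  obtain ⟨j, hj⟩ : ∃ j, α j < 0 := by
    by_contra h
    push Not at h
    have := Finset.sum_nonneg (s := Finset.univ) fun i _ => h i
    omega
  obtain ⟨s, hs⟩ := exists_ne j
  let S := (finite_good (mPow_monomial (n := n) (k := k) r)).toFinset.filter fun γ => c γ ≠ 0
  have hS : ∀ γ, c γ ≠ 0 → γ ∈ S := fun γ h =>
    Finset.mem_filter.mpr ⟨(Set.Finite.mem_toFinset _).mpr (hS' γ h).2, h⟩
  obtain ⟨γ₀, hγ₀, hmin⟩ := S.exists_min_image (fun γ => γ j) ⟨γ₁, hS γ₁ hγ₁⟩
  obtain ⟨γ, hγ, hmax⟩ := (S.filter fun γ => γ j = γ₀ j).exists_max_image (fun γ => γ s)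
    ⟨γ₀, Finset.mem_filter.mpr ⟨hγ₀, rfl⟩⟩
  obtain ⟨hγS, hγj⟩ := Finset.mem_filter.mp hγ
  have hcγ := (Finset.mem_filter.mp hγS).2
  obtain ⟨hsrc, hgood⟩ := hS' γ hcγ
  obtain ⟨hle, hsum⟩ := (src_mPow r).mp hsrc
  obtain ⟨hnn, hlt⟩ := (good_mPow r).mp hgood
  have htop : ∑ i, γ i = r - 1 := by
    by_contra hne'
    have hg' : Good (mPow (k := k) r) (γ + Pi.single s 1) := (good_mPow r).mpr
      ⟨fun i => by have := hnn i; simp only [Pi.add_apply, Pi.single_apply]; split_ifs <;> omega,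
        by simp [Finset.sum_add_distrib]; omega⟩
    have hm := hmax (γ + Pi.single s 1) (Finset.mem_filter.mpr
      ⟨hS _ (by rw [hc.2 γ s hsrc hg']; exact hcγ), by simp [hs.symm, hγj]⟩)
    simp at hm
  let δ : Fin n → ℤ := γ - Pi.single j 1
  have hsδ : Src (mPow (k := k) r) α δ := (src_mPow r).mpr ⟨fun i => by
      have := hle i; have := hnn j
      simp only [δ, Pi.sub_apply, Pi.single_apply]; split_ifs with e
      · subst e; omega
      · omega,
    by simp [δ, Finset.sum_sub_distrib]; omega⟩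
  have hcδ : c δ ≠ 0 := by
    have := Sol.translate _ hc hsδ (Finsupp.single j 1) (by simpa [δ, cast_single] using hgood)
    rw [show δ + cast (Finsupp.single j 1) = γ by simp [δ, cast_single]] at this
    exact this ▸ hcγ
  have := hmin δ (hS δ hcδ)
  simp [δ, hγj] at this

/-- In total degree `-1` the solutions are all functions on the top layer. -/
lemma finrank_sol_mPow {α : Fin n → ℤ} (hα : ∑ i, α i = -1) :
    Module.finrank k (Sol (mPow (k := k) r) α) =
      Nat.card {γ : Fin n → ℤ // (∀ i, 0 ≤ γ i ∧ α i ≤ γ i) ∧ ∑ i, γ i = (r : ℤ) - 1} := by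
  classical
  haveI := finite_mPow (n := n) (k := k) r
  let L := {γ : Fin n → ℤ // (∀ i, 0 ≤ γ i ∧ α i ≤ γ i) ∧ ∑ i, γ i = (r : ℤ) - 1}
  have hL : ∀ γ : Fin n → ℤ, (Src (mPow (k := k) r) α γ ∧ Good (mPow (k := k) r) γ) ↔
      ((∀ i, 0 ≤ γ i ∧ α i ≤ γ i) ∧ ∑ i, γ i = (r : ℤ) - 1) := fun γ => by
    rw [src_mPow, good_mPow, hα]
    exact ⟨fun ⟨⟨a, b⟩, c, d⟩ => ⟨fun i => ⟨c i, a i⟩, by omega⟩,
      fun ⟨a, b⟩ => ⟨⟨fun i => (a i).2, by omega⟩, fun i => (a i).1, by omega⟩⟩
  haveI : Finite L := ((finite_good (mPow_monomial (n := n) (k := k) r)).subset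
    (fun γ hγ => ((hL γ).mpr hγ).2)).to_subtype
  haveI := Fintype.ofFinite L
  let e : Sol (mPow (k := k) r) α ≃ₗ[k] (L → k) :=
    { toFun := fun c γ => c.1 γ.1
      map_add' := fun _ _ => rfl
      map_smul' := fun _ _ => rfl
      invFun := fun f => ⟨fun γ => if h : _ then f ⟨γ, h⟩ else 0, fun γ h => dif_neg fun h' =>
        h ((hL γ).mpr h'), fun γ i hs hg => by
          exfalso
          have := ((src_mPow r).mp hs).2
          have h2 := ((good_mPow r).mp hg).2
          simp [Finset.sum_add_distrib] at h2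
          omega⟩
      left_inv := fun c => by
        ext γ
        by_cases h : (∀ i, 0 ≤ γ i ∧ α i ≤ γ i) ∧ ∑ i, γ i = (r : ℤ) - 1
        · exact dif_pos h
        · exact (dif_neg h).trans (c.2.1 γ fun h' => h ((hL γ).mp h')).symm
      right_inv := fun f => funext fun γ => dif_pos γ.2 }
  rw [e.finrank_eq, Module.finrank_fintype_fun_eq_card, Nat.card_eq_fintype_card]

theorem finrank_tPiece_mPow (hn : 2 ≤ n) (α : Fin n → ℤ) :
    Module.finrank k (tPiece (mPow (k := k) r) α) =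
      if (∑ i, α i = -1 ∧ ∑ i, (-α i).toNat ≤ r)
        then Nat.choose (n + r - (∑ i, (-α i).toNat) - 1) (n - 1) else 0 := by
  classical
  rw [finrank_tPiece (mPow_monomial r)]
  by_cases h1 : ∑ i, α i = -1
  swap
  · rw [if_neg (fun h => h1 h.1), sol_mPow_eq_bot r hn h1, finrank_bot]
  rw [finrank_sol_mPow r h1]
  set w := ∑ i, (-α i).toNat with hw
  have hp : ∑ i, max (α i) 0 = (w : ℤ) - 1 := by
    have : ∑ i, max (α i) 0 = (w : ℤ) + ∑ i, α i := by
      rw [hw]; push_cast; rw [← Finset.sum_add_distrib]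
      exact Finset.sum_congr rfl fun i _ => by omega
    omega
  by_cases h2 : w ≤ r
  swap
  · rw [if_neg (fun h => h2 h.2)]
    refine @Nat.card_of_isEmpty _ ⟨fun γ => ?_⟩
    have := Finset.sum_le_sum (s := Finset.univ) fun i _ => max_le (γ.2.1 i).2 (γ.2.1 i).1
    rw [hp, γ.2.2] at this
    omega
  rw [if_pos ⟨h1, h2⟩]
  let e : {γ : Fin n → ℤ // (∀ i, 0 ≤ γ i ∧ α i ≤ γ i) ∧ ∑ i, γ i = (r : ℤ) - 1} ≃
      {P : Fin n → ℕ // ∑ i, P i = r - w} :=
    { toFun := fun γ => ⟨fun i => (γ.1 i - max (α i) 0).toNat, by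
        have : ((∑ i, (γ.1 i - max (α i) 0).toNat : ℕ) : ℤ) = ∑ i, γ.1 i - ∑ i, max (α i) 0 := by
          push_cast; rw [← Finset.sum_sub_distrib]
          exact Finset.sum_congr rfl fun i _ => by have := γ.2.1 i; omega
        rw [γ.2.2, hp] at this; beta_reduce; omega⟩
      invFun := fun P => ⟨fun i => max (α i) 0 + P.1 i, fun i => ⟨by beta_reduce; omega, by beta_reduce; omega⟩, by
        rw [Finset.sum_add_distrib, hp]
        have := congrArg (fun x : ℕ => (x : ℤ)) P.2
        push_cast [h2] at this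
        omega⟩
      left_inv := fun γ => Subtype.ext (funext fun i => by have := γ.2.1 i; simp; omega)
      right_inv := fun P => Subtype.ext (funext fun i => by simp) }
  rw [Nat.card_congr e, card_sum_eq, ← Nat.choose_symm (by omega)]
  congr 1 <;> omega

end power

end Groth.Agent.L13.HilbPn
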