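import Groth.Agent.L13.HilbPn.Comb
import Groth.Agent.L13.HilbPn.MPow
import Mathlib.Data.Fin.Tuple.Basic

/-!
The degree zero homomorphisms of the ideal of a hyperplane power and a point.
-/

set_option autoImplicit false

universe u

namespace Groth.Agent.L13.HilbPn

open MvPolynomial W4c1hilbpn

variable {k : Type u} [Field k]

/-- The ideal. -/
noncomputable def bI (k : Type u) [Field k] (n q : ℕ) : Ideal (MvPolynomial (Fin (n + 1)) k) :=
  Ideal.span ({f : MvPolynomial (Fin (n + 1)) k | ∃ i : Fin (n + 1), i.val + 1 ≤ n ∧ f = X 0 * X i} ∪ {X 1 ^ q})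

/-- The generators. -/
noncomputable def bG (n q : ℕ) : Option (Fin n) → Fin (n + 1) →₀ ℕ
  | none => Finsupp.single 1 q
  | some i => Finsupp.single 0 1 + Finsupp.single i.castSucc 1

lemma bI_eq (n q : ℕ) :
    bI k n q = Ideal.span ((fun β => monomial β (1 : k)) '' Set.range (bG n q)) := by
  rw [bI]
  congr 1
  ext f
  constructor
  · rintro (⟨i, hi, rfl⟩ | rfl)
    · exact ⟨_, ⟨some ⟨i.1, by omega⟩, rfl⟩, by simp [bG, X, monomial_mul]⟩
    · exact ⟨_, ⟨none, rfl⟩, by simp [bG, X_pow_eq_monomial]⟩
  · rintro ⟨_, ⟨(- | i), rfl⟩, rfl⟩
    · exact Or.inr (by simp [bG, X_pow_eq_monomial])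
    · exact Or.inl ⟨i.castSucc, by simp, by simp [bG, X, monomial_mul]⟩

/-- The generator data. -/
noncomputable def bT (k : Type u) [Field k] (n q : ℕ) : Gens (bI k n q) (Option (Fin n)) :=
  gensOfSpan (bG n q) (bI_eq n q)

section

variable {n q : ℕ}

lemma one_val (hn : 3 ≤ n) : ((1 : Fin (n + 1)) : ℕ) = 1 := by
  rw [Fin.val_one']; exact Nat.mod_eq_of_lt (by omega)

lemma bGood (hn : 3 ≤ n) {γ : Fin (n + 1) → ℤ} :
    Good (bI k n q) γ ↔ (∀ l, 0 ≤ γ l) ∧ γ 1 < q ∧ γ 0 ≤ 1 ∧
      (γ 0 = 1 → ∀ l : Fin (n + 1), l.1 ≠ 0 → l.1 ≠ n → γ l = 0) := by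
  have h1 := one_val hn
  rw [good_iff_gens (bT k n q)]
  refine and_congr_right fun h0 => ?_
  constructor
  · intro h
    have hq : γ 1 < q := by
      obtain ⟨l, hl⟩ := h none
      simp only [bT, gensOfSpan, bG, Finsupp.single_apply] at hl
      have := h0 l
      split_ifs at hl with e
      · subst e; exact hl
      · simp at hl; omega
    refine ⟨hq, ?_, fun e l hl hl' => ?_⟩
    · obtain ⟨l, hl⟩ := h (some ⟨0, by omega⟩)
      have := h0 l
      simp only [bT, gensOfSpan, bG, Finsupp.add_apply, Finsupp.single_apply, Fin.ext_iff,
        Fin.val_castSucc, Fin.val_zero] at hl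
      split_ifs at hl with e
      · rw [show l = 0 from Fin.ext (by simpa using e.symm)] at hl; simp at hl; omega
      · simp at hl; omega
    · obtain ⟨l', hl''⟩ := h (some ⟨l.1, by omega⟩)
      have := h0 l'
      simp only [bT, gensOfSpan, bG, Finsupp.add_apply, Finsupp.single_apply, Fin.ext_iff,
        Fin.val_castSucc, Fin.val_zero] at hl''
      split_ifs at hl'' with ea eb eb
      · omega
      · rw [show l' = 0 from Fin.ext ea.symm] at hl''; simp [e] at hl''
      · rw [show l' = l from Fin.ext eb.symm] at hl''
        have := h0 l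
        simp at hl''; omega
      · simp at hl''; omega
  · rintro ⟨hq, h01, hmid⟩ (- | i)
    · exact ⟨1, by simpa [bT, gensOfSpan, bG] using hq⟩
    · rcases Nat.eq_zero_or_pos i.1 with hi | hi
      · refine ⟨0, ?_⟩
        simp [bT, gensOfSpan, bG, show i.castSucc = (0 : Fin (n + 1)) from Fin.ext hi]
        omega
      · by_cases h : γ 0 = 1
        · refine ⟨i.castSucc, ?_⟩
          have := hmid h i.castSucc (by simp; omega) (by simp; omega)
          simp [bT, gensOfSpan, bG, this]
        · refine ⟨0, ?_⟩
          have := h0 0
          simp [bT, gensOfSpan, bG, Finsupp.single_apply, Fin.ext_iff]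
          omega

/-- The unit vectors as integer functions. -/
def ev (i : Fin (n + 1)) : Fin (n + 1) → ℤ := fun l => if l.1 = i.1 then 1 else 0

lemma sum_ev (i : Fin (n + 1)) : ∑ l, ev i l = 1 := by
  simp [ev, ← Fin.ext_iff]

lemma bTgt_some (α : Fin (n + 1) → ℤ) (i : Fin n) (l : Fin (n + 1)) :
    tgtPt (bT k n q) α (some i) l =
      (if l.1 = 0 then 1 else 0) + (if l.1 = i.1 then 1 else 0) + α l := by
  simp only [tgtPt, bT, gensOfSpan, bG, Pi.add_apply, cast, Finsupp.add_apply, Finsupp.single_apply,
    Fin.ext_iff, Fin.val_castSucc, Fin.val_zero, eq_comm (a := 0), eq_comm (a := (i : ℕ))]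
  push_cast; rfl

lemma bTgt_none (hn : 3 ≤ n) (α : Fin (n + 1) → ℤ) (l : Fin (n + 1)) :
    tgtPt (bT k n q) α none l = (if l.1 = 1 then (q : ℤ) else 0) + α l := by
  simp only [tgtPt, bT, gensOfSpan, bG, Pi.add_apply, cast, Finsupp.single_apply, Fin.ext_iff,
    one_val hn, eq_comm (a := 1)]
  push_cast; rfl

lemma ev_apply (i l : Fin (n + 1)) : ev i l = if l.1 = i.1 then 1 else 0 := rfl

/-- The first family of representatives. -/
abbrev BX (n q : ℕ) : Type :=
  {P : Fin n → ℕ // ∑ i, P i = q ∧ P ≠ fun i => if i.1 = 0 then q else 0}

open Classical in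
/-- The targets of the first family. -/
noncomputable def bDel (P : BX n q) : Fin (n + 1) → ℤ :=
  if P.1 = (fun i : Fin n => if i.1 + 1 = n then q else 0) then
    fun l => if l.1 = 0 then 1 else if l.1 = n then (q : ℤ) - 1 else 0
  else Fin.cons 0 fun i => (P.1 i : ℤ)

lemma sum_split (f : Fin (n + 1) → ℤ) (a b : Fin (n + 1)) (hab : a ≠ b)
    (h : ∀ l, l ≠ a → l ≠ b → f l = 0) : ∑ l, f l = f a + f b := by
  rw [← Finset.sum_pair hab]
  refine (Finset.sum_subset (Finset.subset_univ _) fun l _ hl => ?_).symm
  simp at hl; exact h l hl.1 hl.2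

lemma bDel_spec (hn : 3 ≤ n) (hq : 2 ≤ q) (P : BX n q) :
    Good (bI k n q) (bDel P) ∧ ∑ l, bDel P l = q ∧
      ¬ (bDel P 0 = 0 ∧ ∀ l : Fin (n + 1), l.1 ≠ n → bDel P l = 0) := by
  classical
  have h1 := one_val hn
  unfold bDel
  split_ifs with h
  · refine ⟨(bGood hn).mpr ⟨fun l => by split_ifs <;> omega, ?_, by simp, fun _ l a b => by simp [a, b]⟩,
      ?_, fun hh => by simp at hh⟩
    · rw [if_neg (by omega), if_neg (by omega)]; omega
    · rw [sum_split _ 0 (Fin.last n) (by simp [Fin.ext_iff]; omega) fun l a b => by
        simp only [ne_eq, Fin.ext_iff, Fin.val_zero, Fin.val_last] at a b; rw [if_neg a, if_neg b]]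
      simp; omega
  · have hP := P.2.1
    refine ⟨(bGood hn).mpr ⟨fun l => Fin.cases (by simp) (fun i => by simp) l, ?_, by simp,
      fun hh => by simp at hh⟩, by simp [Fin.sum_univ_succ]; exact_mod_cast hP, fun hh => h ?_⟩
    · rw [show (1 : Fin (n + 1)) = Fin.succ (⟨0, by omega⟩ : Fin n) from Fin.ext (by rw [Fin.val_succ, h1]), Fin.cons_succ]
      have := Finset.single_le_sum (f := P.1) (fun j _ => Nat.zero_le _) (Finset.mem_univ ⟨0, by omega⟩)
      rcases (hP ▸ this).lt_or_eq with hl | he
      · exact_mod_cast hl
      · exfalso
        refine P.2.2 (funext fun i => ?_)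
        by_cases hi : i.1 = 0
        · rw [if_pos hi, show i = ⟨0, by omega⟩ from Fin.ext hi, he]
        · rw [if_neg hi]
          have h2 := Finset.add_le_sum (f := P.1) (fun j _ => Nat.zero_le _) (Finset.mem_univ ⟨0, by omega⟩)
            (Finset.mem_univ i) (fun e => hi (by rw [← e]))
          rw [hP, he] at h2
          omega
    · have hz : ∀ i : Fin n, i.1 + 1 ≠ n → P.1 i = 0 := fun i hi => by
        have := hh.2 i.succ (by simpa using hi)
        simpa using this
      funext i
      split_ifs with hi
      · exact (Finset.sum_eq_single i (fun j _ hj => hz j fun e => hj (Fin.ext (by omega))) (by simp)).symm.trans hP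
      · exact hz i hi

lemma bDel_inj (hn : 3 ≤ n) : Function.Injective (bDel (n := n) (q := q)) := by
  classical
  intro P Q e
  unfold bDel at e
  split_ifs at e with hP hQ hQ
  · exact Subtype.ext (hP.trans hQ.symm)
  · simpa using congrFun e 0
  · simpa using congrFun e 0
  · refine Subtype.ext (funext fun i => ?_)
    simpa using congrFun e i.succ

/-- The degrees of the representatives. -/
noncomputable def bAl : BX n q ⊕ (Fin n ⊕ Fin n) → Fin (n + 1) → ℤ
  | .inl P => fun l => bDel P l - if l.1 = 1 then (q : ℤ) else 0
  | .inr (.inl i) => fun l => (if l.1 = n then 1 else 0) - if l.1 = i.1 then 1 else 0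
  | .inr (.inr m) => fun l => (if l.1 = m.1 + 1 then 1 else 0) - if l.1 = 0 then 1 else 0

/-- The representative generators. -/
def bVe (hn : 3 ≤ n) : BX n q ⊕ (Fin n ⊕ Fin n) → Option (Fin n)
  | .inl _ => none
  | .inr (.inl i) => some i
  | .inr (.inr _) => some ⟨2, by omega⟩

lemma bAl_inj (hn : 3 ≤ n) (hq : 2 ≤ q) : Function.Injective fun r => (bAl (q := q) r, bVe (q := q) hn r) := by
  rintro (P | i | m) (P' | i' | m') e <;> simp [bVe] at e
  · have e1 := e
    congr 1
    refine bDel_inj hn (funext fun l => ?_)
    simpa [bAl] using congrFun e1 l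
  · obtain ⟨-, rfl⟩ := e; rfl
  · obtain ⟨e1, e2⟩ := e
    have := congrFun e1 0
    simp [bAl, e2] at this
    split_ifs at this <;> simp_all <;> omega
  · obtain ⟨e1, e2⟩ := e
    have := congrFun e1 0
    simp [bAl, ← e2] at this
    split_ifs at this <;> simp_all <;> omega
  · have e1 := e
    have := congrFun e1 ⟨m.1 + 1, by omega⟩
    simp [bAl] at this
    simp [Fin.ext_iff, this]

theorem finrank_bI (hn : 3 ≤ n) (hq : 2 ≤ q) (hcase : n = 3 → 4 ≤ q) :
    Module.finrank k ↥(⨆ α : {α : Fin (n + 1) → ℤ // ∑ i, α i = 0}, tPiece (bI k n q) α.1) =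
      2 * n - 1 + Nat.choose (n + q - 1) (n - 1) := by
  classical
  have h1 := one_val hn
  have hA : Finite {P : Fin n → ℕ // ∑ i, P i = q} :=
    Finite.of_equiv _ (Sym.equivNatSumOfFintype (Fin n) q)
  haveI : Finite (BX n q) := Finite.of_injective (fun P : BX n q => (⟨P.1, P.2.1⟩ : {P : Fin n → ℕ // ∑ i, P i = q}))
    fun P Q e => Subtype.ext (congrArg (fun x : {P : Fin n → ℕ // ∑ i, P i = q} => x.1) e)
  haveI := Fintype.ofFinite (BX n q)
  rw [finrank_hom0_eq (bT k n q) bAl (bVe hn) ?_ (bAl_inj hn hq) ?_ ?_]
  · have hX : Nat.card (BX n q) + 1 = Nat.choose (n + q - 1) (n - 1) := by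
      haveI := Fintype.ofFinite {P : Fin n → ℕ // ∑ i, P i = q}
      let P₁ : {P : Fin n → ℕ // ∑ i, P i = q} := ⟨fun i => if i.1 = 0 then q else 0, by
        rw [Finset.sum_eq_single ⟨0, by omega⟩ (fun j _ hj => if_neg fun e => hj (Fin.ext e)) (by simp)]
        simp⟩
      have e : BX n q ≃ {P : {P : Fin n → ℕ // ∑ i, P i = q} // P ≠ P₁} :=
        { toFun := fun P => ⟨⟨P.1, P.2.1⟩, fun e => P.2.2 (congrArg Subtype.val e)⟩
          invFun := fun P => ⟨P.1.1, P.1.2, fun e => P.2 (Subtype.ext e)⟩
          left_inv := fun _ => rfl
          right_inv := fun _ => rfl }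
      have hc := card_sum_eq n q
      rw [Nat.card_eq_fintype_card] at hc
      rw [Nat.card_congr e, Nat.card_eq_fintype_card, Fintype.card_subtype_compl, Fintype.card_subtype_eq, hc,
        show n + q - 1 = q + (n - 1) by omega, Nat.choose_symm_add]
      have := Nat.choose_pos (show n - 1 ≤ q + (n - 1) by omega)
      omega
    rw [Fintype.card_sum, Fintype.card_sum, Fintype.card_fin, ← Nat.card_eq_fintype_card]
    omega
  · rintro (P | i | m)
    · simp only [bAl, Finset.sum_sub_distrib, (bDel_spec (k := k) hn hq P).2.1]
      rw [Finset.sum_eq_single 1 (fun j _ hj => if_neg fun e => hj (Fin.ext (e.trans h1.symm))) (by simp),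
        if_pos h1, sub_self]
    · simp only [bAl, Finset.sum_sub_distrib]
      rw [Finset.sum_eq_single (Fin.last n) (fun j _ hj => if_neg fun e => hj (Fin.ext (e.trans (Fin.val_last n).symm))) (by simp),
        Finset.sum_eq_single i.castSucc (fun j _ hj => if_neg fun e => hj (Fin.ext (e.trans (Fin.val_castSucc i).symm))) (by simp)]
      simp
    · simp only [bAl, Finset.sum_sub_distrib]
      rw [Finset.sum_eq_single m.succ (fun j _ hj => if_neg fun e => hj (Fin.ext (by simpa using e))) (by simp),
        Finset.sum_eq_single (0 : Fin (n + 1)) (fun j _ hj => if_neg fun e => hj (Fin.ext (e.trans (Fin.val_zero (n := n + 1)).symm))) (by simp)]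
      simp
  · intro α v hα hv hrep i
    by_contra hne
    have hg : Good (bI k n q) (tgtPt (bT k n q) α i) := by_contra fun h => hne (hv.1 i h)
    obtain ⟨hnn, hlt, h01, hmid⟩ := (bGood hn).mp hg
    rcases i with - | i
    · -- the pure power
      have hsum : ∑ l, tgtPt (bT k n q) α none l = q := by
        simp only [bTgt_none hn, Finset.sum_add_distrib, hα, add_zero]
        rw [Finset.sum_eq_single 1 (fun j _ hj => if_neg fun e => hj (Fin.ext (e.trans h1.symm))) (by simp),
          if_pos h1]
      have hrep' : ∀ P : BX n q, bDel P = tgtPt (bT k n q) α none → False := fun P e => hne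
        (hrep (.inl P) (funext fun l => by simp only [bAl, e, bTgt_none hn]; ring))
      set δ := tgtPt (bT k n q) α none with hδ
      rcases (show δ 0 = 0 ∨ δ 0 = 1 by have := hnn 0; omega) with h0 | h0
      · by_cases hlast : ∀ l : Fin (n + 1), l.1 ≠ n → δ l = 0
        · have hc : ∀ l : Fin (n + 1), max (δ l) (tgtPt (bT k n q) α (some ⟨1, by omega⟩) l) =
              δ l + if l.1 = 0 then 1 else 0 := fun l => by
            have := hnn l
            simp only [hδ, bTgt_none hn, bTgt_some] at this ⊢
            split_ifs <;> omega
          have heq := hv.2 none (some ⟨1, by omega⟩) ((bGood hn).mpr ⟨fun l => by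
              rw [hc]; have := hnn l; split_ifs <;> omega, by
              rw [hc, if_neg (by omega)]; omega, by rw [hc, h0]; simp,
              fun _ l a b => by rw [hc, hlast l b, if_neg a, add_zero]⟩)
          refine hne (heq.trans (hv.1 _ fun h => ?_))
          have := h.1 1
          have h2 := hlast 1 (by omega)
          rw [hδ, bTgt_none hn, if_pos h1] at h2
          rw [bTgt_some, if_neg (by omega), if_pos h1] at this
          omega
        · let P : Fin n → ℕ := fun j => (δ j.succ).toNat
          have hc : ∀ j : Fin n, (P j : ℤ) = δ j.succ := fun j => Int.toNat_of_nonneg (hnn _)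
          have hPs : ∑ j, P j = q := by
            have : ((∑ j, P j : ℕ) : ℤ) = q := by
              push_cast [hc]
              rw [← hsum, Fin.sum_univ_succ, h0, zero_add]
            exact_mod_cast this
          refine hrep' ⟨P, hPs, fun e => ?_⟩ ?_
          · have h3 := hc ⟨0, by omega⟩
            rw [congrFun e ⟨0, by omega⟩, if_pos rfl,
              show (Fin.succ (⟨0, by omega⟩ : Fin n)) = (1 : Fin (n + 1)) from Fin.ext (by rw [Fin.val_succ, h1])] at h3
            omega
          · unfold bDel
            rw [if_neg]
            · funext l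
              refine Fin.cases ?_ (fun j => ?_) l
              · simp [h0]
              · simp [hc]
            · intro e
              refine hlast fun l hl => ?_
              revert hl
              refine Fin.cases (fun _ => h0) (fun j hl => ?_) l
              rw [← hc, show P j = _ from congrFun e j, if_neg (by simpa using hl)]; rfl
      · refine hrep' ⟨fun i => if i.1 + 1 = n then q else 0, ?_, fun e => ?_⟩ ?_
        · rw [Finset.sum_eq_single ⟨n - 1, by omega⟩ (fun j _ hj => if_neg fun e => hj (Fin.ext (by simp; omega))) (by simp)]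
          simp; omega
        · have := congrFun e ⟨0, by omega⟩
          simp at this; omega
        · unfold bDel
          rw [if_pos rfl]
          funext l
          split_ifs with a b
          · rw [show l = 0 from Fin.ext a, h0]
          · rw [sum_split δ 0 (Fin.last n) (by simp [Fin.ext_iff]; omega) fun j ja jb => hmid h0 j
              (fun e => ja (Fin.ext e)) (fun e => jb (Fin.ext e)), h0] at hsum
            rw [show l = Fin.last n from Fin.ext b]; omega
          · exact (hmid h0 l a b).symm
    · set δ := tgtPt (bT k n q) α (some i) with hδ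
      have hd : ∀ l, δ l = (if l.1 = 0 then 1 else 0) + (if l.1 = i.1 then 1 else 0) + α l := bTgt_some α i
      have hsum : ∑ l, δ l = 2 := by
        simp only [hd, Finset.sum_add_distrib, hα, add_zero]
        rw [Finset.sum_eq_single (0 : Fin (n + 1)) (fun j _ hj => if_neg fun e => hj (Fin.ext (e.trans (Fin.val_zero (n := n + 1)).symm))) (by simp),
          Finset.sum_eq_single i.castSucc (fun j _ hj => if_neg fun e => hj (Fin.ext (e.trans (Fin.val_castSucc i).symm))) (by simp)]
        simp
      rcases (show δ 0 = 0 ∨ δ 0 = 1 by have := hnn 0; omega) with h0 | h0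
      swap
      · refine hne (hrep (.inr (.inl i)) (funext fun l => ?_))
        rw [sum_split δ 0 (Fin.last n) (by simp [Fin.ext_iff]; omega) fun j ja jb => hmid h0 j
          (fun e => ja (Fin.ext e)) (fun e => jb (Fin.ext e)), h0] at hsum
        have := hd l
        simp only [bAl]
        by_cases a : l.1 = 0
        · rw [show l = 0 from Fin.ext a] at this ⊢
          rw [h0] at this
          simp [show ¬ (0 = n) by omega] at this ⊢
          omega
        by_cases b : l.1 = n
        · rw [show l = Fin.last n from Fin.ext b] at this ⊢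
          simp [show n ≠ i.1 by omega, show n ≠ 0 by omega] at this ⊢
          omega
        · rw [hmid h0 l a b] at this
          rw [if_neg a] at this
          rw [if_neg b]
          omega
      · by_cases hi : 1 ≤ i.1 ∧ 1 ≤ δ i.castSucc
        · -- moving to the representative
          obtain ⟨hi0, hδi⟩ := hi
          let D : Fin (n + 1) → ℤ := fun l => δ l - if l.1 = i.1 then 1 else 0
          have hD0 : ∀ l, 0 ≤ D l := fun l => by
            have := hnn l
            simp only [D]
            split_ifs with e
            · rw [show l = i.castSucc from Fin.ext e]; omega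
            · omega
          have hDs : ∑ l, D l = 1 := by
            simp only [D, Finset.sum_sub_distrib, hsum]
            rw [Finset.sum_eq_single i.castSucc (fun j _ hj => if_neg fun e => hj (Fin.ext (e.trans (Fin.val_castSucc i).symm))) (by simp)]
            simp
          obtain ⟨m, hm⟩ : ∃ m, D m ≠ 0 := by
            by_contra hall; push Not at hall; simp [hall] at hDs
          have hDm : ∀ l, D l = if l.1 = m.1 then 1 else 0 := fun l => by
            have hle := Finset.single_le_sum (f := D) (fun j _ => hD0 j) (Finset.mem_univ m)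
            have := hD0 m
            split_ifs with e
            · rw [show l = m from Fin.ext e]; omega
            · have h2 := Finset.add_le_sum (f := D) (fun j _ => hD0 j) (Finset.mem_univ l) (Finset.mem_univ m)
                (fun e' => e (by rw [e']))
              have := hD0 l
              omega
          have hm0 : m.1 ≠ 0 := fun e => by
            have := hDm 0
            simp only [D, h0, Fin.val_zero] at this
            rw [if_pos e.symm, if_neg (by omega)] at this; omega
          have hα' : ∀ l, α l = D l - if l.1 = 0 then 1 else 0 := fun l => by simp only [D, hd]; ring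
          have hrep2 := hrep (.inr (.inr ⟨m.1 - 1, by omega⟩)) (funext fun l => by
            simp only [bAl, hα', hDm, show m.1 - 1 + 1 = m.1 by omega])
          simp only [bVe] at hrep2
          refine hne ((hv.2 (some i) (some ⟨2, by omega⟩) ((bGood hn).mpr ⟨fun l => ?_, ?_, ?_, fun e => ?_⟩)).trans hrep2)
          · exact le_max_of_le_left (hnn l)
          · have h2 := hd 1
            simp only [bTgt_some, ← hδ]
            rw [hα' 1, hDm 1] at h2 ⊢
            simp only [h1] at h2 ⊢
            simp only [h2] at hlt ⊢
            split_ifs at hlt h2 ⊢ <;> omega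
          · have ht : tgtPt (bT k n q) α (some ⟨2, by omega⟩) 0 = 0 := by
              rw [bTgt_some, hα', hDm]; simp [Ne.symm hm0]
            beta_reduce; rw [← hδ, h0, ht]; simp
          · have ht : tgtPt (bT k n q) α (some ⟨2, by omega⟩) 0 = 0 := by
              rw [bTgt_some, hα', hDm]; simp [Ne.symm hm0]
            beta_reduce at e; rw [← hδ, h0, ht] at e; simp at e
        · -- a vertex with a negative coordinate
          obtain ⟨l₀, hl₀, hln, hli, hl1⟩ : ∃ l₀ : ℕ, 1 ≤ l₀ ∧ l₀ < n ∧ l₀ ≠ i.1 ∧ (l₀ = 1 → 4 ≤ q) := by
            by_cases e : i.1 = 2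
            · by_cases h4 : 4 ≤ n
              · exact ⟨3, by omega, by omega, by omega, by omega⟩
              · exact ⟨1, by omega, by omega, by omega, fun _ => hcase (by omega)⟩
            · exact ⟨2, by omega, by omega, Ne.symm e, by omega⟩
          have hzero : δ i.castSucc ≤ 0 := by
            rcases Nat.eq_zero_or_pos i.1 with e | e
            · rw [show i.castSucc = (0 : Fin (n + 1)) from Fin.ext e, h0]
            · have : ¬ 1 ≤ δ i.castSucc := fun h => hi ⟨e, h⟩
              omega
          have htwo : δ 1 ≤ 2 := hsum ▸ Finset.single_le_sum (fun j _ => hnn j) (Finset.mem_univ _)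
          have hmax : ∀ l, max (δ l) (tgtPt (bT k n q) α (some ⟨l₀, hln⟩) l) = δ l + if l.1 = l₀ then 1 else 0 :=
            fun l => by
            rw [bTgt_some, hd]
            simp only
            split_ifs <;> omega
          refine hne ((hv.2 (some i) (some ⟨l₀, hln⟩) ((bGood hn).mpr ⟨fun l => ?_, ?_, ?_, fun e => ?_⟩)).trans
            (hv.1 _ fun h => ?_))
          · exact le_max_of_le_left (hnn l)
          · simp only [← hδ, hmax, h1]
            split_ifs with e
            · have := hl1 e.symm; omega
            · omega
          · beta_reduce; rw [← hδ, hmax, h0, Fin.val_zero]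
            split_ifs <;> omega
          · beta_reduce at e; rw [← hδ, hmax, h0, Fin.val_zero] at e
            split_ifs at e <;> omega
          · have h2 := h.1 i.castSucc
            rw [bTgt_some] at h2
            rw [hd] at hzero
            simp only [Fin.val_castSucc] at h2 hzero
            split_ifs at h2 hzero <;> omega
  · rintro (P | i | m)
    · obtain ⟨hgood, hsum, hnot⟩ := bDel_spec (k := k) hn hq P
      have htgt : tgtPt (bT k n q) (bAl (.inl P)) none = bDel P :=
        funext fun l => by rw [bTgt_none hn]; simp [bAl]
      refine ⟨fun j => if j = none then 1 else 0, ⟨fun j hj => if_neg (show j ≠ none from fun e => hj (by subst e; rw [htgt]; exact hgood)),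
        fun a b hg => ?_⟩, by simp [bVe], fun r' e hne => ?_⟩
      · have key : ∀ j : Fin n, ¬ Good (bI k n q) (fun l => max (tgtPt (bT k n q) (bAl (.inl P)) none l)
            (tgtPt (bT k n q) (bAl (.inl P)) (some j) l)) := by
          intro j hg
          obtain ⟨-, -, g0, gmid⟩ := (bGood hn).mp hg
          obtain ⟨dn, -, d01, dmid⟩ := (bGood hn).mp hgood
          simp only [htgt] at g0 gmid
          simp only [bTgt_some, bAl, Fin.val_zero, if_true, if_false, Nat.zero_ne_one] at g0 gmid
          have b0 : bDel P 0 = 0 := by have := dn 0; split_ifs at g0 <;> omega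
          refine hnot ⟨b0, fun l hl => ?_⟩
          rcases eq_or_ne l.1 0 with a | a
          · rw [show l = 0 from Fin.ext a]; exact b0
          have := gmid (by simp only [b0]; split_ifs at g0 ⊢ <;> omega) l a hl
          have := dn l
          omega
        rcases a with - | a <;> rcases b with - | b
        · rfl
        · exact absurd hg (key b)
        · exact absurd (by simpa only [max_comm] using hg) (key a)
        · simp
      · rcases r' with P' | i | m
        · exfalso
          exact hne (congrArg Sum.inl (bDel_inj hn (a₁ := P') (a₂ := P) (funext fun l => by simpa [bAl] using congrFun e l)))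
        · simp [bVe]
        · simp [bVe]
    · have htgt : ∀ l, tgtPt (bT k n q) (bAl (q := q) (.inr (.inl i))) (some i) l =
          (if l.1 = 0 then 1 else 0) + if l.1 = n then 1 else 0 := fun l => by
        rw [bTgt_some]; simp only [bAl]; ring
      refine ⟨fun j => if j = some i then 1 else 0, ⟨fun j hj => if_neg fun e => ?_, fun a b hg => ?_⟩,
        by simp [bVe], fun r' e hne => ?_⟩
      · subst e
        refine hj ((bGood hn).mpr ⟨fun l => ?_, ?_, ?_, fun _ l a b => ?_⟩) <;> rw [htgt]
        · split_ifs <;> omega
        · simp only [h1]; split_ifs <;> omega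
        · simp only [Fin.val_zero]; split_ifs <;> omega
        · rw [if_neg a, if_neg b]; rfl
      · have key : ∀ j, j ≠ some i → ¬ Good (bI k n q) (fun l => max (tgtPt (bT k n q) (bAl (q := q) (.inr (.inl i))) (some i) l)
            (tgtPt (bT k n q) (bAl (q := q) (.inr (.inl i))) j l)) := by
          intro j hne hg
          obtain ⟨-, gq, g0, gmid⟩ := (bGood hn).mp hg
          simp only [htgt] at g0 gmid
          rcases j with - | j
          · simp only [htgt] at gq
            simp only [bTgt_none hn, bAl, h1, Fin.val_zero, if_true, if_false, Nat.zero_ne_one] at gq g0 gmid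
            have hi1 : i.1 = 1 := by split_ifs at gq <;> omega
            have := gmid (by split_ifs at g0 ⊢ <;> omega) 1 (by omega) (by omega)
            simp only [h1] at this
            split_ifs at this <;> omega
          · have hij : j.1 ≠ i.1 := fun e => hne (by rw [Fin.ext e])
            simp only [bTgt_some, bAl, Fin.val_zero, if_true, if_false, Nat.zero_ne_one] at g0 gmid
            rcases Nat.eq_zero_or_pos j.1 with e | e
            · split_ifs at g0 <;> omega
            · have := gmid (by split_ifs at g0 ⊢ <;> omega) j.castSucc (by simp; omega) (by simp; omega)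
              simp only [Fin.val_castSucc] at this
              split_ifs at this <;> omega
        by_cases ea : a = some i <;> by_cases eb : b = some i <;> simp only [ea, eb, if_true, if_false]
        · exact absurd (ea ▸ hg) (key b eb)
        · exact absurd (by subst eb; simpa only [max_comm] using hg) (key a ea)
      · rcases r' with P' | i' | m
        · simp [bVe]
        · refine if_neg fun h => hne ?_
          simp [bVe] at h; rw [h]
        · refine if_neg fun h => hne ?_
          simp [bVe] at h
          exfalso
          have := congrFun e 0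
          simp [bAl, ← h] at this
          omega
    · have htgt : ∀ (j : Fin n) l, tgtPt (bT k n q) (bAl (q := q) (.inr (.inr m))) (some j) l =
          (if l.1 = m.1 + 1 then 1 else 0) + if l.1 = j.1 then 1 else 0 := fun j l => by
        rw [bTgt_some]; simp only [bAl]; ring
      refine ⟨fun j => Option.elim j 0 fun j =>
        if 1 ≤ j.1 ∧ Good (bI k n q) (tgtPt (bT k n q) (bAl (q := q) (.inr (.inr m))) (some j)) then 1 else 0,
        ⟨fun j hj => ?_, fun a b hg => ?_⟩, ?_, fun r' e hne => ?_⟩
      · rcases j with - | j
        · rfl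
        · exact if_neg fun h => hj h.2
      · have kn : ∀ j, ¬ Good (bI k n q) (fun l => max (tgtPt (bT k n q) (bAl (q := q) (.inr (.inr m))) none l)
            (tgtPt (bT k n q) (bAl (q := q) (.inr (.inr m))) (some j) l)) := by
          intro j hg
          have := ((bGood hn).mp hg).2.1
          simp only [bTgt_none hn, bAl, h1] at this
          split_ifs at this <;> omega
        have k0 : ∀ j j' : Fin n, 1 ≤ j.1 → j'.1 = 0 → ¬ Good (bI k n q)
            (fun l => max (tgtPt (bT k n q) (bAl (q := q) (.inr (.inr m))) (some j) l)
              (tgtPt (bT k n q) (bAl (q := q) (.inr (.inr m))) (some j') l)) := by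
          intro j j' hj hj' hg
          obtain ⟨-, -, -, gmid⟩ := (bGood hn).mp hg
          have := gmid (by simp [htgt, hj', show ¬ (0 = j.1) by omega]) j.castSucc (by simp; omega) (by simp; omega)
          simp only [htgt, Fin.val_castSucc] at this
          split_ifs at this <;> omega
        have kk : ∀ j j' : Fin n, Good (bI k n q)
            (fun l => max (tgtPt (bT k n q) (bAl (q := q) (.inr (.inr m))) (some j) l)
              (tgtPt (bT k n q) (bAl (q := q) (.inr (.inr m))) (some j') l)) →
            Good (bI k n q) (tgtPt (bT k n q) (bAl (q := q) (.inr (.inr m))) (some j)) := fun j j' hg =>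
          hg.of_le (bI k n q) (fun l => le_max_left _ _) fun l => by rw [htgt]; split_ifs <;> omega
        rcases a with - | a <;> rcases b with - | b
        · rfl
        · exact absurd hg (kn b)
        · exact absurd (by simpa only [max_comm] using hg) (kn a)
        · have hg' : Good (bI k n q) (fun l => max (tgtPt (bT k n q) (bAl (q := q) (.inr (.inr m))) (some b) l)
              (tgtPt (bT k n q) (bAl (q := q) (.inr (.inr m))) (some a) l)) := by simpa only [max_comm] using hg
          simp only [Option.elim, kk a b hg, kk b a hg', and_true]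
          rcases Nat.eq_zero_or_pos a.1 with ea | ea <;> rcases Nat.eq_zero_or_pos b.1 with eb | eb
          · simp [ea, eb]
          · exact absurd hg' (k0 b a eb ea)
          · exact absurd hg (k0 a b ea eb)
          · simp [show 1 ≤ a.1 from ea, show 1 ≤ b.1 from eb]
      · refine if_pos ⟨by simp, (bGood hn).mpr ⟨fun l => ?_, ?_, ?_, fun h => ?_⟩⟩
        · rw [htgt]; split_ifs <;> omega
        · simp only [htgt, h1]; split_ifs <;> omega
        · simp [htgt, bVe]
        · simp [htgt, bVe] at h
      · rcases r' with P' | i' | m'
        · simp [bVe]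
        · refine if_neg fun h => ?_
          have := congrFun e 0
          simp [bAl] at this
          have := h.1
          omega
        · exfalso
          refine hne ?_
          have := congrFun e ⟨m.1 + 1, by omega⟩
          simp [bAl] at this
          rw [show m' = m from Fin.ext this.symm]

end

end Groth.Agent.L13.HilbPn
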