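import Groth.Agent.L13.HilbPn.Vanish
import Mathlib.RingTheory.MvPolynomial.Ideal

/-!
Counting degree zero homomorphisms of a monomial ideal from a finite list of generators.
-/

set_option autoImplicit false

universe u

namespace Groth.Agent.L13.HilbPn

open MvPolynomial W4c1hilbpn

variable {σ : Type} [Fintype σ] [DecidableEq σ] {k : Type u} [Field k]
  {I : Ideal (MvPolynomial σ k)}

/-- An exponent description of a monomial ideal. -/
structure Gens (I : Ideal (MvPolynomial σ k)) (ι : Type) where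
  g : ι → σ →₀ ℕ
  mono : IsMonomial I
  exps_iff : ∀ β, β ∈ exps I ↔ ∃ i, g i ≤ β

/-- The span of monomials. -/
def gensOfSpan {ι : Type} (g : ι → σ →₀ ℕ)
    (h : I = Ideal.span ((fun β => monomial β (1 : k)) '' Set.range g)) : Gens I ι where
  g := g
  mono := by
    classical
    subst h
    intro p hp β hβ
    obtain ⟨_, ⟨i, rfl⟩, hi⟩ := mem_ideal_span_monomial_image.mp hp β hβ
    rw [mem_ideal_span_monomial_image]
    intro x hx
    rw [mem_support_iff, coeff_monomial] at hx
    split_ifs at hx with e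
    · exact ⟨g i, ⟨i, rfl⟩, e ▸ hi⟩
    · exact absurd rfl hx
  exps_iff β := by
    classical
    subst h
    show monomial β (1 : k) ∈ Ideal.span ((fun β => monomial β (1 : k)) '' Set.range g) ↔ _
    rw [mem_ideal_span_monomial_image]
    simp

variable {ι : Type} (T : Gens I ι)

/-- The target of a generator. -/
def tgtPt (α : σ → ℤ) (i : ι) : σ → ℤ := cast (T.g i) + α

/-- Consistent values at the generators. -/
def Valid (α : σ → ℤ) (v : ι → k) : Prop :=
  (∀ i, ¬ Good I (tgtPt T α i) → v i = 0) ∧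
    ∀ i j, Good I (fun l => max (tgtPt T α i l) (tgtPt T α j l)) → v i = v j

lemma good_iff_gens {γ : σ → ℤ} :
    Good I γ ↔ (∀ l, 0 ≤ γ l) ∧ ∀ i, ∃ l, γ l < (T.g i l : ℤ) := by
  refine and_congr_right fun h => ?_
  rw [T.exps_iff, not_exists]
  refine forall_congr' fun i => ?_
  rw [Finsupp.le_def, not_forall]
  refine exists_congr fun l => ?_
  have := h l
  simp only [toN, Finsupp.equivFunOnFinite_symm_apply_apply]
  omega

lemma valid_of_sol {α : σ → ℤ} {c : (σ → ℤ) → k} (hc : c ∈ Sol I α) :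
    Valid T α fun i => c (tgtPt T α i) := by
  refine ⟨fun i h => hc.1 _ fun hh => h hh.2, fun i j hg => ?_⟩
  have key : ∀ i, (∀ l, tgtPt T α i l ≤ max (tgtPt T α i l) (tgtPt T α j l)) := fun i l => le_max_left _ _
  have h1 : ∀ i' : ι, (∀ l, tgtPt T α i' l ≤ max (tgtPt T α i l) (tgtPt T α j l)) →
      c (fun l => max (tgtPt T α i l) (tgtPt T α j l)) = c (tgtPt T α i') := fun i' hle => by
    have hs : Src I α (tgtPt T α i') := src_cast I ((T.exps_iff _).mpr ⟨i', le_rfl⟩)
    set γ : σ → ℤ := fun l => max (tgtPt T α i l) (tgtPt T α j l)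
    have e : γ = tgtPt T α i' + cast (toN (γ - tgtPt T α i')) := by
      rw [cast_toN (fun l => by have := hle l; simp [γ]; omega)]; simp
    conv_lhs => rw [e]
    exact Sol.translate I hc hs _ (e ▸ hg)
  exact (h1 i fun l => le_max_left _ _).symm.trans (h1 j fun l => le_max_right _ _)

include T in
lemma sol_ext {α : σ → ℤ} {c : (σ → ℤ) → k} (hc : c ∈ Sol I α) (h : ∀ i, c (tgtPt T α i) = 0) : c = 0 := by
  funext γ
  by_contra hne
  obtain ⟨hs, hg⟩ : Src I α γ ∧ Good I γ := by_contra fun h' => hne (hc.1 γ h')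
  obtain ⟨β, hβ, rfl⟩ := hs.exists_eq I
  obtain ⟨i, hi⟩ := (T.exps_iff β).mp hβ
  obtain ⟨m, rfl⟩ := le_iff_exists_add.mp hi
  have e : cast (T.g i + m) + α = tgtPt T α i + cast m := by simp [tgtPt]; abel
  rw [e] at hne hg
  exact hne ((Sol.translate I hc (src_cast I ((T.exps_iff _).mpr ⟨i, le_rfl⟩)) m hg).trans (h i))

open Classical in
/-- The solution with given values. -/
noncomputable def ofVals (α : σ → ℤ) (v : ι → k) (γ : σ → ℤ) : k :=
  if h : Good I γ ∧ ∃ i, ∀ l, tgtPt T α i l ≤ γ l then v h.2.choose else 0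

lemma ofVals_eq {α : σ → ℤ} {v : ι → k} (hv : Valid T α v) {γ : σ → ℤ} (hg : Good I γ) {i : ι}
    (hi : ∀ l, tgtPt T α i l ≤ γ l) : ofVals T α v γ = v i := by
  classical
  rw [ofVals, dif_pos ⟨hg, i, hi⟩]
  set j := (⟨hg, i, hi⟩ : Good I γ ∧ ∃ i, ∀ l, tgtPt T α i l ≤ γ l).2.choose
  have hj : ∀ l, tgtPt T α j l ≤ γ l :=
    (⟨hg, i, hi⟩ : Good I γ ∧ ∃ i, ∀ l, tgtPt T α i l ≤ γ l).2.choose_spec
  by_cases hnn : ∀ l, 0 ≤ max (tgtPt T α j l) (tgtPt T α i l)
  · exact hv.2 j i (hg.of_le I (fun l => max_le (hj l) (hi l)) hnn)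
  · push Not at hnn
    obtain ⟨l, hl⟩ := hnn
    rw [hv.1 j fun h => by have := h.1 l; have := le_max_left (tgtPt T α j l) (tgtPt T α i l); omega,
      hv.1 i fun h => by have := h.1 l; have := le_max_right (tgtPt T α j l) (tgtPt T α i l); omega]

lemma src_of_le {α γ : σ → ℤ} {i : ι} (hi : ∀ l, tgtPt T α i l ≤ γ l) : Src I α γ :=
  (src_cast I ((T.exps_iff _).mpr ⟨i, le_rfl⟩)).mono I hi

lemma ofVals_mem {α : σ → ℤ} {v : ι → k} (hv : Valid T α v) : ofVals T α v ∈ Sol I α := by
  classical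
  refine ⟨fun γ h => ?_, fun γ s hs hg => ?_⟩
  · refine dif_neg fun hh => h ?_
    obtain ⟨i, hi⟩ := hh.2
    exact ⟨src_of_le T hi, hh.1⟩
  · obtain ⟨β, hβ, rfl⟩ := hs.exists_eq I
    obtain ⟨i, hi⟩ := (T.exps_iff β).mp hβ
    have hle : ∀ l, tgtPt T α i l ≤ (cast β + α) l := fun l => by
      have := hi l; simp [tgtPt, cast]; omega
    have hle' : ∀ l, tgtPt T α i l ≤ (cast β + α + Pi.single s 1 : σ → ℤ) l := fun l => by
      have := hle l; simp only [Pi.add_apply, Pi.single_apply] at this ⊢; split_ifs <;> omega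
    rw [ofVals_eq T hv hg hle']
    by_cases h0 : Good I (cast β + α)
    · rw [ofVals_eq T hv h0 hle]
    · rw [show ofVals T α v (cast β + α) = 0 from dif_neg fun h => h0 h.1]
      refine hv.1 i fun hgi => h0 ?_
      exact hg.of_le I (fun l => by simp only [Pi.add_apply, Pi.single_apply]; split_ifs <;> omega)
        fun l => (hgi.1 l).trans (hle l)

variable [Fintype ι]

include T in
lemma finite_sol (α : σ → ℤ) : FiniteDimensional k (Sol I α) :=
  Module.Finite.of_injective
    ({ toFun := fun c i => c.1 (tgtPt T α i), map_add' := fun _ _ => rfl, map_smul' := fun _ _ => rfl } :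
      Sol I α →ₗ[k] (ι → k))
    ((injective_iff_map_eq_zero _).mpr fun c h => Subtype.ext (sol_ext T c.2 (congrFun h)))

include T in
lemma finrank_piece_eq (α : σ → ℤ) (P : Finset ι)
    (hzero : ∀ v, Valid T α v → (∀ i ∈ P, v i = 0) → v = 0)
    (hbasis : ∀ i ∈ P, ∃ v, Valid T α v ∧ v i = 1 ∧ ∀ j ∈ P, j ≠ i → v j = 0) :
    Module.finrank k (tPiece I α) = P.card := by
  classical
  rw [finrank_tPiece T.mono α]
  choose! w hw using hbasis
  let E : Sol I α →ₗ[k] (↥P → k) :=
    { toFun := fun c i => c.1 (tgtPt T α i), map_add' := fun _ _ => rfl, map_smul' := fun _ _ => rfl }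
  have hE : Function.Bijective E := by
    refine ⟨(injective_iff_map_eq_zero E).mpr fun c hc => Subtype.ext (sol_ext T c.2 fun i => ?_), ?_⟩
    · exact congrFun (hzero _ (valid_of_sol T c.2) fun j hj => congrFun hc ⟨j, hj⟩) i
    · intro f
      refine ⟨∑ i : ↥P, f i • ⟨ofVals T α (w i.1), ofVals_mem T (hw i.1 i.2).1⟩, funext fun j => ?_⟩
      rw [map_sum, Finset.sum_apply, Finset.sum_eq_single j]
      · show f j • ofVals T α (w j.1) (tgtPt T α j.1) = f j
        by_cases hg : Good I (tgtPt T α j.1)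
        · rw [ofVals_eq T (hw j.1 j.2).1 hg (fun l => le_rfl), (hw j.1 j.2).2.1, smul_eq_mul, mul_one]
        · exact absurd ((hw j.1 j.2).2.1.symm.trans ((hw j.1 j.2).1.1 _ hg)) one_ne_zero
      · intro i _ hne
        show f i • ofVals T α (w i.1) (tgtPt T α j.1) = 0
        by_cases hg : Good I (tgtPt T α j.1)
        · rw [ofVals_eq T (hw i.1 i.2).1 hg (fun l => le_rfl),
            (hw i.1 i.2).2.2 j.1 j.2 (fun e => hne (Subtype.ext e.symm)), smul_zero]
        · rw [show ofVals T α (w i.1) (tgtPt T α j.1) = 0 from dif_neg fun h => hg h.1, smul_zero]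
      · simp
  rw [(LinearEquiv.ofBijective E hE).finrank_eq, Module.finrank_fintype_fun_eq_card, Fintype.card_coe]

/-- Dimension of a sum of pieces supported on a finite set. -/
theorem finrank_iSup_finset (hI : IsMonomial I) (p : (σ → ℤ) → Prop) (D : Finset (σ → ℤ))
    (hDp : ∀ α ∈ D, p α) (hout : ∀ α, p α → α ∉ D → tPiece I α = ⊥)
    (hfin : ∀ α, FiniteDimensional k (Sol I α)) :
    Module.finrank k ↥(⨆ α : {α : σ → ℤ // p α}, tPiece I α.1) =
      ∑ α ∈ D, Module.finrank k (tPiece I α) := by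
  classical
  haveI : ∀ α, FiniteDimensional k (tPiece I α) := fun α => by
    haveI := hfin α
    exact (pieceEquiv hI α).symm.finiteDimensional
  haveI : ∀ α, Module.Free k (tPiece I α) := fun α => Module.Free.of_divisionRing k (tPiece I α)
  let Ψ : (Π α : D, tPiece I α.1) →ₗ[k] Tgt I := ∑ α : D, (tPiece I α.1).subtype ∘ₗ LinearMap.proj α
  have hΨ : ∀ f, Ψ f = ∑ α : D, (f α : Tgt I) := fun f => by simp [Ψ]
  have hval_sum : ∀ (α : σ → ℤ) (f : D → Tgt I),
      val hI α (∑ x, f x) = ∑ x, val hI α (f x) := by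
    intro α f
    funext γ
    rw [Finset.sum_apply]
    by_cases h : Src I α γ ∧ Good I γ
    · simp [val, dif_pos h]
    · simp [val, dif_neg h]
  have hinj : Function.Injective Ψ := by
    have hval : ∀ f (α : D), val hI α.1 (Ψ f) = val hI α.1 (f α : Tgt I) := by
      intro f α
      rw [hΨ, hval_sum, Finset.sum_eq_single α]
      · intro β _ hne
        rw [eq_mk_val hI (f β).2, val_mk, if_neg fun e => hne (Subtype.ext e.symm)]
      · simp
    intro f g hfg
    funext α
    refine (pieceEquiv hI α.1).injective (Subtype.ext ?_)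
    show val hI α.1 (f α : Tgt I) = val hI α.1 (g α : Tgt I)
    rw [← hval f α, ← hval g α, hfg]
  have hrange : LinearMap.range Ψ = ⨆ α : {α : σ → ℤ // p α}, tPiece I α.1 := by
    apply le_antisymm
    · rintro _ ⟨f, rfl⟩
      rw [hΨ]
      exact Submodule.sum_mem _ fun α _ => Submodule.mem_iSup_of_mem ⟨α.1, hDp _ α.2⟩ (f α).2
    · refine iSup_le fun ⟨α, hα⟩ => ?_
      by_cases hd : α ∈ D
      · intro φ hφ
        refine ⟨Pi.single ⟨α, hd⟩ ⟨φ, hφ⟩, ?_⟩
        rw [hΨ, Finset.sum_eq_single ⟨α, hd⟩]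
        · simp
        · intro β _ hne; simp [Pi.single_eq_of_ne hne]
        · simp
      · simp [hout α hα hd]
  rw [← hrange, LinearMap.finrank_range_of_inj hinj, Module.finrank_pi_fintype]
  exact Finset.sum_coe_sort D fun α => Module.finrank k (tPiece I α)

/-- Counting degree zero maps by representatives. -/
theorem finrank_hom0_eq {R : Type} [Fintype R] (al : R → σ → ℤ) (ve : R → ι)
    (h0 : ∀ r, ∑ l, al r l = 0) (hinj : Function.Injective fun r => (al r, ve r))
    (hzero : ∀ α v, ∑ l, α l = 0 → Valid T α v → (∀ r, al r = α → v (ve r) = 0) → ∀ i, v i = (0 : k))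
    (hbasis : ∀ r, ∃ v : ι → k, Valid T (al r) v ∧ v (ve r) = 1 ∧
      ∀ r', al r' = al r → r' ≠ r → v (ve r') = 0) :
    Module.finrank k ↥(⨆ α : {α : σ → ℤ // ∑ l, α l = 0}, tPiece I α.1) = Fintype.card R := by
  classical
  have hpiece : ∀ α, ∑ l, α l = 0 → Module.finrank k (tPiece I α) =
      ((Finset.univ : Finset R).filter fun r => al r = α).card := by
    intro α hα
    rw [finrank_piece_eq T α (((Finset.univ : Finset R).filter fun r => al r = α).image ve),
      Finset.card_image_of_injOn]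
    · intro r hr r' hr' e
      exact hinj (Prod.ext ((Finset.mem_filter.mp hr).2.trans (Finset.mem_filter.mp hr').2.symm) e)
    · intro v hv hz
      funext i
      exact hzero α v hα hv (fun r hr => hz _ (Finset.mem_image_of_mem ve (by simp [hr]))) i
    · intro i hi
      obtain ⟨r, hr, rfl⟩ := Finset.mem_image.mp hi
      obtain ⟨v, hv, h1, hz⟩ := hbasis r
      have hr' := (Finset.mem_filter.mp hr).2
      refine ⟨v, hr' ▸ hv, h1, fun j hj hne => ?_⟩
      obtain ⟨r', hr'', rfl⟩ := Finset.mem_image.mp hj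
      exact hz r' ((Finset.mem_filter.mp hr'').2.trans hr'.symm) fun e => hne (by rw [e])
  rw [finrank_iSup_finset T.mono (fun α => ∑ l, α l = 0) (Finset.univ.image al) (fun α hα => by
      obtain ⟨r, -, rfl⟩ := Finset.mem_image.mp hα; exact h0 r) (fun α hα hn => ?_) (finite_sol T)]
  · rw [Finset.sum_congr rfl fun α hα => hpiece α (by
      obtain ⟨r, -, rfl⟩ := Finset.mem_image.mp hα; exact h0 r)]
    rw [← Finset.card_univ]
    exact (Finset.card_eq_sum_card_fiberwise fun r _ => Finset.mem_image_of_mem al (Finset.mem_univ r)).symm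
  · haveI := finite_sol T α
    haveI : FiniteDimensional k (tPiece I α) := (pieceEquiv T.mono α).symm.finiteDimensional
    refine Submodule.finrank_eq_zero.mp ((hpiece α hα).trans (Finset.card_eq_zero.mpr ?_))
    rw [Finset.filter_eq_empty_iff]
    exact fun r _ e => hn (Finset.mem_image.mpr ⟨r, Finset.mem_univ r, e⟩)

end Groth.Agent.L13.HilbPn
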