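import Groth.Agent.L13.HilbPn.Basic
import Mathlib.LinearAlgebra.Dimension.Constructions

/-!
Graded pieces count bounded components of the region.
-/

set_option autoImplicit false

universe u

namespace Groth.Agent.L13.HilbPn

open MvPolynomial W4c1hilbpn

variable {σ : Type} [Fintype σ] [DecidableEq σ] {k : Type u} [Field k]
  {I : Ideal (MvPolynomial σ k)}

omit [DecidableEq σ] in
lemma mem_region {α γ : σ → ℤ} :
    γ ∈ region I α ↔ Src I α γ ∧ ((∃ i, γ i < 0) ∨ Good I γ) := by
  constructor
  · rintro ⟨⟨β, hβ, rfl⟩, hn⟩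
    refine ⟨src_cast I hβ, ?_⟩
    by_cases h : ∀ i, 0 ≤ (β i : ℤ) + α i
    · exact Or.inr ⟨h, fun hh => hn ⟨h, hh⟩⟩
    · push Not at h; exact Or.inl h
  · rintro ⟨hs, h⟩
    obtain ⟨β, hβ, rfl⟩ := hs.exists_eq I
    refine ⟨⟨β, hβ, rfl⟩, fun ⟨h0, h1⟩ => ?_⟩
    rcases h with ⟨i, hi⟩ | hg
    · exact (h0 i).not_gt hi
    · exact hg.2 h1

/-- The graph on the region. -/
abbrev regG (I : Ideal (MvPolynomial σ k)) (α : σ → ℤ) : SimpleGraph ↥(region I α) :=
  (stepGraph σ).induce (region I α)

lemma adj_single {α : σ → ℤ} {a b : ↥(region I α)} (i : σ) (h : b.1 = a.1 + Pi.single i 1) :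
    (regG I α).Adj a b := by
  show (stepGraph σ).Adj a.1 b.1
  rw [stepGraph, SimpleGraph.fromRel_adj]
  refine ⟨fun e => ?_, Or.inl ?_⟩
  · have := congrFun (e.trans h) i; simp at this
  · rw [h, Finset.sum_eq_single i]
    · simp
    · intro j _ hj; simp [hj]
    · simp

omit [DecidableEq σ] in
lemma exists_eq_of_adj {a b : σ → ℤ} (h : ∑ i, |a i - b i| = 1) :
    ∃ i, (∀ j, j ≠ i → a j = b j) ∧ (a i = b i + 1 ∨ b i = a i + 1) := by
  classical
  obtain ⟨i, hi⟩ : ∃ i, a i ≠ b i := by
    by_contra hne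
    push Not at hne
    simp [hne] at h
  refine ⟨i, fun j hj => ?_, ?_⟩
  · have := Finset.add_le_sum (f := fun l => |a l - b l|) (fun l _ => abs_nonneg _)
      (Finset.mem_univ i) (Finset.mem_univ j) (Ne.symm hj)
    rw [h] at this
    have := abs_pos.mpr (sub_ne_zero.mpr hi)
    have h0 : |a j - b j| ≤ 0 := by omega
    exact sub_eq_zero.mp (abs_nonpos_iff.mp h0)
  · have := Finset.single_le_sum (f := fun l => |a l - b l|) (fun l _ => abs_nonneg _) (Finset.mem_univ i)
    rw [h] at this
    have := abs_le.mp this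
    omega

lemma adj_iff {α : σ → ℤ} {a b : ↥(region I α)} (h : (regG I α).Adj a b) :
    ∃ i, b.1 = a.1 + Pi.single i 1 ∨ a.1 = b.1 + Pi.single i 1 := by
  have h' : (stepGraph σ).Adj a.1 b.1 := h
  rw [stepGraph, SimpleGraph.fromRel_adj] at h'
  have hs : ∑ i, |a.1 i - b.1 i| = 1 := h'.2.elim id fun h => by simpa only [abs_sub_comm] using h
  obtain ⟨i, hi, h⟩ := exists_eq_of_adj hs
  refine ⟨i, h.symm.imp (fun h => ?_) fun h => ?_⟩ <;> funext j <;> rcases eq_or_ne j i with rfl | hj
  · simp [h]
  · simp [hi j hj, hj]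
  · simp [h]
  · simp [hi j hj, hj]

lemma Sol.const_adj {α : σ → ℤ} {c : (σ → ℤ) → k} (hc : c ∈ Sol I α) {a b : ↥(region I α)} {i : σ}
    (h : b.1 = a.1 + Pi.single i 1) : c b.1 = c a.1 := by
  rcases (mem_region.mp b.2).2 with ⟨l, hl⟩ | hg
  · have hl' : a.1 l < 0 := by
      rw [h, Pi.add_apply, Pi.single_apply] at hl
      split_ifs at hl <;> omega
    rw [hc.1 _ fun hh => (hh.2.1 l).not_gt hl, hc.1 _ fun hh => (hh.2.1 l).not_gt hl']
  · rw [h] at hg ⊢
    exact hc.2 _ i (mem_region.mp a.2).1 hg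

lemma Sol.const_reach {α : σ → ℤ} {c : (σ → ℤ) → k} (hc : c ∈ Sol I α) {a b : ↥(region I α)}
    (h : (regG I α).Reachable a b) : c a.1 = c b.1 := by
  obtain ⟨w⟩ := h
  induction w with
  | nil => rfl
  | cons hadj _ ih =>
    refine Eq.trans ?_ ih
    obtain ⟨i, h | h⟩ := adj_iff hadj
    · exact (Sol.const_adj hc h).symm
    · exact Sol.const_adj hc h

variable (hI : IsMonomial I) [Module.Finite k (MvPolynomial σ k ⧸ I)] [Nontrivial σ]

include hI in
lemma finite_supp_iff {α : σ → ℤ} (C : (regG I α).ConnectedComponent) :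
    C.supp.Finite ↔ ∀ a ∈ C.supp, Good I a.1 := by
  constructor
  · intro hfin a ha
    by_contra hg
    obtain ⟨hs, ⟨l, hl⟩ | hg'⟩ := mem_region.mp a.2
    swap
    · exact hg hg'
    obtain ⟨t, ht⟩ := exists_ne l
    have hmem : ∀ m : ℕ, a.1 + Pi.single t (m : ℤ) ∈ region I α := fun m => by
      refine mem_region.mpr ⟨hs.mono I fun i => ?_, Or.inl ⟨l, by simp [Ne.symm ht, hl]⟩⟩
      simp only [Pi.add_apply, Pi.single_apply]; split_ifs <;> omega
    let p : ℕ → ↥(region I α) := fun m => ⟨_, hmem m⟩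
    have hp : ∀ m, p m ∈ C.supp := by
      intro m
      induction m with
      | zero => rwa [show p 0 = a from Subtype.ext (by simp [p])]
      | succ m ih =>
        refine C.mem_supp_of_adj_mem_supp ih (adj_single t ?_)
        simp [p, Pi.single_add, add_assoc]
    refine Set.infinite_range_of_injective (f := p) (fun m m' h => ?_) (hfin.subset ?_)
    · have := congrFun (congrArg Subtype.val h) t
      simpa [p] using this
    · rintro _ ⟨m, rfl⟩; exact hp m
  · intro h
    exact Set.Finite.of_finite_image ((finite_good hI).subset (by rintro _ ⟨a, ha, rfl⟩; exact h a ha))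
      Subtype.val_injective.injOn

include hI in
lemma finite_comp (α : σ → ℤ) :
    Finite {C : (regG I α).ConnectedComponent // C.supp.Finite} := by
  haveI : Finite {γ : σ → ℤ | Good I γ} := finite_good hI
  refine Finite.of_injective (β := {γ : σ → ℤ | Good I γ})
    (fun C => ⟨(C.1.exists_rep.choose).1, (finite_supp_iff hI C.1).mp C.2 _ C.1.exists_rep.choose_spec⟩) ?_
  intro C D h
  apply Subtype.ext
  rw [← C.1.exists_rep.choose_spec, ← D.1.exists_rep.choose_spec]
  exact congrArg _ (Subtype.ext (congrArg (fun x : {γ : σ → ℤ | Good I γ} => x.1) h))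

open Classical in
/-- The function attached to values on bounded components. -/
noncomputable def ofComp (α : σ → ℤ) (f : {C : (regG I α).ConnectedComponent // C.supp.Finite} → k)
    (γ : σ → ℤ) : k :=
  if h : γ ∈ region I α then
    (if h' : ((regG I α).connectedComponentMk ⟨γ, h⟩).supp.Finite then f ⟨_, h'⟩ else 0) else 0

include hI in
lemma ofComp_mem (α : σ → ℤ) (f : {C : (regG I α).ConnectedComponent // C.supp.Finite} → k) :
    ofComp α f ∈ Sol I α := by
  refine ⟨fun γ h => ?_, fun γ i hs hg => ?_⟩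
  · unfold ofComp
    split_ifs with h1 h2
    · exact absurd ⟨(mem_region.mp h1).1, (finite_supp_iff hI _).mp h2 ⟨γ, h1⟩ rfl⟩ h
    · rfl
    · rfl
  · have h1 : γ + Pi.single i 1 ∈ region I α :=
      mem_region.mpr ⟨hs.mono I fun j => by
        simp only [Pi.add_apply, Pi.single_apply]; split_ifs <;> simp, Or.inr hg⟩
    have h0 : γ ∈ region I α := by
      refine mem_region.mpr ⟨hs, ?_⟩
      by_cases hn : ∀ j, 0 ≤ γ j
      · exact Or.inr (hg.of_le I (fun j => by
          simp only [Pi.add_apply, Pi.single_apply]; split_ifs <;> simp) hn)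
      · push Not at hn; exact Or.inl hn
    have he : (regG I α).connectedComponentMk ⟨_, h1⟩ = (regG I α).connectedComponentMk ⟨γ, h0⟩ :=
      (SimpleGraph.ConnectedComponent.eq.mpr (adj_single i rfl).reachable).symm
    simp only [ofComp, dif_pos h1, dif_pos h0]
    by_cases hf : ((regG I α).connectedComponentMk ⟨γ, h0⟩).supp.Finite
    · rw [dif_pos hf, dif_pos (he ▸ hf)]; exact congrArg f (Subtype.ext he)
    · rw [dif_neg hf, dif_neg (he ▸ hf)]

/-- The solutions are functions on bounded components. -/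
noncomputable def compEquiv (α : σ → ℤ) :
    ({C : (regG I α).ConnectedComponent // C.supp.Finite} → k) ≃ₗ[k] Sol I α where
  toFun f := ⟨ofComp α f, ofComp_mem hI α f⟩
  map_add' f g := by
    ext γ
    simp only [ofComp, Submodule.coe_add, Pi.add_apply]
    split_ifs <;> simp
  map_smul' t f := by
    ext γ
    simp only [ofComp, SetLike.val_smul, Pi.smul_apply, RingHom.id_apply]
    split_ifs <;> simp
  invFun c C := c.1 (C.1.exists_rep.choose).1
  left_inv f := by
    funext C
    show ofComp α f _ = f C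
    rw [ofComp, dif_pos (C.1.exists_rep.choose).2]
    have e : (regG I α).connectedComponentMk C.1.exists_rep.choose = C.1 := C.1.exists_rep.choose_spec
    rw [dif_pos (by rw [Subtype.coe_eta, e]; exact C.2)]
    exact congrArg f (Subtype.ext (by simpa using e))
  right_inv c := by
    ext γ
    show ofComp α (fun C => c.1 (C.1.exists_rep.choose).1) γ = c.1 γ
    unfold ofComp
    split_ifs with h1 h2
    · exact Sol.const_reach c.2 (SimpleGraph.ConnectedComponent.eq.mp
        (((regG I α).connectedComponentMk ⟨γ, h1⟩).exists_rep.choose_spec))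
    · by_contra hne
      rw [finite_supp_iff hI] at h2
      push Not at h2
      obtain ⟨a, ha, hg⟩ := h2
      exact hne (((c.2.1 a.1 fun h => hg h.2).symm).trans
        (Sol.const_reach c.2 (SimpleGraph.ConnectedComponent.eq.mp ha)))
    · by_contra hne
      refine h1 ?_
      obtain ⟨hs, hg⟩ : Src I α γ ∧ Good I γ := by_contra fun h => hne (c.2.1 γ h).symm
      exact mem_region.mpr ⟨hs, Or.inr hg⟩

include hI in
theorem finrank_eq_nBddComp (α : σ → ℤ) : Module.finrank k (tPiece I α) = nBddComp I α := by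
  classical
  haveI := finite_comp hI α
  haveI := Fintype.ofFinite {C : (regG I α).ConnectedComponent // C.supp.Finite}
  rw [finrank_tPiece hI α, ← (compEquiv hI α).finrank_eq, Module.finrank_fintype_fun_eq_card, nBddComp,
    ← Nat.card_eq_fintype_card]

end Groth.Agent.L13.HilbPn
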