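import Groth.Agent.L13.HilbPn.PatternBound

/-!
The bound on the tangent space when a power of the first variable lies in the ideal.
-/

set_option autoImplicit false

universe u

namespace Groth.Agent.L13.HilbPn

open MvPolynomial W4c1hilbpn

variable {k : Type u} [Field k] {I : Ideal (MvPolynomial (Fin 3) k)} (hI : IsMonomial I)
  [Module.Finite k (MvPolynomial (Fin 3) k ⧸ I)]

lemma sum_pts_eq (w : ℕ → ℕ) {R : ℕ} (hR : ∀ i j, R ≤ i ∨ R ≤ j → stairZ I i j = 0) :
    ∑ γ ∈ pts hI, w (γ 0).toNat = ∑ i ∈ Finset.range R, w i * ∑ j ∈ Finset.range R, stairZ I i j := by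
  classical
  have e : ∑ i ∈ Finset.range R, w i * ∑ j ∈ Finset.range R, stairZ I i j =
      ∑ q ∈ (Finset.range R ×ˢ Finset.range R).sigma (fun p => Finset.range (stairZ I p.1 p.2)),
        w q.1.1 := by
    rw [Finset.sum_sigma, Finset.sum_product]
    refine Finset.sum_congr rfl fun i _ => ?_
    rw [Finset.mul_sum]
    exact Finset.sum_congr rfl fun j _ => by simp [mul_comm]
  rw [e]
  refine Finset.sum_nbij' (fun γ => ⟨((γ 0).toNat, (γ 1).toNat), (γ 2).toNat⟩)
    (fun q => ![(q.1.1 : ℤ), q.1.2, q.2]) ?_ ?_ ?_ ?_ ?_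
  · intro γ hγ
    obtain ⟨hn, hlt⟩ := (good_iff_lt hI).mp ((mem_pts hI).mp hγ)
    have := hn 2
    simp only [Finset.mem_coe, Finset.mem_sigma, Finset.mem_product, Finset.mem_range]
    refine ⟨⟨?_, ?_⟩, by omega⟩
    · by_contra h; rw [hR _ _ (Or.inl (not_lt.mp h))] at hlt; simp at hlt; omega
    · by_contra h; rw [hR _ _ (Or.inr (not_lt.mp h))] at hlt; simp at hlt; omega
  · intro q hq
    simp only [Finset.mem_coe, Finset.mem_sigma, Finset.mem_range] at hq
    exact (mem_pts hI).mpr ((good_iff_lt hI).mpr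
      ⟨fun l => by fin_cases l <;> simp, by simp; exact hq.2⟩)
  · intro γ hγ
    have hn := pts_nonneg hI hγ
    funext l; fin_cases l <;> simp [hn]
  · intro q _; simp
  · intro γ _; simp

include hI in
/-- Values translate within a solution. -/
lemma val_down {α γ δ : Fin 3 → ℤ} {c : (Fin 3 → ℤ) → k} (hc : c ∈ Sol I α) (hg : Good I γ)
    (hs : Src I α δ) (hle : ∀ l, δ l ≤ γ l) : c γ = c δ := by
  have e : γ = δ + cast (toN (γ - δ)) := by
    rw [cast_toN (fun i => by have := hle i; simp; omega)]; simp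
  conv_lhs => rw [e]
  exact Sol.translate I hc hs _ (e ▸ hg)

/-- The representatives in the case of a nonnegative second degree. -/
def relP (I : Ideal (MvPolynomial (Fin 3) k)) (α : Fin 3 → ℤ) (q : ℕ × ℕ) : Prop :=
  0 ≤ α 1 ∧ α 0 ≤ q.1 ∧ α 1 ≤ q.2 ∧
    (stairZ I q.1 (q.2 + 1) : ℤ) ≤ α 2 + stairZ I (q.1 - (α 0).toNat) (q.2 - (α 1).toNat) ∧
    α 2 + stairZ I (q.1 - (α 0).toNat) (q.2 - (α 1).toNat) < stairZ I q.1 q.2

/-- The representatives in the case of a negative second degree. -/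
def relN (I : Ideal (MvPolynomial (Fin 3) k)) (α : Fin 3 → ℤ) (q : ℕ × ℕ) : Prop :=
  α 1 < 0 ∧ α 0 ≤ q.1 ∧
    (stairZ I (q.1 - (α 0).toNat) (q.2 + (-α 1).toNat) : ℤ) + α 2 ≤ stairZ I q.1 q.2 - 1 ∧
    (stairZ I q.1 q.2 : ℤ) - 1 < stairZ I (q.1 - (α 0).toNat) (q.2 + (-α 1).toNat - 1) + α 2

variable {p : ℕ}

open Classical in
include hI in
lemma finrank_le_reps {R : ℕ} (hR : ∀ i j, R ≤ i ∨ R ≤ j → stairZ I i j = 0)
    (hp : ∀ i j, p ≤ i → stairZ I i j = 0) {α : Fin 3 → ℤ} (h0 : 0 ≤ α 0) :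
    Module.finrank k (tPiece I α) ≤
      ((Finset.range p ×ˢ Finset.range R).filter fun q => relP I α q ∨ relN I α q).card := by
  rw [finrank_tPiece hI α]
  set P := (Finset.range p ×ˢ Finset.range R).filter fun q => relP I α q ∨ relN I α q
  let pos : ℕ × ℕ → Fin 3 → ℤ := fun q => if 0 ≤ α 1
    then ![(q.1 : ℤ), q.2, α 2 + stairZ I (q.1 - (α 0).toNat) (q.2 - (α 1).toNat)]
    else ![(q.1 : ℤ), q.2, (stairZ I q.1 q.2 : ℤ) - 1]
  let E : Sol I α →ₗ[k] (↥P → k) :=
    { toFun := fun c q => c.1 (pos q.1)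
      map_add' := fun _ _ => rfl
      map_smul' := fun _ _ => rfl }
  refine (LinearMap.finrank_le_finrank_of_injective (f := E) ?_).trans
    (by rw [Module.finrank_fintype_fun_eq_card, Fintype.card_coe])
  refine (injective_iff_map_eq_zero E).mpr fun c hc => ?_
  by_contra hne
  have hs : ∀ γ, c.1 γ ≠ 0 → Src I α γ ∧ Good I γ := fun γ h => by_contra fun h' => h (c.2.1 γ h')
  have hS : ∀ γ, c.1 γ ≠ 0 → γ ∈ (pts hI).filter fun γ => c.1 γ ≠ 0 := fun γ h =>
    Finset.mem_filter.mpr ⟨(mem_pts hI).mpr (hs γ h).2, h⟩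
  obtain ⟨γ₁, hγ₁⟩ := Function.ne_iff.mp (fun e => hne (Subtype.ext e) : c.1 ≠ 0)
  have inP : ∀ t i : ℕ, (relP I α (t, i) ∨ relN I α (t, i)) → Good I (pos (t, i)) → (t, i) ∈ P := by
    intro t i hr hg
    refine Finset.mem_filter.mpr ⟨Finset.mem_product.mpr ?_, hr⟩
    have hlt := ((good_iff_lt hI).mp hg).2
    have hnn := hg.1 2
    have e : stairZ I t i ≠ 0 := fun e0 => by
      simp only [pos] at hlt hnn
      split_ifs at hlt hnn <;> simp [e0] at hlt hnn <;> omega
    simp only [Finset.mem_range]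
    exact ⟨not_le.mp fun h => e (hp t i h), not_le.mp fun h => e (hR t i (Or.inr h))⟩
  rcases lt_or_ge (α 1) 0 with ha | ha
  · obtain ⟨γ, hγ, hmin⟩ := ((pts hI).filter fun γ => c.1 γ ≠ 0).exists_min_image (fun γ => γ 1)
      ⟨γ₁, hS γ₁ hγ₁⟩
    have hcγ := (Finset.mem_filter.mp hγ).2
    obtain ⟨hsrc, hgood⟩ := hs γ hcγ
    obtain ⟨hs0, hs1, hs2⟩ := (src_iff_le hI).mp hsrc
    obtain ⟨t, ht⟩ : ∃ n : ℕ, γ 0 = n := ⟨_, (Int.toNat_of_nonneg (hgood.1 0)).symm⟩
    obtain ⟨i, hi⟩ : ∃ n : ℕ, γ 1 = n := ⟨_, (Int.toNat_of_nonneg (hgood.1 1)).symm⟩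
    have hlt := ((good_iff_lt hI).mp hgood).2
    simp only [ht, hi, Int.toNat_natCast] at hlt
    have e0 : (γ 0 - α 0).toNat = t - (α 0).toNat := by omega
    have e1 : (γ 1 - α 1).toNat = i + (-α 1).toNat := by omega
    rw [e0, e1] at hs2
    have hz2 := hgood.1 2
    have hposN : pos (t, i) = ![(t : ℤ), i, (stairZ I t i : ℤ) - 1] := if_neg (not_le.mpr ha)
    have hgtop : Good I (pos (t, i)) := (good_iff_lt hI).mpr ⟨fun l => by
      rw [hposN]; fin_cases l <;> simp; omega, by rw [hposN]; simp⟩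
    have hctop : c.1 (pos (t, i)) ≠ 0 := by
      rw [val_down hI c.2 hgtop hsrc fun l => by
        rw [hposN]; fin_cases l <;> simp [ht, hi]; omega]
      exact hcγ
    let δ : Fin 3 → ℤ := ![(t : ℤ), (i : ℤ) - 1, (stairZ I t i : ℤ) - 1]
    have hrel : relN I α (t, i) := by
      refine ⟨ha, by dsimp only; omega, by dsimp only; omega, ?_⟩
      by_contra hge
      dsimp only at hge
      have hsδ : Src I α δ := (src_iff_le hI).mpr ⟨by simp [δ]; omega, by simp [δ]; omega, by
        simp only [δ, Matrix.cons_val_zero, Matrix.cons_val_one, Matrix.cons_val_two, Matrix.vecHead,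
          Matrix.vecTail, Function.comp_apply, Fin.succ_zero_eq_one]
        rw [show ((t : ℤ) - α 0).toNat = t - (α 0).toNat by omega,
          show ((i : ℤ) - 1 - α 1).toNat = i + (-α 1).toNat - 1 by omega]
        omega⟩
      have hcδ : c.1 δ ≠ 0 := by
        rw [← val_down hI c.2 hgtop hsδ fun l => by rw [hposN]; fin_cases l <;> simp [δ]]
        exact hctop
      have := hmin δ (hS δ hcδ)
      simp [δ, hi] at this
    exact hctop (congrFun hc ⟨(t, i), inP t i (Or.inr hrel) hgtop⟩)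
  · obtain ⟨γ, hγ, hmax⟩ := ((pts hI).filter fun γ => c.1 γ ≠ 0).exists_max_image (fun γ => γ 1)
      ⟨γ₁, hS γ₁ hγ₁⟩
    have hcγ := (Finset.mem_filter.mp hγ).2
    obtain ⟨hsrc, hgood⟩ := hs γ hcγ
    obtain ⟨hs0, hs1, hs2⟩ := (src_iff_le hI).mp hsrc
    obtain ⟨t, ht⟩ : ∃ n : ℕ, γ 0 = n := ⟨_, (Int.toNat_of_nonneg (hgood.1 0)).symm⟩
    obtain ⟨i, hi⟩ : ∃ n : ℕ, γ 1 = n := ⟨_, (Int.toNat_of_nonneg (hgood.1 1)).symm⟩
    have e0 : (γ 0 - α 0).toNat = t - (α 0).toNat := by omega
    have e1 : (γ 1 - α 1).toNat = i - (α 1).toNat := by omega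
    rw [e0, e1] at hs2
    have hposP : pos (t, i) = ![(t : ℤ), i,
        α 2 + stairZ I (t - (α 0).toNat) (i - (α 1).toNat)] := if_pos ha
    have hsP : Src I α (pos (t, i)) := (src_iff_le hI).mpr ⟨by rw [hposP]; simp; omega,
      by rw [hposP]; simp; omega, by
        rw [hposP]
        simp only [Matrix.cons_val_zero, Matrix.cons_val_one, Matrix.cons_val_two, Matrix.vecHead,
          Matrix.vecTail, Function.comp_apply, Fin.succ_zero_eq_one]
        rw [show ((t : ℤ) - α 0).toNat = t - (α 0).toNat by omega,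
          show ((i : ℤ) - α 1).toNat = i - (α 1).toNat by omega]⟩
    have hcP : c.1 (pos (t, i)) ≠ 0 := by
      rw [← val_down hI c.2 hgood hsP fun l => by
        rw [hposP]; fin_cases l <;> simp [ht, hi]; omega]
      exact hcγ
    have hgP := (hs _ hcP).2
    have hlt := ((good_iff_lt hI).mp hgP).2
    have hnn := hgP.1 2
    rw [hposP] at hlt hnn
    simp at hlt hnn
    have hrel : relP I α (t, i) := by
      refine ⟨ha, by dsimp only; omega, by dsimp only; omega, ?_, hlt⟩
      by_contra hge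
      dsimp only at hge
      have hg' : Good I (pos (t, i) + Pi.single 1 1) := (good_iff_lt hI).mpr ⟨fun l => by
        rw [hposP]; fin_cases l <;> simp <;> omega, by
        rw [hposP]; simp [show ((i : ℤ) + 1).toNat = i + 1 by omega]; omega⟩
      have := hmax _ (hS _ (by rw [c.2.2 _ 1 hsP hg']; exact hcP))
      rw [hposP] at this
      simp [hi] at this
    exact hcP (congrFun hc ⟨(t, i), inP t i (Or.inl hrel) hgP⟩)

open Classical in
include hI in
theorem sum_nonneg_le (hp : ∀ i j, p ≤ i → stairZ I i j = 0) (D : Finset (Fin 3 → ℤ))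
    (hD : ∀ α ∈ D, 0 ≤ α 0) :
    ∑ α ∈ D, Module.finrank k (tPiece I α) ≤ (p + 1) * (pts hI).card := by
  obtain ⟨R₀, hR₀⟩ := exists_bound_stair hI
  set R := R₀ + p with hRdef
  have hR : ∀ i j, R ≤ i ∨ R ≤ j → stairZ I i j = 0 := fun i j h => hR₀ i j (by omega)
  let Q := (D ×ˢ (Finset.range p ×ˢ Finset.range R)).filter fun x => relP I x.1 x.2
  let Q' := (D ×ˢ (Finset.range p ×ˢ Finset.range R)).filter fun x => relN I x.1 x.2
  have h1 : ∑ α ∈ D, Module.finrank k (tPiece I α) ≤ Q.card + Q'.card := by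
    refine (Finset.sum_le_sum fun α hα => (finrank_le_reps hI hR hp (hD α hα)).trans
      ((le_of_eq (by rw [Finset.filter_or])).trans (Finset.card_union_le _ _))).trans (le_of_eq ?_)
    rw [Finset.sum_add_distrib]
    simp only [Q, Q', Finset.card_filter, Finset.sum_product]
  let row : ℕ → ℕ := fun s => ∑ j ∈ Finset.range R, stairZ I s j
  have hrow : ∀ s, ∑ j ∈ Finset.range R, (j + 1) * (stairZ I s j - stairZ I s (j + 1)) = row s := by
    intro s
    have := sum_parts _ (fun j => (stair_anti hI s j).2) R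
    rw [hR s R (Or.inr le_rfl)] at this
    simpa using this
  have h2 : Q.card ≤ ∑ t ∈ Finset.range p, (t + 1) * row t := by
    refine (Finset.card_le_card_of_injOn
      (t := (Finset.range p ×ˢ Finset.range R).sigma fun q => Finset.range (q.1 + 1) ×ˢ
        (Finset.range (q.2 + 1) ×ˢ Finset.Ico (stairZ I q.1 (q.2 + 1) : ℤ) (stairZ I q.1 q.2)))
      (fun x => ⟨x.2, ((x.1 0).toNat, (x.1 1).toNat,
        x.1 2 + stairZ I (x.2.1 - (x.1 0).toNat) (x.2.2 - (x.1 1).toNat))⟩) (fun x hx => ?_)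
      fun x hx y hy e => ?_).trans ?_
    · obtain ⟨hm, ha, hb, hc, hd, he⟩ := Finset.mem_filter.mp hx
      simp only [Finset.mem_coe, Finset.mem_sigma, Finset.mem_product, Finset.mem_range,
        Finset.mem_Ico]
      have hm' := (Finset.mem_product.mp hm).2
      simp only [Finset.mem_product, Finset.mem_range] at hm'
      exact ⟨hm', by omega, by omega, hd, he⟩
    · obtain ⟨hm, ha, -⟩ := Finset.mem_filter.mp hx
      obtain ⟨hm', ha', -⟩ := Finset.mem_filter.mp hy
      have a0 := hD _ (Finset.mem_product.mp hm).1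
      have b0 := hD _ (Finset.mem_product.mp hm').1
      simp only [Sigma.mk.injEq, heq_eq_eq, Prod.mk.injEq] at e
      obtain ⟨e, e0, e1, e2⟩ := e
      rw [e, e0, e1] at e2
      simp at e2
      refine Prod.ext (funext fun l => ?_) e
      fin_cases l <;> simp <;> omega
    · simp only [Finset.card_sigma, Finset.card_product, Finset.card_range, Int.card_Ico,
        Finset.sum_product]
      refine le_of_eq (Finset.sum_congr rfl fun t _ => ?_)
      rw [← hrow, Finset.mul_sum]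
      exact Finset.sum_congr rfl fun j _ => by simp
  have h3 : Q'.card ≤ ∑ s ∈ Finset.range p, (p - s) * row s := by
    refine (Finset.card_le_card_of_injOn
      (t := (Finset.range p ×ˢ Finset.range R).sigma fun q => Finset.Ico q.1 p ×ˢ
        (Finset.range (q.2 + 1) ×ˢ Finset.Ico (stairZ I q.1 (q.2 + 1) : ℤ) (stairZ I q.1 q.2)))
      (fun x => ⟨(x.2.1 - (x.1 0).toNat, x.2.2 + (-x.1 1).toNat - 1), (x.2.1, x.2.2,
        (stairZ I x.2.1 x.2.2 : ℤ) - 1 - x.1 2)⟩) (fun x hx => ?_) fun x hx y hy e => ?_).trans ?_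
    · obtain ⟨hm, ha, hb, hd, he⟩ := Finset.mem_filter.mp hx
      simp only [Finset.mem_coe, Finset.mem_sigma, Finset.mem_product, Finset.mem_range,
        Finset.mem_Ico]
      have hm' := (Finset.mem_product.mp hm).2
      simp only [Finset.mem_product, Finset.mem_range] at hm'
      have hA : x.2.2 + (-x.1 1).toNat - 1 + 1 = x.2.2 + (-x.1 1).toNat := by omega
      rw [hA]
      refine ⟨⟨by omega, ?_⟩, ⟨by omega, hm'.1⟩, by omega, by omega, by omega⟩
      by_contra hge
      have hh := hR (x.2.1 - (x.1 0).toNat) (x.2.2 + (-x.1 1).toNat) (Or.inr (by omega))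
      have hh' := hR (x.2.1 - (x.1 0).toNat) (x.2.2 + (-x.1 1).toNat - 1) (Or.inr (by omega))
      omega
    · obtain ⟨hm, ha, hb, -⟩ := Finset.mem_filter.mp hx
      obtain ⟨hm', ha', hb', -⟩ := Finset.mem_filter.mp hy
      have a0 := hD _ (Finset.mem_product.mp hm).1
      have b0 := hD _ (Finset.mem_product.mp hm').1
      simp only [Sigma.mk.injEq, heq_eq_eq, Prod.mk.injEq] at e
      obtain ⟨⟨f0, f1⟩, e0, e1, e2⟩ := e
      have e : x.2 = y.2 := Prod.ext e0 e1
      refine Prod.ext (funext fun l => ?_) e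
      rw [e] at e2
      fin_cases l <;> simp <;> omega
    · simp only [Finset.card_sigma, Finset.card_product, Finset.card_range, Nat.card_Ico, Int.card_Ico,
        Finset.sum_product]
      refine le_of_eq (Finset.sum_congr rfl fun t _ => ?_)
      rw [← hrow, Finset.mul_sum]
      exact Finset.sum_congr rfl fun j _ => by simp
  have hd : (pts hI).card = ∑ s ∈ Finset.range p, row s := by
    rw [Finset.card_eq_sum_ones, sum_pts_eq hI (fun _ => 1) hR]
    simp only [one_mul]
    refine (Finset.sum_subset (Finset.range_mono (by omega : p ≤ R)) fun s _ hs => ?_).symm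
    exact Finset.sum_eq_zero fun j _ => hp s j (not_lt.mp fun h => hs (Finset.mem_range.mpr h))
  calc _ ≤ Q.card + Q'.card := h1
    _ ≤ ∑ t ∈ Finset.range p, ((t + 1) * row t + (p - t) * row t) := by
        rw [Finset.sum_add_distrib]; omega
    _ = (p + 1) * (pts hI).card := by
        rw [hd, Finset.mul_sum]
        refine Finset.sum_congr rfl fun t ht => ?_
        have := Finset.mem_range.mp ht
        rw [← Nat.add_mul]; congr 1; omega

include hI in
/-- Powers of the first variable bound the tangent space. -/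
theorem finrank_tgt_le_of_pow (hx : (X 0 : MvPolynomial (Fin 3) k) ^ p ∈ I) :
    Module.finrank k (Tgt I) ≤ (2 * p + 1) * Module.finrank k (MvPolynomial (Fin 3) k ⧸ I) := by
  classical
  have hp : ∀ i j, p ≤ i → stairZ I i j = 0 := fun i j hi => by
    by_contra hne
    refine (not_exps_iff_lt hI i j 0).mpr (Nat.pos_of_ne_zero hne)
      (exps_upper I (a := Finsupp.single 0 p) (fun l => by fin_cases l <;> simp [e3, hi]) ?_)
    show monomial _ (1 : k) ∈ I
    rwa [← X_pow_eq_monomial]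
  have hb := sum_nonneg_le hI hp ((degs hI).filter fun α => 0 ≤ α 0)
    (fun α hα => (Finset.mem_filter.mp hα).2)
  have hsplit : ∑ α ∈ (degs hI).filter (fun α => 0 ≤ α 0), Module.finrank k (tPiece I α) =
      Module.finrank k ↥(sigPiece I ({1} : Set (Fin 3))) + Module.finrank k ↥(sigPiece I ({2} : Set (Fin 3))) +
        Module.finrank k ↥(sigPiece I ({0}ᶜ : Set (Fin 3))) := by
    have e : ∀ N : Set (Fin 3), Module.finrank k ↥(sigPiece I N) =
        ∑ α ∈ degs hI, if (∀ i, α i < 0 ↔ i ∈ N) then Module.finrank k (tPiece I α) else 0 := fun N =>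
      (finrank_iSup hI fun α => ∀ i, α i < 0 ↔ i ∈ N).trans (Finset.sum_filter _ _)
    rw [Finset.sum_filter, e, e, e, ← Finset.sum_add_distrib, ← Finset.sum_add_distrib]
    refine Finset.sum_congr rfl fun α _ => ?_
    by_cases h : (∀ i, 0 ≤ α i) ∨ ∀ i, α i < 0
    · rw [tPiece_eq_bot hI h]; simp
    simp only [Set.mem_singleton_iff, Set.mem_compl_iff, Fin.forall_fin_succ,
      Fin.isValue, IsEmpty.forall_iff, and_true] at h ⊢
    by_cases h0 : α 0 < 0 <;> by_cases h1 : α 1 < 0 <;> by_cases h2 : α 2 < 0 <;>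
      simp [h0, h1, h2, ← not_lt] at h ⊢
  have e0 := finrank_sig hI 0
  have e1 := finrank_sig hI 1
  have e2 := finrank_sig hI 2
  rw [finrank_tgt_eq hI, Fin.sum_univ_three]
  rw [hsplit, ← finrank_quot hI] at hb
  rw [Nat.add_mul, Nat.mul_assoc, one_mul]
  rw [Nat.add_mul, one_mul] at hb
  omega

theorem finrank_tgt_le_mPow (d r : ℕ) (hdr : d ≤ Nat.choose (r + 2) 3) (hp : 4 * p ≤ 3 * r + 1)
    (hd : Module.finrank k (MvPolynomial (Fin 3) k ⧸ I) = d) (hI : IsMonomial I)
    (hx : (X 0 : MvPolynomial (Fin 3) k) ^ p ∈ I) :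
    Module.finrank k (Tgt I) ≤ Module.finrank k (Tgt (mPow (n := 3) (k := k) r)) := by
  rw [(finrank_all_mPow (k := k) r 0).2.2]
  refine (finrank_tgt_le_of_pow hI hx).trans ?_
  rw [hd]
  have h2 : ∀ m : ℕ, 2 * (m + 1).choose 2 = (m + 1) * m := fun m => by
    induction m with
    | zero => simp
    | succ m ih => rw [Nat.choose_succ_succ', Nat.choose_one_right]; ring_nf at ih ⊢; omega
  have h3 : 6 * (r + 2).choose 3 = (r + 2) * (r + 1) * r := by
    have := Nat.choose_succ_right_eq (r + 2) 2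
    rw [show r + 2 - 2 = r by omega, show (2 : ℕ) + 1 = 3 from rfl] at this
    nlinarith [h2 (r + 1)]
  have key : 2 * ((r + 2).choose 2 * (r + 1).choose 2) = 3 * (r + 1) * (r + 2).choose 3 := by
    nlinarith [h2 r, h2 (r + 1)]
  have := Nat.mul_le_mul (show 2 * (2 * p + 1) ≤ 3 * (r + 1) by omega) hdr
  rw [mul_assoc] at this
  omega

end Groth.Agent.L13.HilbPn
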