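import Groth.Agent.L13.HilbPn.Initial
import Groth.Agent.L13.HilbPn.XPow
import Mathlib.Algebra.MvPolynomial.Funext
import Mathlib.RingTheory.MvPolynomial.Homogeneous
import Mathlib.RingTheory.Ideal.Quotient.Operations

/-!
Changes of coordinates and the general bound on the tangent dimension.
-/

set_option autoImplicit false

universe u

namespace Groth.Agent.L13.HilbPn

open MvPolynomial W4c1hilbpn

variable {k : Type u} [Field k]

/-- The substitution attached to a point with nonzero first coordinate. -/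
noncomputable def sub0 (v : Fin 3 → k) : MvPolynomial (Fin 3) k →ₐ[k] MvPolynomial (Fin 3) k :=
  aeval ![C (v 0) * X 0, X 1 + C (v 1) * X 0, X 2 + C (v 2) * X 0]

/-- The inverse substitution. -/
noncomputable def sub1 (v : Fin 3 → k) : MvPolynomial (Fin 3) k →ₐ[k] MvPolynomial (Fin 3) k :=
  aeval ![C (v 0)⁻¹ * X 0, X 1 - C (v 1 * (v 0)⁻¹) * X 0, X 2 - C (v 2 * (v 0)⁻¹) * X 0]

/-- The change of coordinates. -/
noncomputable def coordEquiv (v : Fin 3 → k) (h : v 0 ≠ 0) :
    MvPolynomial (Fin 3) k ≃ₐ[k] MvPolynomial (Fin 3) k :=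
  have hC : C (v 0)⁻¹ * C (v 0) = (1 : MvPolynomial (Fin 3) k) := by
    rw [← C_mul, inv_mul_cancel₀ h, C_1]
  AlgEquiv.ofAlgHom (sub0 v) (sub1 v)
    (algHom_ext fun i => by
      fin_cases i <;> simp [sub0, sub1] <;> grind)
    (algHom_ext fun i => by
      fin_cases i <;> simp [sub0, sub1] <;> grind)

lemma symm_mem {I J : Ideal (MvPolynomial (Fin 3) k)}
    (e : MvPolynomial (Fin 3) k ≃ₐ[k] MvPolynomial (Fin 3) k) (hJ : J = I.map (e : MvPolynomial (Fin 3) k →+* MvPolynomial (Fin 3) k))
    {y : MvPolynomial (Fin 3) k} (hy : y ∈ J) : e.symm y ∈ I := by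
  subst hJ
  obtain ⟨x, hx, rfl⟩ := (Ideal.mem_map_iff_of_surjective _ e.surjective).mp hy
  simpa using hx

/-- Transport of homomorphisms to the quotient along an automorphism. -/
noncomputable def tgtTransport {I J : Ideal (MvPolynomial (Fin 3) k)}
    (e : MvPolynomial (Fin 3) k ≃ₐ[k] MvPolynomial (Fin 3) k) (hJ : J = I.map (e : MvPolynomial (Fin 3) k →+* MvPolynomial (Fin 3) k)) :
    Tgt I →ₗ[k] Tgt J where
  toFun φ :=
    { toFun := fun y => Ideal.quotientEquivAlg I J e hJ (φ ⟨e.symm y.1, symm_mem e hJ y.2⟩)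
      map_add' := fun y z => by
        rw [← map_add, ← map_add]; congr 2; exact Subtype.ext (by simp)
      map_smul' := fun s y => by
        have : φ ⟨e.symm (s • y).1, symm_mem e hJ (s • y).2⟩ = e.symm s • φ ⟨e.symm y.1, symm_mem e hJ y.2⟩ := by
          rw [← map_smul]; congr 1; exact Subtype.ext (by simp)
        rw [this]
        generalize φ _ = z
        obtain ⟨p, rfl⟩ := Ideal.Quotient.mk_surjective z
        rw [show e.symm s • Ideal.Quotient.mk I p = Ideal.Quotient.mk I (e.symm s * p) from rfl]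
        show Ideal.Quotient.mk J (e (e.symm s * p)) = Ideal.Quotient.mk J (s * e p)
        simp }
  map_add' φ ψ := by ext y; simp
  map_smul' t φ := by ext y; simp

lemma tgtTransport_injective {I J : Ideal (MvPolynomial (Fin 3) k)}
    (e : MvPolynomial (Fin 3) k ≃ₐ[k] MvPolynomial (Fin 3) k) (hJ : J = I.map (e : MvPolynomial (Fin 3) k →+* MvPolynomial (Fin 3) k)) :
    Function.Injective (tgtTransport e hJ) := by
  intro φ ψ h
  refine LinearMap.ext fun x => ?_
  have hy : e x.1 ∈ J := hJ ▸ Ideal.mem_map_of_mem _ x.2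
  have h1 := LinearMap.congr_fun h ⟨e x.1, hy⟩
  have hx : ∀ hm, (⟨e.symm (e x.1), hm⟩ : I) = x := fun _ => Subtype.ext (e.symm_apply_apply x.1)
  have h2 := (Ideal.quotientEquivAlg I J e hJ).injective h1
  rwa [hx] at h2

section bound

/-- The restriction to the first axis. -/
noncomputable def axis : MvPolynomial (Fin 3) k →ₐ[k] Polynomial k :=
  aeval ![Polynomial.X, 0, 0]

lemma coeff_axis (g : MvPolynomial (Fin 3) k) (p : ℕ) :
    (axis g).coeff p = coeff (Finsupp.single 0 p) g := by
  induction g using MvPolynomial.induction_on' with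
  | monomial β c =>
    rw [coeff_monomial, axis, aeval_monomial, Finsupp.prod_fintype _ _ (by simp), Fin.prod_univ_three]
    have hs : β = Finsupp.single 0 p ↔ β 0 = p ∧ β 1 = 0 ∧ β 2 = 0 := by
      constructor
      · rintro rfl; simp
      · rintro ⟨a, b, c⟩; ext l; fin_cases l <;> simp [a, b, c]
    simp only [hs]
    by_cases h1 : β 1 = 0 <;> by_cases h2 : β 2 = 0 <;> simp [h1, h2, Polynomial.coeff_X_pow, eq_comm]
  | add a b ha hb => simp [ha, hb]

lemma sub0_total (v : Fin 3 → k) (f : MvPolynomial (Fin 3) k) :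
    (sub0 v f).totalDegree ≤ f.totalDegree := by
  classical
  conv_lhs => rw [← f.support_sum_monomial_coeff, map_sum]
  refine (totalDegree_finset_sum _ _).trans (Finset.sup_le fun β hβ => ?_)
  rw [sub0, aeval_monomial, algebraMap_eq]
  refine (totalDegree_mul _ _).trans ?_
  rw [totalDegree_C, zero_add, Finsupp.prod]
  refine (totalDegree_finset_prod _ _).trans ((Finset.sum_le_sum fun i _ => ?_).trans (le_totalDegree hβ))
  refine (totalDegree_pow _ _).trans ?_
  refine le_of_le_of_eq (Nat.mul_le_mul_left _ (?_ : _ ≤ 1)) (Nat.mul_one _)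
  have hC : ∀ (a : k) (j : Fin 3), (C a * X j : MvPolynomial (Fin 3) k).totalDegree ≤ 1 := fun a j =>
    (totalDegree_mul _ _).trans (by rw [totalDegree_C, totalDegree_X])
  fin_cases i
  · exact hC _ _
  · exact (totalDegree_add _ _).trans (max_le (totalDegree_X 1).le (hC _ _))
  · exact (totalDegree_add _ _).trans (max_le (totalDegree_X 2).le (hC _ _))

/-- The top coefficient on the axis after the substitution. -/
lemma coeff_sub0 (v : Fin 3 → k) (f : MvPolynomial (Fin 3) k) (p : ℕ) :
    coeff (Finsupp.single 0 p) (sub0 v f) = eval v (homogeneousComponent p f) := by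
  classical
  rw [← coeff_axis]
  induction f using MvPolynomial.induction_on' with
  | monomial β c =>
    have : axis (sub0 v (monomial β c)) = Polynomial.C (c * ∏ i, v i ^ β i) * Polynomial.X ^ (∑ i, β i) := by
      rw [sub0, aeval_monomial, map_mul, Finsupp.prod_fintype _ _ (by simp), Fin.prod_univ_three,
        Fin.prod_univ_three, Fin.sum_univ_three]
      simp [axis, mul_pow]
      ring
    rw [this, Polynomial.coeff_C_mul_X_pow,
      homogeneousComponent_of_mem (isHomogeneous_monomial (σ := Fin 3) c (n := ∑ i, β i) (by rw [Finsupp.degree_eq_sum]))]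
    by_cases hp : p = ∑ i, β i
    · rw [if_pos hp, if_pos hp, eval_monomial, Finsupp.prod_fintype _ _ (by simp)]
    · rw [if_neg hp, if_neg hp, map_zero]
  | add a b ha hb => simp [ha, hb]

lemma exists_low_degree (I : Ideal (MvPolynomial (Fin 3) k))
    [Module.Finite k (MvPolynomial (Fin 3) k ⧸ I)] (r : ℕ)
    (h : Module.finrank k (MvPolynomial (Fin 3) k ⧸ I) ≤ (r + 2).choose 3) :
    ∃ f ∈ I, f ≠ 0 ∧ f.totalDegree ≤ r := by
  classical
  let A := {P : Fin 3 → ℕ // ∑ i, P i < r + 1}
  haveI : Finite A := Finite.of_injective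
    (fun P : A => fun i => (⟨P.1 i, lt_of_le_of_lt (Finset.single_le_sum (fun j _ => Nat.zero_le _) (Finset.mem_univ i)) P.2⟩ : Fin (r + 1)))
    (fun P Q e => Subtype.ext (funext fun i => congrArg Fin.val (congrFun e i)))
  haveI := Fintype.ofFinite A
  let ex : A → Fin 3 →₀ ℕ := fun P => Finsupp.equivFunOnFinite.symm P.1
  have exinj : Function.Injective ex := fun P Q e =>
    Subtype.ext (Finsupp.equivFunOnFinite.symm.injective e)
  have hcard : Module.finrank k (MvPolynomial (Fin 3) k ⧸ I) < Fintype.card A := by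
    rw [← Nat.card_eq_fintype_card, card_sum_lt 3 (r + 1) (by omega),
      show 3 + (r + 1) - 1 = r + 2 + 1 by omega, Nat.choose_succ_succ' (r + 2) 2]
    have := Nat.choose_pos (show 2 ≤ r + 2 by omega)
    show _ < (r + 2).choose 2 + (r + 2).choose (2 + 1)
    norm_num
    omega
  have hdep : ¬ LinearIndependent k fun P : A => Ideal.Quotient.mk I (monomial (ex P) 1) :=
    fun hli => hcard.not_ge hli.fintype_card_le_finrank
  rw [Fintype.not_linearIndependent_iff] at hdep
  obtain ⟨c, hc, P₀, hP₀⟩ := hdep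
  refine ⟨∑ P, monomial (ex P) (c P), ?_, fun h0 => hP₀ ?_, ?_⟩
  · rw [← Ideal.Quotient.eq_zero_iff_mem, map_sum, ← hc]
    refine Finset.sum_congr rfl fun P _ => ?_
    rw [← Ideal.Quotient.mkₐ_eq_mk k, ← map_smul, smul_monomial]; simp
  · have := congrArg (coeff (ex P₀)) h0
    rw [coeff_sum, coeff_zero, Finset.sum_eq_single P₀, coeff_monomial, if_pos rfl] at this
    · exact this
    · intro P _ hne; rw [coeff_monomial, if_neg fun e => hne (exinj e)]
    · simp
  · refine (totalDegree_finset_sum _ _).trans (Finset.sup_le fun P _ => ?_)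
    refine (totalDegree_monomial_le _ _).trans ?_
    rw [Finsupp.sum_fintype _ _ (fun _ => rfl)]
    have := P.2
    simp [ex]
    omega

/-- The initial exponent of a polynomial with full axis coefficient. -/
lemma degree_eq_axis {g : MvPolynomial (Fin 3) k} {p : ℕ} (hp : g.totalDegree ≤ p)
    (hc : coeff (Finsupp.single 0 p) g ≠ 0) : mo.degree g = Finsupp.single 0 p := by
  refine mo.toSyn.injective (le_antisymm ?_ (mo.le_degree (mem_support_iff.mpr hc)))
  set β := mo.degree g
  have hβ : β ∈ g.support := mo.degree_mem_support fun h => hc (by rw [h, coeff_zero])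
  have hs : β.sum (fun _ e => e) ≤ p := (le_totalDegree hβ).trans hp
  rw [Finsupp.sum_fintype _ _ (fun _ => rfl)] at hs
  by_contra hlt
  rw [key_cast_le, not_le] at hlt
  simp only [key, Prod.Lex.toLex_lt_toLex, Fin.sum_univ_three] at hlt hs
  rcases hlt with h | ⟨h, l, hl, hl'⟩
  · simp [cast] at h; omega
  · fin_cases l
    · simp [cast] at hl' h; omega
    · have := hl 0 (by decide); simp [cast] at hl' h this; omega
    · have := hl 0 (by decide); simp [cast] at hl' h this; omega

theorem three_mul_tgt_le [Infinite k] (d r : ℕ) (hdr : d ≤ Nat.choose (r + 2) 3)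
    (I : Ideal (MvPolynomial (Fin 3) k)) [Module.Finite k (MvPolynomial (Fin 3) k ⧸ I)]
    (hd : Module.finrank k (MvPolynomial (Fin 3) k ⧸ I) = d) :
    3 * Module.finrank k (Tgt I) ≤ 4 * Module.finrank k (Tgt (mPow (n := 3) (k := k) r)) := by
  classical
  obtain ⟨f, hf, hf0, hfr⟩ := exists_low_degree I r (hd ▸ hdr)
  set p := f.totalDegree
  have htop : homogeneousComponent p f ≠ 0 := by
    intro h0
    have hne : f.support.Nonempty := Finset.nonempty_of_ne_empty (by simpa using hf0)
    obtain ⟨β, hβ, hmax⟩ := Finset.exists_mem_eq_sup f.support hne fun s => s.sum fun _ e => e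
    have := congrArg (coeff β) h0
    rw [coeff_homogeneousComponent, coeff_zero, if_pos] at this
    · exact mem_support_iff.mp hβ this
    · rw [Finsupp.degree_eq_sum]
      show _ = f.totalDegree
      rw [totalDegree, hmax, Finsupp.sum_fintype _ _ (fun _ => rfl)]
  obtain ⟨v, hv⟩ : ∃ v : Fin 3 → k, eval v (X 0 * homogeneousComponent p f) ≠ 0 := by
    by_contra hall
    push Not at hall
    exact mul_ne_zero (X_ne_zero 0) htop (MvPolynomial.funext fun v => by rw [hall v, map_zero])
  rw [map_mul, eval_X, mul_ne_zero_iff] at hv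
  let e := coordEquiv v hv.1
  let J : Ideal (MvPolynomial (Fin 3) k) :=
    I.map (e : MvPolynomial (Fin 3) k →+* MvPolynomial (Fin 3) k)
  let q := Ideal.quotientEquivAlg I J e rfl
  haveI : Module.Finite k (MvPolynomial (Fin 3) k ⧸ J) := Module.Finite.equiv q.toLinearEquiv
  have hJd : Module.finrank k (MvPolynomial (Fin 3) k ⧸ J) = d := by
    rw [← hd]; exact q.toLinearEquiv.finrank_eq.symm
  haveI := finite_tgt J
  have h1 : Module.finrank k (Tgt I) ≤ Module.finrank k (Tgt J) :=
    LinearMap.finrank_le_finrank_of_injective (tgtTransport_injective (I := I) e rfl)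
  have hg : e f ∈ J := Ideal.mem_map_of_mem _ hf
  have hc : coeff (Finsupp.single 0 p) (e f) ≠ 0 := by
    show coeff _ (sub0 v f) ≠ 0
    rw [coeff_sub0]; exact hv.2
  have hdeg : mo.degree (e f) = Finsupp.single 0 p := degree_eq_axis (sub0_total v f) hc
  have hx : (X 0 : MvPolynomial (Fin 3) k) ^ p ∈ initI J := by
    rw [X_pow_eq_monomial]
    exact (exps_initI J).mpr ⟨e f, hg, fun h => hc (by rw [h, coeff_zero]), hdeg⟩
  haveI := finite_initI J
  have h2 := finrank_tgt_le_initI J
  have h3 := finrank_tgt_le_of_pow (initI_monomial J) hx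
  rw [finrank_initI, hJd] at h3
  rw [(finrank_all_mPow (k := k) r 0).2.2]
  have h2c : ∀ m : ℕ, 2 * (m + 1).choose 2 = (m + 1) * m := fun m => by
    induction m with
    | zero => simp
    | succ m ih => rw [Nat.choose_succ_succ', Nat.choose_one_right]; ring_nf at ih ⊢; omega
  have h3c : 6 * (r + 2).choose 3 = (r + 2) * (r + 1) * r := by
    have := Nat.choose_succ_right_eq (r + 2) 2
    rw [show r + 2 - 2 = r by omega, show (2 : ℕ) + 1 = 3 from rfl] at this
    nlinarith [h2c (r + 1)]
  have key : 2 * ((r + 2).choose 2 * (r + 1).choose 2) = 3 * (r + 1) * (r + 2).choose 3 := by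
    nlinarith [h2c r, h2c (r + 1)]
  have h5 := Nat.mul_le_mul (show 2 * p + 1 ≤ 2 * (r + 1) by omega) hdr
  rw [mul_assoc] at key h5
  omega

end bound

end Groth.Agent.L13.HilbPn
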