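import Groth.Agent.L13.HilbPn.Koszul
import Mathlib.Algebra.BigOperators.Fin
import Mathlib.Data.Int.Interval

/-!
Counting consequences of the duality: the sign pattern pieces in three variables.
-/

set_option autoImplicit false

universe u

namespace Groth.Agent.L13.HilbPn

open MvPolynomial W4c1hilbpn

variable {k : Type u} [Field k] {I : Ideal (MvPolynomial (Fin 3) k)} (hI : IsMonomial I)
  [Module.Finite k (MvPolynomial (Fin 3) k ⧸ I)]

lemma finrank_quot : Module.finrank k (MvPolynomial (Fin 3) k ⧸ I) = (pts hI).card := by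
  classical
  let Φ : (MvPolynomial (Fin 3) k ⧸ I) →ₗ[k] (↥(pts hI) → k) :=
    LinearMap.pi fun γ => coeffQ hI γ.1 ((mem_pts hI).mp γ.2)
  have hΦ : Function.Bijective Φ := by
    refine ⟨fun x y h => quot_ext hI fun γ hγ => congrFun h ⟨γ, (mem_pts hI).mpr hγ⟩, fun v => ?_⟩
    refine ⟨Ideal.Quotient.mk I (∑ γ : ↥(pts hI), monomial (toN γ.1) (v γ)), funext fun δ => ?_⟩
    show coeffQ hI δ.1 ((mem_pts hI).mp δ.2) (Ideal.Quotient.mk I _) = v δ
    rw [coeffQ_mk, coeff_sum, Finset.sum_eq_single δ, coeff_monomial, if_pos rfl]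
    · intro γ _ hne
      rw [coeff_monomial, if_neg]
      intro e
      exact hne (Subtype.ext (by
        rw [← cast_toN (pts_nonneg hI γ.2), e, cast_toN (pts_nonneg hI δ.2)]))
    · simp
  rw [(LinearEquiv.ofBijective Φ hΦ).finrank_eq, Module.finrank_fintype_fun_eq_card, Fintype.card_coe]

omit hI in
lemma tele (G : ℤ → ℤ) (a : ℤ) : ∀ b, a ≤ b → ∑ z ∈ Finset.Ico a b, (G z - G (z + 1)) = G a - G b := by
  intro b hb
  induction b, hb using Int.le_induction with
  | base => simp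
  | succ b hb ih =>
    rw [show Finset.Ico a (b + 1) = insert b (Finset.Ico a b) by
      ext x; simp only [Finset.mem_Ico, Finset.mem_insert]; omega,
      Finset.sum_insert (by simp), ih]
    ring

/-- The number of endomorphisms as a function of three integers. -/
noncomputable def c3 (x y z : ℤ) : ℤ := cnt hI ![x, y, z]

lemma euler_vec (x y z : ℤ) :
    euler hI ![x, y, z] =
      c3 hI x y z - c3 hI (x + 1) y z - c3 hI x (y + 1) z - c3 hI x y (z + 1) +
      c3 hI (x + 1) (y + 1) z + c3 hI (x + 1) y (z + 1) + c3 hI x (y + 1) (z + 1) -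
      c3 hI (x + 1) (y + 1) (z + 1) := by
  have e : ∀ l, l + 1 - 0 = l + (1 : ℤ) := fun l => by ring
  simp only [euler, Fin.sum_univ_three, c3]
  have u0 : (![x, y, z] : Fin 3 → ℤ) + un 0 = ![x + 1, y, z] := by
    funext l; fin_cases l <;> simp [un, Pi.single_apply]
  have u1 : (![x, y, z] : Fin 3 → ℤ) + un 1 = ![x, y + 1, z] := by
    funext l; fin_cases l <;> simp [un, Pi.single_apply]
  have u2 : (![x, y, z] : Fin 3 → ℤ) + un 2 = ![x, y, z + 1] := by
    funext l; fin_cases l <;> simp [un, Pi.single_apply]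
  have ho : ∀ l, one3 l = (1 : ℤ) := fun _ => rfl
  have v0 : (![x, y, z] : Fin 3 → ℤ) + one3 - un 0 = ![x, y + 1, z + 1] := by
    funext l; simp only [Pi.sub_apply, Pi.add_apply, ho]; fin_cases l <;> simp [un, Pi.single_apply]
  have v1 : (![x, y, z] : Fin 3 → ℤ) + one3 - un 1 = ![x + 1, y, z + 1] := by
    funext l; simp only [Pi.sub_apply, Pi.add_apply, ho]; fin_cases l <;> simp [un, Pi.single_apply]
  have v2 : (![x, y, z] : Fin 3 → ℤ) + one3 - un 2 = ![x + 1, y + 1, z] := by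
    funext l; simp only [Pi.sub_apply, Pi.add_apply, ho]; fin_cases l <;> simp [un, Pi.single_apply]
  have w : (![x, y, z] : Fin 3 → ℤ) + one3 = ![x + 1, y + 1, z + 1] := by
    funext l; simp only [Pi.add_apply, ho]; fin_cases l <;> simp
  rw [u0, u1, u2, v0, v1, v2, w]
  ring

/-- The sum of the Euler characteristic over a box. -/
lemma sum_box (a₀ b₀ a₁ b₁ a₂ b₂ : ℤ) (h₀ : a₀ ≤ b₀) (h₁ : a₁ ≤ b₁) (h₂ : a₂ ≤ b₂) :
    ∑ x ∈ Finset.Ico a₀ b₀, ∑ y ∈ Finset.Ico a₁ b₁, ∑ z ∈ Finset.Ico a₂ b₂, euler hI ![x, y, z] =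
      c3 hI a₀ a₁ a₂ - c3 hI b₀ a₁ a₂ - c3 hI a₀ b₁ a₂ - c3 hI a₀ a₁ b₂ +
      c3 hI b₀ b₁ a₂ + c3 hI b₀ a₁ b₂ + c3 hI a₀ b₁ b₂ - c3 hI b₀ b₁ b₂ := by
  simp only [euler_vec]
  have hz : ∀ x y, ∑ z ∈ Finset.Ico a₂ b₂,
      (c3 hI x y z - c3 hI (x + 1) y z - c3 hI x (y + 1) z - c3 hI x y (z + 1) +
      c3 hI (x + 1) (y + 1) z + c3 hI (x + 1) y (z + 1) + c3 hI x (y + 1) (z + 1) -
      c3 hI (x + 1) (y + 1) (z + 1)) =
      (fun y => c3 hI x y a₂ - c3 hI x y b₂ - (c3 hI (x + 1) y a₂ - c3 hI (x + 1) y b₂)) y -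
      (fun y => c3 hI x y a₂ - c3 hI x y b₂ - (c3 hI (x + 1) y a₂ - c3 hI (x + 1) y b₂)) (y + 1) := by
    intro x y
    refine Eq.trans (Finset.sum_congr rfl fun z _ => ?_) ((tele (fun z => c3 hI x y z - c3 hI (x + 1) y z -
      (c3 hI x (y + 1) z - c3 hI (x + 1) (y + 1) z)) a₂ b₂ h₂).trans (by ring))
    ring
  simp only [hz]
  refine Eq.trans (Finset.sum_congr rfl fun x _ => tele _ a₁ b₁ h₁) ?_
  refine Eq.trans (Finset.sum_congr rfl fun x _ => ?_) ((tele (fun x => c3 hI x a₁ a₂ - c3 hI x a₁ b₂ -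
    (c3 hI x b₁ a₂ - c3 hI x b₁ b₂)) a₀ b₀ h₀).trans (by ring))
  ring

lemma exists_bound : ∃ C : ℤ, 2 ≤ C ∧ (∀ α ∈ degs hI, ∀ l, -C < α l ∧ α l + 1 < C) ∧
    (∀ α ∈ pts hI, ∀ l, α l + 1 < C) ∧ (∀ α, cnt hI α ≠ 0 → ∀ l, -C < α l ∧ α l + 1 < C) := by
  classical
  let S : Finset (Fin 3 → ℤ) :=
    degs hI ∪ pts hI ∪ (pts hI ×ˢ pts hI).image (fun p => p.2 - p.1)
  refine ⟨(S ×ˢ (Finset.univ : Finset (Fin 3))).sum (fun p => |p.1 p.2|) + 2, ?_, ?_, ?_, ?_⟩
  · have : 0 ≤ (S ×ˢ (Finset.univ : Finset (Fin 3))).sum (fun p => |p.1 p.2|) :=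
      Finset.sum_nonneg fun _ _ => abs_nonneg _
    omega
  all_goals
    have key : ∀ α ∈ S, ∀ l, |α l| ≤ (S ×ˢ (Finset.univ : Finset (Fin 3))).sum (fun p => |p.1 p.2|) :=
      fun α hα l => Finset.single_le_sum (f := fun p : (Fin 3 → ℤ) × Fin 3 => |p.1 p.2|)
        (fun _ _ => abs_nonneg _) (Finset.mem_product.mpr ⟨hα, Finset.mem_univ l⟩ :
          ((α, l) : (Fin 3 → ℤ) × Fin 3) ∈ _)
  · intro α hα l
    have := abs_le.mp (key α (Finset.mem_union_left _ (Finset.mem_union_left _ hα)) l)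
    omega
  · intro α hα l
    have := abs_le.mp (key α (Finset.mem_union_left _ (Finset.mem_union_right _ hα)) l)
    omega
  · intro α hα l
    obtain ⟨γ, hγ⟩ : (edg hI α).Nonempty := by
      rw [← Finset.card_pos]; simp only [cnt] at hα; omega
    obtain ⟨h1, h2⟩ := (mem_edg hI).mp hγ
    have hmem : α ∈ S := Finset.mem_union_right _ (Finset.mem_image.mpr
      ⟨(γ, γ + α), Finset.mem_product.mpr ⟨h1, h2⟩, by simp⟩)
    have := abs_le.mp (key α hmem l)
    omega

section box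

variable {C : ℤ} (hdeg : ∀ α ∈ degs hI, ∀ l, -C < α l ∧ α l + 1 < C)

include hdeg in
lemma finrank_iSup_box (p : (Fin 3 → ℤ) → Prop) [DecidablePred p] :
    Module.finrank k ↥(⨆ α : {α : Fin 3 → ℤ // p α}, tPiece I α.1) =
      ∑ α ∈ (Fintype.piFinset fun _ : Fin 3 => Finset.Ico (-C) C).filter p,
        Module.finrank k (tPiece I α) := by
  rw [finrank_iSup hI p]
  refine Finset.sum_subset (fun α hα => ?_) fun α hα hn => ?_
  · rw [Finset.mem_filter] at hα ⊢
    refine ⟨Fintype.mem_piFinset.mpr fun l => Finset.mem_Ico.mpr ?_, hα.2⟩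
    have := hdeg α hα.1 l; omega
  · have : α ∉ degs hI := fun h => hn (Finset.mem_filter.mpr ⟨h, (Finset.mem_filter.mp hα).2⟩)
    rw [mem_degs, not_not] at this
    rw [mk_zero_of_eq_bot hI this, finrank_bot]

end box

omit hI in
lemma sum_piFinset (S : Fin 3 → Finset ℤ) (f : (Fin 3 → ℤ) → ℤ) :
    ∑ α ∈ Fintype.piFinset S, f α = ∑ x ∈ S 0, ∑ y ∈ S 1, ∑ z ∈ S 2, f ![x, y, z] := by
  rw [← Finset.sum_product', ← Finset.sum_product']
  refine Finset.sum_nbij' (fun α => ((α 0, α 1), α 2)) (fun p => ![p.1.1, p.1.2, p.2]) ?_ ?_ ?_ ?_ ?_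
  · intro α hα
    have := Fintype.mem_piFinset.mp hα
    simp [this]
  · intro p hp
    simp only [Finset.mem_product, Finset.mem_coe] at hp
    refine Fintype.mem_piFinset.mpr fun l => ?_
    fin_cases l <;> simp [hp]
  · intro α _; funext l; fin_cases l <;> rfl
  · intro p _; rfl
  · intro α _; congr 1; funext l; fin_cases l <;> rfl

lemma sum_box' (a b : Fin 3 → ℤ) (h : ∀ l, a l ≤ b l) :
    ∑ α ∈ Fintype.piFinset fun l => Finset.Ico (a l) (b l), euler hI α =
      c3 hI (a 0) (a 1) (a 2) - c3 hI (b 0) (a 1) (a 2) - c3 hI (a 0) (b 1) (a 2) - c3 hI (a 0) (a 1) (b 2) +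
      c3 hI (b 0) (b 1) (a 2) + c3 hI (b 0) (a 1) (b 2) + c3 hI (a 0) (b 1) (b 2) -
      c3 hI (b 0) (b 1) (b 2) := by
  rw [sum_piFinset]
  exact sum_box hI _ _ _ _ _ _ (h 0) (h 1) (h 2)

lemma c3_zero : c3 hI 0 0 0 = (pts hI).card := by
  have : edg hI ![0, 0, 0] = pts hI := by
    ext γ
    rw [mem_edg, show (![0, 0, 0] : Fin 3 → ℤ) = 0 by funext l; fin_cases l <;> rfl, add_zero, and_self_iff]
  simp [c3, cnt, this]

include hI in
/-- The singleton sign patterns. -/
theorem finrank_sig (i : Fin 3) :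
    Module.finrank k ↥(sigPiece I ({i} : Set (Fin 3))) =
      Module.finrank k ↥(sigPiece I ({i}ᶜ : Set (Fin 3))) + Module.finrank k (MvPolynomial (Fin 3) k ⧸ I) := by
  classical
  obtain ⟨C, hC, hdeg, hpts, hcnt⟩ := exists_bound hI
  let box := Fintype.piFinset fun _ : Fin 3 => Finset.Ico (-C) C
  let p : (Fin 3 → ℤ) → Prop := fun α => ∀ l, α l < 0 ↔ l ∈ ({i} : Set (Fin 3))
  let p' : (Fin 3 → ℤ) → Prop := fun α => ∀ l, α l < 0 ↔ l ∈ ({i}ᶜ : Set (Fin 3))
  have hl : Module.finrank k ↥(sigPiece I ({i} : Set (Fin 3))) =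
      ∑ α ∈ box.filter p, Module.finrank k (tPiece I α) := finrank_iSup_box hI hdeg p
  have hr : Module.finrank k ↥(sigPiece I ({i}ᶜ : Set (Fin 3))) =
      ∑ α ∈ box.filter p', Module.finrank k (tPiece I α) := finrank_iSup_box hI hdeg p'
  have hr' : ∑ α ∈ box.filter p', Module.finrank k (tPiece I α) =
      ∑ α ∈ box.filter p, Module.finrank k (tPiece I (dual α)) := by
    refine Finset.sum_nbij' dual dual ?_ ?_ ?_ ?_ ?_
    · intro α hα
      simp only [box, p, p', Finset.mem_filter, Fintype.mem_piFinset, Finset.mem_Ico,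
        Finset.mem_coe, Set.mem_singleton_iff, Set.mem_compl_iff] at hα ⊢
      refine ⟨fun l => ?_, fun l => ?_⟩
      · have := hα.1 l; simp [dual, one3]; omega
      · have := hα.2 l
        by_cases hli : l = i <;> simp [hli, dual, one3] at this ⊢ <;> omega
    · intro α hα
      simp only [box, p, p', Finset.mem_filter, Fintype.mem_piFinset, Finset.mem_Ico,
        Finset.mem_coe, Set.mem_singleton_iff, Set.mem_compl_iff] at hα ⊢
      refine ⟨fun l => ?_, fun l => ?_⟩
      · have := hα.1 l; simp [dual, one3]; omega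
      · have := hα.2 l
        by_cases hli : l = i <;> simp [hli, dual, one3] at this ⊢ <;> omega
    · intro α _; funext l; simp [dual, one3]
    · intro α _; funext l; simp [dual, one3]
    · intro α _; exact congrArg (fun β => Module.finrank k (tPiece I β)) (by funext l; simp [dual, one3])
  have he : ∀ α ∈ box.filter p, (euler hI α : ℤ) =
      -(Module.finrank k (tPiece I α) : ℤ) + Module.finrank k (tPiece I (dual α)) := by
    intro α hα
    have hp := (Finset.mem_filter.mp hα).2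
    have h1 : α ∉ pts hI := fun h => by
      have := pts_nonneg hI h i; have := (hp i).mpr rfl; omega
    have h2 : dual α ∉ pts hI := fun h => by
      obtain ⟨l, hl⟩ : ∃ l, l ≠ i := exists_ne i
      have h3 := pts_nonneg hI h l
      have : ¬ α l < 0 := fun hh => hl ((hp l).mp hh)
      simp [dual, one3] at h3; omega
    rw [euler_eq, inv₀, inv₀, if_neg h1, if_neg h2]
    simp
  have hbox : box.filter p = Fintype.piFinset fun l =>
      Finset.Ico (if l = i then -C else 0) (if l = i then 0 else C) := by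
    ext α
    simp only [box, p, Finset.mem_filter, Fintype.mem_piFinset, Finset.mem_Ico, Set.mem_singleton_iff]
    constructor
    · intro h l
      have := h.1 l; have := h.2 l
      by_cases hli : l = i <;> simp [hli] at * <;> omega
    · intro h
      refine ⟨fun l => ?_, fun l => ?_⟩ <;> have := h l <;>
        by_cases hli : l = i <;> simp [hli] at * <;> omega
  have hsum : ∑ α ∈ box.filter p, euler hI α = -((pts hI).card : ℤ) := by
    rw [hbox, sum_box' hI _ _ (fun l => by split_ifs <;> omega)]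
    have hz : ∀ x y z : ℤ, (x = C ∨ x = -C ∨ y = C ∨ y = -C ∨ z = C ∨ z = -C) → c3 hI x y z = 0 := by
      intro x y z h
      by_contra hne
      have a0 := hcnt _ hne 0; have a1 := hcnt _ hne 1; have a2 := hcnt _ hne 2
      simp at a0 a1 a2
      omega
    rw [← c3_zero hI]
    have x1 : ∀ y z, c3 hI C y z = 0 := fun y z => hz _ _ _ (Or.inl rfl)
    have x2 : ∀ y z, c3 hI (-C) y z = 0 := fun y z => hz _ _ _ (Or.inr (Or.inl rfl))
    have y1 : ∀ x z, c3 hI x C z = 0 := fun x z => hz _ _ _ (Or.inr (Or.inr (Or.inl rfl)))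
    have y2 : ∀ x z, c3 hI x (-C) z = 0 := fun x z => hz _ _ _ (Or.inr (Or.inr (Or.inr (Or.inl rfl))))
    have z1 : ∀ x y, c3 hI x y C = 0 := fun x y => hz _ _ _ (Or.inr (Or.inr (Or.inr (Or.inr (Or.inl rfl)))))
    have z2 : ∀ x y, c3 hI x y (-C) = 0 := fun x y =>
      hz _ _ _ (Or.inr (Or.inr (Or.inr (Or.inr (Or.inr rfl)))))
    fin_cases i <;> simp [x1, x2, y1, y2, z1, z2]
  rw [Finset.sum_congr rfl he, Finset.sum_add_distrib, Finset.sum_neg_distrib] at hsum
  rw [finrank_quot hI, hl, hr, hr']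
  push_cast [← Nat.cast_inj (R := ℤ)]
  linear_combination -hsum

include hI in
/-- The vertical lines. -/
theorem finrank_line (i j : ℕ) :
    Module.finrank k ↥(⨆ α : {α : Fin 3 → ℤ // α 0 = (i : ℤ) ∧ α 1 = (j : ℤ)}, tPiece I α.1) =
      stairZ I i j +
        Module.finrank k ↥(⨆ α : {α : Fin 3 → ℤ // α 0 = -(i : ℤ) - 1 ∧ α 1 = -(j : ℤ) - 1},
          tPiece I α.1) := by
  classical
  obtain ⟨C₀, hC, hdeg₀, hpts₀, hcnt₀⟩ := exists_bound hI
  set C : ℤ := C₀ + i + j with hCdef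
  have hdeg : ∀ α ∈ degs hI, ∀ l, -C < α l ∧ α l + 1 < C := fun α hα l => by
    have := hdeg₀ α hα l; omega
  have hpts : ∀ α ∈ pts hI, ∀ l, α l < C := fun α hα l => by have := hpts₀ α hα l; omega
  let box := Fintype.piFinset fun _ : Fin 3 => Finset.Ico (-C) C
  let f : ℤ → Fin 3 → ℤ := fun z => ![(i : ℤ), (j : ℤ), z]
  have e1 : Module.finrank k ↥(⨆ α : {α : Fin 3 → ℤ // α 0 = (i : ℤ) ∧ α 1 = (j : ℤ)}, tPiece I α.1) =
      ∑ z ∈ Finset.Ico (-C) C, Module.finrank k (tPiece I (f z)) := by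
    rw [finrank_iSup_box hI hdeg (fun α => α 0 = (i : ℤ) ∧ α 1 = (j : ℤ))]
    refine Finset.sum_nbij' (fun α => α 2) f ?_ ?_ ?_ ?_ ?_
    · intro α hα
      exact Fintype.mem_piFinset.mp (Finset.mem_filter.mp hα).1 2
    · intro z hz
      simp only [Finset.mem_coe, Finset.mem_Ico] at hz
      refine Finset.mem_filter.mpr ⟨Fintype.mem_piFinset.mpr fun l => ?_, rfl, rfl⟩
      fin_cases l <;> simp [f] <;> omega
    · intro α hα
      obtain ⟨-, h0, h1⟩ := Finset.mem_filter.mp hα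
      funext l; fin_cases l <;> simp [f, h0, h1]
    · intro z _; rfl
    · intro α hα
      obtain ⟨-, h0, h1⟩ := Finset.mem_filter.mp hα
      exact congrArg (fun β => Module.finrank k (tPiece I β)) (by funext l; fin_cases l <;> simp [f, h0, h1])
  have e2 : Module.finrank k ↥(⨆ α : {α : Fin 3 → ℤ // α 0 = -(i : ℤ) - 1 ∧ α 1 = -(j : ℤ) - 1},
        tPiece I α.1) = ∑ z ∈ Finset.Ico (-C) C, Module.finrank k (tPiece I (dual (f z))) := by
    rw [finrank_iSup_box hI hdeg (fun α => α 0 = -(i : ℤ) - 1 ∧ α 1 = -(j : ℤ) - 1)]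
    refine Finset.sum_nbij' (fun α => -α 2 - 1) (fun z => dual (f z)) ?_ ?_ ?_ ?_ ?_
    · intro α hα
      have := Finset.mem_Ico.mp (Fintype.mem_piFinset.mp (Finset.mem_filter.mp hα).1 2)
      simp only [Finset.mem_coe, Finset.mem_Ico]; omega
    · intro z hz
      simp only [Finset.mem_coe, Finset.mem_Ico] at hz
      refine Finset.mem_filter.mpr ⟨Fintype.mem_piFinset.mpr fun l => ?_, ?_, ?_⟩
      · fin_cases l <;> simp [f, dual, one3] <;> omega
      · simp [f, dual, one3]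
      · simp [f, dual, one3]
    · intro α hα
      obtain ⟨-, h0, h1⟩ := Finset.mem_filter.mp hα
      funext l; fin_cases l <;> simp [f, dual, one3, h0, h1]
    · intro z _; simp [f, dual, one3]
    · intro α hα
      obtain ⟨-, h0, h1⟩ := Finset.mem_filter.mp hα
      exact congrArg (fun β => Module.finrank k (tPiece I β)) (by funext l; fin_cases l <;> simp [f, dual, one3, h0, h1])
  have e3 : stairZ I i j = ((Finset.Ico (-C) C).filter fun z => f z ∈ pts hI).card := by
    have hmem : ∀ c : ℕ, e3 i j c ∉ exps I ↔ f (c : ℤ) ∈ pts hI := by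
      intro c
      rw [mem_pts, show f (c : ℤ) = cast (e3 i j c) by
        funext l; fin_cases l <;> simp [f, cast, e3], good_cast_iff]
    rw [stairZ, ← Nat.card_eq_finsetCard]
    refine Nat.card_congr
      { toFun := fun c => ⟨(c.1 : ℤ), Finset.mem_filter.mpr ⟨Finset.mem_Ico.mpr ⟨by omega, ?_⟩,
          (hmem c.1).mp c.2⟩⟩
        invFun := fun z => ⟨z.1.toNat, (hmem _).mpr ?_⟩
        left_inv := fun c => by simp
        right_inv := fun z => Subtype.ext ?_ }
    · simpa [f] using hpts _ ((hmem c.1).mp c.2) 2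
    · have hz : f z.1 ∈ pts hI := (Finset.mem_filter.mp z.2).2
      have : 0 ≤ z.1 := by simpa [f] using pts_nonneg hI hz 2
      rwa [Int.toNat_of_nonneg this]
    · have hz : f z.1 ∈ pts hI := (Finset.mem_filter.mp z.2).2
      have : 0 ≤ z.1 := by simpa [f] using pts_nonneg hI hz 2
      exact Int.toNat_of_nonneg this
  have hdual : ∀ z, dual (f z) ∉ pts hI := fun z h => by
    have h0 := pts_nonneg hI h 0
    simp [dual, f, one3] at h0
    omega
  have hsum : ∑ z ∈ Finset.Ico (-C) C, euler hI (f z) = 0 := by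
    have := sum_box hI (i : ℤ) (i + 1) (j : ℤ) (j + 1) (-C) C (by omega) (by omega) (by omega)
    rw [show Finset.Ico (i : ℤ) (i + 1) = {(i : ℤ)} by ext; simp; omega,
      show Finset.Ico (j : ℤ) (j + 1) = {(j : ℤ)} by ext; simp; omega,
      Finset.sum_singleton, Finset.sum_singleton] at this
    have hz : ∀ x y z : ℤ, (z = C ∨ z = -C) → c3 hI x y z = 0 := by
      intro x y z h
      by_contra hne
      have a2 := hcnt₀ _ hne 2
      simp at a2
      omega
    refine this.trans ?_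
    rw [hz _ _ (-C) (Or.inr rfl), hz _ _ C (Or.inl rfl), hz _ _ (-C) (Or.inr rfl),
      hz _ _ C (Or.inl rfl), hz _ _ (-C) (Or.inr rfl), hz _ _ C (Or.inl rfl),
      hz _ _ (-C) (Or.inr rfl), hz _ _ C (Or.inl rfl)]
    ring
  have he : ∀ z ∈ Finset.Ico (-C) C, euler hI (f z) =
      (if f z ∈ pts hI then (1 : ℤ) else 0) + (-(Module.finrank k (tPiece I (f z)) : ℤ) +
        Module.finrank k (tPiece I (dual (f z)))) := by
    intro z _
    rw [euler_eq, inv₀, inv₀, if_neg (hdual z)]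
    split_ifs <;> push_cast <;> ring
  rw [Finset.sum_congr rfl he, Finset.sum_add_distrib, Finset.sum_add_distrib,
    Finset.sum_neg_distrib, Finset.sum_boole] at hsum
  rw [e1, e2, e3]
  push_cast [← Nat.cast_inj (R := ℤ)]
  linear_combination -hsum

end Groth.Agent.L13.HilbPn
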