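import Groth.Agent.L13.HilbPn.MPow
import Mathlib.RingTheory.MvPolynomial.MonomialOrder
import Mathlib.Data.Finsupp.MonomialOrder.DegLex
import Mathlib.RingTheory.Polynomial.Basic
import Mathlib.Algebra.Order.Monoid.Prod
import Mathlib.Algebra.Order.Pi

/-!
The initial ideal for the degree lexicographic order and semicontinuity of the tangent dimension.
-/

set_option autoImplicit false

universe u

namespace Groth.Agent.L13.HilbPn

open MvPolynomial W4c1hilbpn

/-- The degree lexicographic key of an integer vector. -/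
def key (α : Fin 3 → ℤ) : ℤ ×ₗ Lex (Fin 3 → ℤ) := toLex (∑ i, α i, toLex α)

lemma key_add (a b : Fin 3 → ℤ) : key (a + b) = key a + key b := by
  simp only [key, Pi.add_apply, Finset.sum_add_distrib, toLex_add, ← Prod.mk_add_mk]

lemma key_inj {a b : Fin 3 → ℤ} (h : key a = key b) : a = b := by
  simpa [key] using congrArg (fun x => ofLex (ofLex x).2) h

lemma key_sub_lt {a b c : Fin 3 → ℤ} : key (a - c) < key (b - c) ↔ key a < key b := by
  conv_rhs => rw [← sub_add_cancel a c, ← sub_add_cancel b c, key_add, key_add]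
  exact (add_lt_add_iff_right _).symm

lemma key_const_sub_lt {a b c : Fin 3 → ℤ} : key (c - a) < key (c - b) ↔ key b < key a := by
  have h1 : key (c - a) + key a = key c := by rw [← key_add, sub_add_cancel]
  have h2 : key (c - b) + key b = key c := by rw [← key_add, sub_add_cancel]
  constructor
  · intro h
    by_contra hge
    exact absurd (h1.trans h2.symm) (add_lt_add_of_lt_of_le h (not_lt.mp hge)).ne
  · intro h
    by_contra hge
    exact absurd (h2.trans h1.symm) (add_lt_add_of_le_of_lt (not_lt.mp hge) h).ne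

/-- The order. -/
noncomputable abbrev mo : MonomialOrder (Fin 3) := MonomialOrder.degLex

lemma key_cast_lt {a b : Fin 3 →₀ ℕ} : mo.toSyn a < mo.toSyn b ↔ key (cast a) < key (cast b) := by
  rw [show mo.toSyn a < mo.toSyn b ↔ toDegLex a < toDegLex b from Iff.rfl, Finsupp.DegLex.lt_iff]
  simp only [ofDegLex_toDegLex, Finsupp.degree_eq_sum, key, Prod.Lex.toLex_lt_toLex]
  have hs : ∀ c : Fin 3 →₀ ℕ, ∑ i, cast c i = ((∑ i, c i : ℕ) : ℤ) := fun c => by
    push_cast; rfl
  rw [hs, hs, Nat.cast_lt, Nat.cast_inj]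
  refine or_congr_right (and_congr_right fun _ => ?_)
  show (∃ i, (∀ j, j < i → _) ∧ _) ↔ ∃ i, (∀ j, j < i → _) ∧ _
  simp [cast]

lemma key_cast_le {a b : Fin 3 →₀ ℕ} : mo.toSyn a ≤ mo.toSyn b ↔ key (cast a) ≤ key (cast b) := by
  rw [← not_lt, ← not_lt, key_cast_lt]

variable {k : Type u} [Field k] (I : Ideal (MvPolynomial (Fin 3) k))

/-- The leading exponents. -/
def Lead : Set (Fin 3 →₀ ℕ) := {β | ∃ f ∈ I, f ≠ 0 ∧ mo.degree f = β}

lemma exists_monic {β : Fin 3 →₀ ℕ} (h : β ∈ Lead I) :
    ∃ f ∈ I, mo.degree f = β ∧ coeff β f = 1 := by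
  obtain ⟨f, hf, h0, rfl⟩ := h
  have hc : coeff (mo.degree f) f ≠ 0 := mo.coeff_degree_ne_zero_iff.mpr h0
  refine ⟨C (coeff (mo.degree f) f)⁻¹ * f, I.mul_mem_left _ hf, ?_, by rw [coeff_C_mul, inv_mul_cancel₀ hc]⟩
  rw [mo.degree_mul (by simp [hc]) h0, MonomialOrder.degree_C, zero_add]

open Classical in
/-- A chosen monic element of given leading exponent. -/
noncomputable def gen (β : Fin 3 →₀ ℕ) : I :=
  if h : β ∈ Lead I then ⟨(exists_monic I h).choose, (exists_monic I h).choose_spec.1⟩ else 0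

lemma gen_degree {β : Fin 3 →₀ ℕ} (h : β ∈ Lead I) :
    mo.degree (gen I β).1 = β ∧ coeff β (gen I β).1 = 1 := by
  classical
  rw [gen, dif_pos h]
  exact (exists_monic I h).choose_spec.2

lemma lead_upper {a b : Fin 3 →₀ ℕ} (hab : a ≤ b) (ha : a ∈ Lead I) : b ∈ Lead I := by
  obtain ⟨f, hf, h0, rfl⟩ := ha
  have hm : (monomial (b - mo.degree f) (1 : k)) ≠ 0 := by simp
  refine ⟨monomial (b - mo.degree f) 1 * f, I.mul_mem_left _ hf, mul_ne_zero hm h0, ?_⟩
  classical
  rw [mo.degree_mul hm h0, MonomialOrder.degree_monomial, if_neg one_ne_zero, tsub_add_cancel_of_le hab]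

/-- The initial ideal. -/
noncomputable def initI : Ideal (MvPolynomial (Fin 3) k) :=
  restrictSupportIdeal k (Lead I) (fun _ _ hab ha => lead_upper I hab ha)

lemma mem_initI {p : MvPolynomial (Fin 3) k} : p ∈ initI I ↔ ∀ β ∈ p.support, β ∈ Lead I := by
  simp [initI, restrictSupportIdeal, mem_restrictSupport_iff, Set.subset_def]

lemma exps_initI {β : Fin 3 →₀ ℕ} : β ∈ exps (initI I) ↔ β ∈ Lead I := by
  classical
  show monomial β (1 : k) ∈ initI I ↔ _
  rw [mem_initI]; simp

lemma initI_monomial : IsMonomial (initI I) :=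
  fun p hp β hβ => (exps_initI I).mpr ((mem_initI I).mp hp β hβ)

/-- The standard exponents. -/
abbrev Std : Type := {β : Fin 3 →₀ ℕ // β ∉ Lead I}

/-- The standard monomials in the quotient. -/
noncomputable def stdMon (β : Std I) : MvPolynomial (Fin 3) k ⧸ I :=
  Ideal.Quotient.mk I (monomial β.1 1)

lemma sub_smul_lt {g h : MvPolynomial (Fin 3) k} {δ : Fin 3 →₀ ℕ}
    (hg : ∀ β ∈ g.support, mo.toSyn β ≤ mo.toSyn δ) (hh : ∀ β ∈ h.support, mo.toSyn β ≤ mo.toSyn δ)
    (h1 : coeff δ h = 1) :
    ∀ β ∈ (g - C (coeff δ g) * h).support, mo.toSyn β < mo.toSyn δ := by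
  intro β hβ
  rw [mem_support_iff, coeff_sub, coeff_C_mul] at hβ
  have hle : mo.toSyn β ≤ mo.toSyn δ := by
    by_cases hb : coeff β g = 0
    · exact hh β (mem_support_iff.mpr fun h0 => hβ (by rw [hb, h0]; simp))
    · exact hg β (mem_support_iff.mpr hb)
  refine lt_of_le_of_ne hle fun e => hβ ?_
  rw [mo.toSyn.injective e, h1]; simp

/-- The span of standard monomials below a bound. -/
noncomputable def lowSpan (b : mo.syn) : Submodule k (MvPolynomial (Fin 3) k ⧸ I) :=
  Submodule.span k (stdMon I '' {β | mo.toSyn β.1 ≤ b})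

lemma mk_mem_lowSpan : ∀ (b : mo.syn) (g : MvPolynomial (Fin 3) k),
    (∀ β ∈ g.support, mo.toSyn β ≤ b) → Ideal.Quotient.mk I g ∈ lowSpan I b := by
  classical
  intro b
  induction b using WellFoundedLT.induction with
  | ind b ih =>
    intro g hg
    have low : ∀ h : MvPolynomial (Fin 3) k, (∀ β ∈ h.support, mo.toSyn β < b) →
        Ideal.Quotient.mk I h ∈ lowSpan I b := fun h hh => by
      rcases eq_or_ne h 0 with rfl | h0
      · simp
      · exact Submodule.span_mono (Set.image_mono fun β hβ => le_trans hβ (hh _ (mo.degree_mem_support h0)).le)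
          (ih _ (hh _ (mo.degree_mem_support h0)) h fun β hβ => mo.le_degree hβ)
    obtain ⟨δ, rfl⟩ : ∃ δ, mo.toSyn δ = b := mo.toSyn.surjective b
    by_cases hδ : δ ∈ Lead I
    · obtain ⟨hd, h1⟩ := gen_degree I hδ
      have hlt := sub_smul_lt hg (fun β hβ => hd ▸ mo.le_degree hβ) h1
      have := low _ hlt
      rwa [map_sub, (Ideal.Quotient.eq_zero_iff_mem).mpr (I.mul_mem_left _ (gen I δ).2), sub_zero] at this
    · have hlt := sub_smul_lt hg (h := monomial δ 1) (fun β hβ => by
        rw [mem_support_iff, coeff_monomial] at hβ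
        rw [← (show δ = β by by_contra h; exact hβ (if_neg h))]) (by simp)
      have := Submodule.add_mem _ (low _ hlt) (Submodule.smul_mem _ (coeff δ g)
        (Submodule.subset_span (Set.mem_image_of_mem (stdMon I) (show mo.toSyn (⟨δ, hδ⟩ : Std I).1 ≤ mo.toSyn δ from le_rfl))))
      convert this using 1
      rw [stdMon, ← Ideal.Quotient.mkₐ_eq_mk k, ← map_smul, ← map_add, smul_eq_C_mul]
      simp

lemma stdMon_li : LinearIndependent k (stdMon I) := by
  classical
  rw [linearIndependent_iff']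
  intro s c hc β hβ
  let g : MvPolynomial (Fin 3) k := ∑ γ ∈ s, monomial γ.1 (c γ)
  have hg : g ∈ I := by
    rw [← Ideal.Quotient.eq_zero_iff_mem, map_sum, ← hc]
    refine Finset.sum_congr rfl fun γ _ => ?_
    rw [stdMon, ← Ideal.Quotient.mkₐ_eq_mk k, ← map_smul, smul_monomial]; simp
  have hcoef : ∀ δ, coeff δ g ≠ 0 → δ ∉ Lead I := fun δ hδ => by
    rw [coeff_sum] at hδ
    obtain ⟨γ, -, hγ⟩ := Finset.exists_ne_zero_of_sum_ne_zero hδ
    rw [coeff_monomial] at hγ
    split_ifs at hγ with e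
    · exact e ▸ γ.2
    · exact absurd rfl hγ
  have h0 : g = 0 := by
    by_contra h0
    exact hcoef _ (mo.coeff_degree_ne_zero_iff.mpr h0) ⟨g, hg, h0, rfl⟩
  have := congrArg (coeff β.1) h0
  rw [coeff_sum, coeff_zero, Finset.sum_eq_single β, coeff_monomial, if_pos rfl] at this
  · exact this
  · intro γ _ hne; rw [coeff_monomial, if_neg fun e => hne (Subtype.ext e)]
  · exact fun h => absurd hβ h

lemma stdMon_span : ⊤ ≤ Submodule.span k (Set.range (stdMon I)) := by
  intro x _
  obtain ⟨g, rfl⟩ := Ideal.Quotient.mk_surjective x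
  exact Submodule.span_mono (Set.image_subset_range _ _)
    (mk_mem_lowSpan I _ g fun β hβ => mo.le_degree hβ)

/-- The basis of standard monomials. -/
noncomputable def stdBasis : Module.Basis (Std I) k (MvPolynomial (Fin 3) k ⧸ I) :=
  Module.Basis.mk (stdMon_li I) (stdMon_span I)

open Classical in
/-- The coefficient in the normal form. -/
noncomputable def nf (δ : Fin 3 →₀ ℕ) : (MvPolynomial (Fin 3) k ⧸ I) →ₗ[k] k :=
  if h : δ ∉ Lead I then (stdBasis I).coord ⟨δ, h⟩ else 0

lemma nf_stdMon (δ : Fin 3 →₀ ℕ) (β : Std I) : nf I δ (stdMon I β) = if β.1 = δ then 1 else 0 := by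
  classical
  have e : stdMon I β = stdBasis I β := (Module.Basis.mk_apply _ _ _).symm
  by_cases h : δ ∈ Lead I
  · rw [nf, dif_neg (not_not.mpr h), if_neg (show ¬ β.1 = δ from fun e' => β.2 (by rw [e']; exact h))]; rfl
  rw [nf, dif_pos h, e, Module.Basis.coord_apply, Module.Basis.repr_self]
  split_ifs with e'
  · rw [show (⟨δ, h⟩ : Std I) = β from Subtype.ext e'.symm, Finsupp.single_eq_same]
  · rw [Finsupp.single_eq_of_ne fun e'' => e' (congrArg Subtype.val e'').symm]

lemma nf_low {g : MvPolynomial (Fin 3) k} {δ : Fin 3 →₀ ℕ}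
    (h : ∀ β ∈ g.support, mo.toSyn β < mo.toSyn δ) : nf I δ (Ideal.Quotient.mk I g) = 0 := by
  rcases eq_or_ne g 0 with rfl | h0
  · simp
  have := mk_mem_lowSpan I _ g fun β hβ => mo.le_degree hβ
  refine (Submodule.span_le (p := LinearMap.ker (nf I δ))).mpr ?_ this
  rintro _ ⟨β, hβ, rfl⟩
  rw [SetLike.mem_coe, LinearMap.mem_ker, nf_stdMon, if_neg]
  intro e
  exact (lt_of_le_of_lt hβ (h _ (mo.degree_mem_support h0))).ne (congrArg _ e)

lemma nf_mon {δ : Fin 3 →₀ ℕ} (h : δ ∉ Lead I) :
    nf I δ (Ideal.Quotient.mk I (monomial δ 1)) = 1 := by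
  have := nf_stdMon I δ ⟨δ, h⟩
  rw [if_pos rfl] at this; exact this

variable [Module.Finite k (MvPolynomial (Fin 3) k ⧸ I)]

instance : Finite (Std I) := Module.Finite.finite_basis (stdBasis I)

lemma good_iff_std {γ : Fin 3 → ℤ} : Good (initI I) γ ↔ (∀ i, 0 ≤ γ i) ∧ toN γ ∉ Lead I :=
  and_congr_right fun _ => by rw [exps_initI]

theorem finite_initI : Module.Finite k (MvPolynomial (Fin 3) k ⧸ initI I) := by
  refine finite_quot_of_finite_good ((Set.finite_range fun β : Std I => cast β.1).subset fun γ hγ => ?_)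
  obtain ⟨h0, h⟩ := (good_iff_std I).mp hγ
  exact ⟨⟨toN γ, h⟩, cast_toN h0⟩

theorem finrank_initI : Module.finrank k (MvPolynomial (Fin 3) k ⧸ initI I) =
    Module.finrank k (MvPolynomial (Fin 3) k ⧸ I) := by
  haveI := finite_initI I
  rw [finrank_quot_eq_card (initI_monomial I), Module.finrank_eq_nat_card_basis (stdBasis I)]
  exact Nat.card_congr
    { toFun := fun γ => ⟨toN γ.1, ((good_iff_std I).mp γ.2).2⟩
      invFun := fun β => ⟨cast β.1, (good_iff_std I).mpr ⟨fun i => by simp [cast], by simpa using β.2⟩⟩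
      left_inv := fun γ => Subtype.ext (cast_toN γ.2.1)
      right_inv := fun β => Subtype.ext (by simp) }

/-- The normal form coefficient of the value at a chosen element. -/
noncomputable def Cf (φ : Tgt I) (β δ : Fin 3 →₀ ℕ) : k := nf I δ (φ (gen I β))

lemma Cf_zero_of_lead {φ : Tgt I} {β δ : Fin 3 →₀ ℕ} (hδ : δ ∈ Lead I) : Cf I φ β δ = 0 := by
  classical
  rw [Cf, nf, dif_neg (not_not.mpr hδ)]; rfl

lemma expand (φ : Tgt I) (β : Fin 3 →₀ ℕ) :
    φ (gen I β) = ∑ᶠ δ : Std I, Cf I φ β δ.1 • stdMon I δ := by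
  classical
  haveI := Fintype.ofFinite (Std I)
  rw [finsum_eq_sum_of_fintype]
  conv_lhs => rw [← (stdBasis I).sum_repr (φ (gen I β))]
  refine Finset.sum_congr rfl fun δ _ => ?_
  rw [Cf, nf, dif_pos δ.2, stdBasis, Module.Basis.mk_apply]; rfl

/-- Vanishing above a key. -/
def Vanish (α : Fin 3 → ℤ) (φ : Tgt I) : Prop :=
  ∀ β δ, β ∈ Lead I → key α < key (cast δ - cast β) → Cf I φ β δ = 0

lemma vanish_low {α : Fin 3 → ℤ} {φ : Tgt I} (hv : Vanish I α φ) {δ : Fin 3 →₀ ℕ} :
    ∀ (b : mo.syn) (h : I), (∀ β ∈ h.1.support, mo.toSyn β ≤ b) →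
      (∀ β, mo.toSyn β ≤ b → key α < key (cast δ - cast β)) → nf I δ (φ h) = 0 := by
  classical
  intro b
  induction b using WellFoundedLT.induction with
  | ind b ih =>
    intro h hh hk
    rcases eq_or_ne h.1 0 with h0 | h0
    · rw [show h = 0 from Subtype.ext h0]; simp
    set γ := mo.degree h.1 with hγ
    have hL : γ ∈ Lead I := ⟨h.1, h.2, h0, rfl⟩
    obtain ⟨hd, h1⟩ := gen_degree I hL
    let h' : I := h - (C (coeff γ h.1) : MvPolynomial (Fin 3) k) • gen I γ
    have hlt : ∀ β ∈ h'.1.support, mo.toSyn β < mo.toSyn γ :=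
      sub_smul_lt (fun β hβ => mo.le_degree hβ) (fun β hβ => by
        conv_rhs => rw [← hd]
        exact mo.le_degree hβ) h1
    have hb : mo.toSyn γ ≤ b := hh _ (mo.degree_mem_support h0)
    have h'0 : nf I δ (φ h') = 0 := by
      rcases eq_or_ne h'.1 0 with e | e
      · rw [show h' = 0 from Subtype.ext e]; simp
      have := lt_of_lt_of_le (hlt _ (mo.degree_mem_support e)) hb
      exact ih _ this h' (fun β hβ => mo.le_degree hβ) fun β hβ => hk β (hβ.trans this.le)
    have hφ : φ h = φ h' + (C (coeff γ h.1) : MvPolynomial (Fin 3) k) • φ (gen I γ) := by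
      rw [← map_smul, ← map_add, sub_add_cancel]
    rw [hφ, map_add, h'0, zero_add, show (C (coeff γ h.1) : MvPolynomial (Fin 3) k) =
      algebraMap k _ (coeff γ h.1) from rfl, IsScalarTower.algebraMap_smul, map_smul]
    rw [show nf I δ (φ (gen I γ)) = 0 from hv γ δ hL (hk γ hb), smul_zero]

open Classical in
/-- The values in degree `α`. -/
noncomputable def lead0 (α : Fin 3 → ℤ) : Tgt I →ₗ[k] ((Fin 3 → ℤ) → k) where
  toFun φ γ := if Src (initI I) α γ ∧ Good (initI I) γ then Cf I φ (toN (γ - α)) (toN γ) else 0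
  map_add' φ ψ := by ext γ; simp only [Cf, LinearMap.add_apply, map_add, Pi.add_apply]; split_ifs <;> simp
  map_smul' t φ := by
    ext γ; simp only [Cf, LinearMap.smul_apply, map_smul, RingHom.id_apply, Pi.smul_apply]
    split_ifs <;> simp

lemma lead0_mem {α : Fin 3 → ℤ} {φ : Tgt I} (hv : Vanish I α φ) :
    lead0 I α φ ∈ Sol (initI I) α := by
  classical
  refine ⟨fun γ h => if_neg h, fun γ i hs hg => ?_⟩
  obtain ⟨β, hβ, rfl⟩ := hs.exists_eq _
  rw [exps_initI] at hβ
  set β' := β + Finsupp.single i 1 with hβ'def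
  have hβ' : β' ∈ Lead I := lead_upper I le_self_add hβ
  have e : cast β + α + Pi.single i 1 = cast β' + α := by rw [hβ'def, cast_add, cast_single]; abel
  have hs' : Src (initI I) α (cast β' + α) := src_cast _ ((exps_initI I).mpr hβ')
  rw [e] at hg ⊢
  obtain ⟨hnn', hstd'⟩ := (good_iff_std I).mp hg
  obtain ⟨δ', hδ'⟩ : ∃ δ', cast δ' = cast β' + α := ⟨toN _, cast_toN hnn'⟩
  have hδ'std : δ' ∉ Lead I := by rw [← hδ'] at hstd'; simpa using hstd'
  have lhs : lead0 I α φ (cast β' + α) = Cf I φ β' δ' := by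
    show (if _ then _ else _) = _
    rw [if_pos ⟨hs', hg⟩, add_sub_cancel_right, ← hδ']; simp
  rw [lhs, Cf]
  obtain ⟨hd, h1⟩ := gen_degree I hβ
  obtain ⟨hd', h1'⟩ := gen_degree I hβ'
  let h : I := (X i : MvPolynomial (Fin 3) k) • gen I β - gen I β'
  have hsupp : ∀ γ ∈ h.1.support, mo.toSyn γ < mo.toSyn β' := by
    have hx : ∀ γ ∈ ((X i : MvPolynomial (Fin 3) k) * (gen I β).1).support, mo.toSyn γ ≤ mo.toSyn β' := by
      intro γ hγ
      refine (mo.le_degree hγ).trans ((mo.degree_mul_le).trans ?_)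
      rw [hd, mo.degree_X, hβ'def, map_add, map_add, add_comm]
    have hc : coeff β' ((X i : MvPolynomial (Fin 3) k) * (gen I β).1) = 1 := by
      rw [hβ'def, add_comm, coeff_X_mul, h1]
    have := sub_smul_lt hx (h := (gen I β').1) (fun γ hγ => by
      conv_rhs => rw [← hd']
      exact mo.le_degree hγ) h1'
    rw [hc, C_1, one_mul] at this
    exact this
  have hh0 : nf I δ' (φ h) = 0 := by
    rcases eq_or_ne h.1 0 with e0 | e0
    · rw [show h = 0 from Subtype.ext e0]; simp
    refine vanish_low I hv _ h (fun γ hγ => mo.le_degree hγ) fun γ hγ => ?_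
    have hlt : mo.toSyn γ < mo.toSyn β' := lt_of_le_of_lt hγ (hsupp _ (mo.degree_mem_support e0))
    have hα : α = cast δ' - cast β' := by rw [hδ']; simp
    rw [hα]; exact key_const_sub_lt.mpr (key_cast_lt.mp hlt)
  have hgen : φ (gen I β') = (X i : MvPolynomial (Fin 3) k) • φ (gen I β) - φ h := by
    rw [← map_smul, ← map_sub]; congr 1; simp [h]
  haveI := Fintype.ofFinite (Std I)
  rw [hgen, map_sub, hh0, sub_zero, expand I φ β, finsum_eq_sum_of_fintype, Finset.smul_sum, map_sum]
  have hterm : ∀ δ : Std I, nf I δ' ((X i : MvPolynomial (Fin 3) k) • Cf I φ β δ.1 • stdMon I δ) =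
      if cast δ.1 = cast β + α then Cf I φ β δ.1 else 0 := by
    intro δ
    rw [smul_comm, map_smul, smul_eq_mul, stdMon,
      show (X i : MvPolynomial (Fin 3) k) • Ideal.Quotient.mk I (monomial δ.1 1) =
        Ideal.Quotient.mk I (X i * monomial δ.1 1) from rfl, X, monomial_mul, one_mul]
    have hk : cast δ' - cast β' = α := by rw [hδ']; simp
    have hc : cast (Finsupp.single i 1 + δ.1) - cast β' = cast δ.1 - cast β := by
      rw [hβ'def, cast_add, cast_add]; abel
    rcases lt_trichotomy (mo.toSyn (Finsupp.single i 1 + δ.1)) (mo.toSyn δ') with hlt | heq | hgt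
    · rw [nf_low I (fun γ hγ => by
        rw [mem_support_iff, coeff_monomial] at hγ
        rw [← (show Finsupp.single i 1 + δ.1 = γ by by_contra h; exact hγ (if_neg h))]; exact hlt),
        mul_zero, if_neg]
      intro e'
      have := key_sub_lt (c := cast β').mpr (key_cast_lt.mp hlt)
      rw [hc, hk, e'] at this; simp at this
    · have hh := mo.toSyn.injective heq
      rw [hh, nf_mon I hδ'std, mul_one, if_pos]
      have := hc
      rw [hh, hk] at this
      rw [this]; abel
    · have := key_sub_lt (c := cast β').mpr (key_cast_lt.mp hgt)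
      rw [hc, hk] at this
      rw [hv β δ.1 hβ this, zero_mul, ite_self]
  rw [Finset.sum_congr rfl fun δ _ => hterm δ]
  show _ = if _ then _ else _
  by_cases hgood : Good (initI I) (cast β + α)
  · obtain ⟨h0, hst⟩ := (good_iff_std I).mp hgood
    rw [if_pos ⟨src_cast _ ((exps_initI I).mpr hβ), hgood⟩,
      Finset.sum_eq_single (⟨toN (cast β + α), hst⟩ : Std I)]
    · rw [if_pos (cast_toN h0), add_sub_cancel_right]; simp
    · intro δ _ hne
      rw [if_neg]
      intro e'
      exact hne (Subtype.ext (show δ.1 = toN (cast β + α) by rw [← e']; simp))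
    · simp
  · rw [if_neg fun h => hgood h.2]
    refine Finset.sum_eq_zero fun δ _ => if_neg fun e' => hgood ?_
    rw [← e']; exact (good_iff_std I).mpr ⟨fun l => by simp [cast], by simpa using δ.2⟩

lemma exists_lead {φ : Tgt I} (hφ : φ ≠ 0) : ∃ α, Vanish I α φ ∧ lead0 I α φ ≠ 0 := by
  classical
  obtain ⟨β₀, δ₀, hβ₀, hne⟩ : ∃ β δ, β ∈ Lead I ∧ Cf I φ β δ ≠ 0 := by
    by_contra hall
    push Not at hall
    refine hφ (LinearMap.ext fun h => (stdBasis I).ext_elem fun δ => ?_)
    have hv : ∀ α, Vanish I α φ := fun α β δ hβ _ => hall β δ hβ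
    have h0 : ∀ (b : mo.syn) (g : I), (∀ β ∈ g.1.support, mo.toSyn β ≤ b) → φ g = 0 := by
      intro b g hg
      refine (stdBasis I).ext_elem fun δ => ?_
      obtain ⟨bd, hbd⟩ : ∃ β, mo.toSyn β = b := mo.toSyn.surjective b
      have := vanish_low I (hv (fun _ => -((∑ i, bd i : ℕ) : ℤ) - 1)) (δ := δ.1) b g hg (fun β hβ => by
        rw [← hbd] at hβ
        have h1 : ∑ i, β i ≤ ∑ i, bd i := by
          have := Finsupp.DegLex.monotone_degree (show toDegLex β ≤ toDegLex bd from hβ)
          simpa [Finsupp.degree_eq_sum] using this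
        refine Prod.Lex.toLex_lt_toLex.mpr (Or.inl ?_)
        simp only [Fin.sum_univ_three, Pi.sub_apply, cast] at h1 ⊢
        push_cast
        omega)
      rw [nf, dif_pos δ.2, Module.Basis.coord_apply] at this
      simpa using this
    rw [h0 _ h (fun β hβ => mo.le_degree hβ)]; simp
  haveI := Fintype.ofFinite (Std I)
  let M : ℕ := ∑ δ : Std I, ∑ i, δ.1 i + ∑ i, β₀ i
  let B : Finset (Fin 3 →₀ ℕ) := (Fintype.piFinset fun _ : Fin 3 => Finset.range (M + 1)).image
    Finsupp.equivFunOnFinite.symm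
  let P := (B ×ˢ (Finset.univ : Finset (Std I))).filter fun x => x.1 ∈ Lead I ∧ Cf I φ x.1 x.2.1 ≠ 0
  have hδ₀ : δ₀ ∉ Lead I := fun h => hne (Cf_zero_of_lead I h)
  have inB : ∀ β, ∑ i, β i ≤ M → β ∈ B := fun β hβ => Finset.mem_image.mpr ⟨fun i => β i,
    Fintype.mem_piFinset.mpr fun i => Finset.mem_range.mpr (by
      have := Finset.single_le_sum (f := fun j => β j) (fun j _ => Nat.zero_le _) (Finset.mem_univ i)
      omega), by ext; simp⟩
  obtain ⟨x, hx, hmax⟩ := P.exists_max_image (fun x => key (cast x.2.1 - cast x.1))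
    ⟨(β₀, ⟨δ₀, hδ₀⟩), Finset.mem_filter.mpr ⟨Finset.mem_product.mpr
      ⟨inB β₀ le_add_self, Finset.mem_univ _⟩, hβ₀, hne⟩⟩
  have hx0 := hmax (β₀, ⟨δ₀, hδ₀⟩) (Finset.mem_filter.mpr ⟨Finset.mem_product.mpr
      ⟨inB β₀ le_add_self, Finset.mem_univ _⟩, hβ₀, hne⟩)
  obtain ⟨-, hxL, hxne⟩ := Finset.mem_filter.mp hx
  refine ⟨cast x.2.1 - cast x.1, fun β δ hβ hlt => ?_, fun h => hxne ?_⟩
  · by_contra hne'
    have hδ : δ ∉ Lead I := fun h => hne' (Cf_zero_of_lead I h)
    refine hlt.not_ge (hmax (β, ⟨δ, hδ⟩) (Finset.mem_filter.mpr ⟨Finset.mem_product.mpr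
      ⟨inB β ?_, Finset.mem_univ _⟩, hβ, hne'⟩))
    have hk := (hx0.trans_lt hlt)
    simp only [key, Prod.Lex.toLex_lt_toLex, Fin.sum_univ_three, Pi.sub_apply, cast] at hk
    have hδM := Finset.single_le_sum (f := fun δ : Std I => ∑ i, δ.1 i) (fun _ _ => Nat.zero_le _)
      (Finset.mem_univ (⟨δ, hδ⟩ : Std I))
    simp only [Fin.sum_univ_three, M] at hδM ⊢
    rcases hk with hk | ⟨hk, -⟩ <;> omega
  · have := congrFun h (cast x.2.1)
    have hs : Src (initI I) (cast x.2.1 - cast x.1) (cast x.2.1) := by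
      simpa using src_cast (initI I) (α := cast x.2.1 - cast x.1) ((exps_initI I).mpr hxL)
    have hg : Good (initI I) (cast x.2.1) :=
      (good_iff_std I).mpr ⟨fun l => by simp [cast], by simpa using x.2.2⟩
    rw [show lead0 I _ φ (cast x.2.1) = if _ then _ else _ from rfl, if_pos ⟨hs, hg⟩,
      sub_sub_cancel] at this
    simpa using this

/-- The maps vanishing above all degrees of a set. -/
noncomputable def below (S : Finset (Fin 3 → ℤ)) : Submodule k (Tgt I) where
  carrier := {φ | ∀ β δ, β ∈ Lead I → (∀ α ∈ S, key α < key (cast δ - cast β)) → Cf I φ β δ = 0}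
  zero_mem' := fun β δ _ _ => by simp [Cf]
  add_mem' := fun {φ ψ} hφ hψ β δ h h' => by
    simp only [Cf, LinearMap.add_apply, map_add]
    rw [show nf I δ (φ (gen I β)) = 0 from hφ β δ h h', show nf I δ (ψ (gen I β)) = 0 from hψ β δ h h',
      add_zero]
  smul_mem' := fun t φ hφ β δ h h' => by
    simp only [Cf, LinearMap.smul_apply, map_smul]
    rw [show nf I δ (φ (gen I β)) = 0 from hφ β δ h h', smul_zero]

lemma finite_tgt : Module.Finite k (Tgt I) := by
  classical
  obtain ⟨s, hs⟩ := (IsNoetherian.noetherian I : I.FG)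
  let v : s → I := fun g => ⟨g.1, hs ▸ Ideal.subset_span g.2⟩
  refine Module.Finite.of_injective
    ({ toFun := fun φ g => φ (v g), map_add' := fun _ _ => rfl, map_smul' := fun _ _ => rfl } :
      Tgt I →ₗ[k] (s → MvPolynomial (Fin 3) k ⧸ I)) fun φ ψ h => ?_
  refine LinearMap.ext_on_range (v := v) ?_ fun g => congrFun h g
  rw [eq_top_iff]
  rintro ⟨x, hx⟩ -
  rw [← Submodule.apply_mem_span_image_iff_mem_span (f := I.subtype) Subtype.val_injective,
    ← Set.range_comp]
  rw [← hs] at hx
  convert hx using 2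
  · ext y; simp [v]
  · rfl

lemma finrank_le_ker_add {M N : Type*} [AddCommGroup M] [Module k M] [FiniteDimensional k M]
    [AddCommGroup N] [Module k N] (P : Submodule k M) (Q : Submodule k N) [FiniteDimensional k Q]
    (L : P →ₗ[k] Q) (P' : Submodule k M) (h : (LinearMap.ker L).map P.subtype ≤ P') :
    Module.finrank k P ≤ Module.finrank k Q + Module.finrank k P' := by
  have h1 := L.finrank_range_add_finrank_ker
  have h2 := (LinearMap.range L).finrank_le
  have h3 : Module.finrank k (LinearMap.ker L) ≤ Module.finrank k P' := by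
    rw [← Submodule.finrank_map_subtype_eq]
    exact Submodule.finrank_mono h
  omega

theorem finrank_tgt_le_initI : Module.finrank k (Tgt I) ≤ Module.finrank k (Tgt (initI I)) := by
  classical
  haveI := finite_initI I
  haveI := finite_tgt I
  have hI := initI_monomial I
  have degs_of : ∀ {α φ}, Vanish I α φ → lead0 I α φ ≠ 0 → α ∈ degs hI := fun {α φ} hv h => by
    rw [mem_degs]
    intro hb
    exact h ((Submodule.mem_bot k).mp (hb ▸ lead0_mem I hv))
  have main : ∀ (n : ℕ) (S : Finset (Fin 3 → ℤ)), S.card = n → S ⊆ degs hI →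
      (∀ a ∈ S, ∀ b ∈ degs hI, key b ≤ key a → b ∈ S) →
      Module.finrank k (below I S) ≤ ∑ α ∈ S, Module.finrank k (tPiece (initI I) α) := by
    intro n
    induction n with
    | zero =>
      intro S hS _ _
      rw [Finset.card_eq_zero.mp hS]
      have : below I ∅ = ⊥ := by
        rw [Submodule.eq_bot_iff]
        intro φ hφ
        by_contra h0
        obtain ⟨α, hv, hne⟩ := exists_lead I h0
        refine hne (funext fun γ => ?_)
        show (if _ then _ else _) = _
        split_ifs with h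
        · exact hφ _ _ ((exps_initI I).mp h.1.2) (by simp)
        · rfl
      simp [this]
    | succ n ih =>
      intro S hS hsub hdown
      obtain ⟨a, ha, hmax⟩ := S.exists_max_image key (Finset.card_pos.mp (by omega))
      have hva : ∀ φ ∈ below I S, Vanish I a φ := fun φ hφ β δ hβ hlt =>
        hφ β δ hβ fun b hb => (hmax b hb).trans_lt hlt
      let L : below I S →ₗ[k] Sol (initI I) a :=
        { toFun := fun φ => ⟨lead0 I a φ.1, lead0_mem I (hva φ.1 φ.2)⟩
          map_add' := fun φ ψ => Subtype.ext (by simp)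
          map_smul' := fun t φ => Subtype.ext (by simp) }
      have hker : (LinearMap.ker L).map (below I S).subtype ≤ below I (S.erase a) := by
        rintro _ ⟨φ, hφ, rfl⟩ β δ hβ hlt
        by_contra hne
        rcases eq_or_ne φ.1 0 with h0 | h0
        · exact hne (by simp [Cf, h0])
        obtain ⟨α, hv, hl⟩ := exists_lead I h0
        have hαle : key α ≤ key a := by
          by_contra hgt
          refine hl (funext fun γ => ?_)
          show (if _ then _ else _) = _
          split_ifs with h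
          · refine hva φ.1 φ.2 _ _ ((exps_initI I).mp h.1.2) ?_
            rw [cast_toN h.2.1, cast_toN (fun l => by have := h.1.1 l; simp; omega), sub_sub_cancel]
            exact not_le.mp hgt
          · rfl
        have hαS : α ∈ S.erase a := Finset.mem_erase.mpr ⟨fun e => hl (by
            have h : lead0 I a φ.1 = 0 := congrArg Subtype.val (LinearMap.mem_ker.mp hφ)
            rw [e]; exact h),
          hdown a ha α (degs_of hv hl) hαle⟩
        exact hne (hv β δ hβ (hlt α hαS))
      haveI := instFiniteSol hI a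
      haveI : FiniteDimensional k (Tgt I) := finite_tgt I
      calc Module.finrank k (below I S)
          ≤ Module.finrank k (Sol (initI I) a) + Module.finrank k (below I (S.erase a)) :=
            finrank_le_ker_add (M := Tgt I) (below I S) (Sol (initI I) a) L _ hker
        _ ≤ ∑ α ∈ S, Module.finrank k (tPiece (initI I) α) := by
            rw [← Finset.add_sum_erase S _ ha, ← finrank_tPiece hI a]
            refine Nat.add_le_add_left (ih (S.erase a) (by rw [Finset.card_erase_of_mem ha]; omega)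
              ((Finset.erase_subset _ _).trans hsub) fun x hx b hb hle => ?_) _
            obtain ⟨hxa, hxS⟩ := Finset.mem_erase.mp hx
            refine Finset.mem_erase.mpr ⟨fun e => hxa ?_, hdown x hxS b hb hle⟩
            subst e
            exact key_inj (le_antisymm (hmax x hxS) hle)
  have htop : below I (degs hI) = ⊤ := by
    rw [eq_top_iff]
    intro φ _ β δ hβ hlt
    rcases eq_or_ne φ 0 with h0 | h0
    · simp [Cf, h0]
    obtain ⟨α, hv, hl⟩ := exists_lead I h0
    exact hv β δ hβ (hlt α (degs_of hv hl))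
  have h := main _ (degs hI) rfl subset_rfl fun _ _ b hb _ => hb
  rw [htop, finrank_top] at h
  refine h.trans (le_of_eq ?_)
  have htop' : (⨆ α : {α : Fin 3 → ℤ // True}, tPiece (initI I) α.1) = ⊤ := by
    rw [eq_top_iff, ← iSup_eq_top hI]
    exact iSup_le fun α => le_iSup (fun a : {α : Fin 3 → ℤ // True} => tPiece (initI I) a.1) ⟨α, trivial⟩
  rw [← finrank_top k (Tgt (initI I)), ← htop', finrank_iSup hI fun _ => True, Finset.filter_true]

end Groth.Agent.L13.HilbPn
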