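import Groth.Agent.L13.HilbPn.Basic
import Mathlib.LinearAlgebra.Matrix.Rank
import Mathlib.Data.Matrix.Basic

/-!
The Koszul complex on the endomorphisms of the quotient by a monomial ideal in three variables: its
first cohomology is the tangent module, it is self dual, and its Euler characteristic is elementary.
-/

set_option autoImplicit false

universe u

namespace Groth.Agent.L13.HilbPn

open MvPolynomial W4c1hilbpn Matrix

variable {k : Type u} [Field k] {I : Ideal (MvPolynomial (Fin 3) k)} (hI : IsMonomial I)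
  [Module.Finite k (MvPolynomial (Fin 3) k ⧸ I)]

local notation "Vec" => (Fin 3 → ℤ)

/-- The unit vectors. -/
def un (i : Fin 3) : Fin 3 → ℤ := Pi.single i 1

/-- The vector of ones. -/
def one3 : Fin 3 → ℤ := fun _ => 1

/-- The standard exponents. -/
noncomputable def pts : Finset Vec := (finite_good hI).toFinset

lemma mem_pts {γ : Vec} : γ ∈ pts hI ↔ Good I γ := by simp [pts]

lemma pts_down {γ δ : Vec} (h : γ ∈ pts hI) (hle : δ ≤ γ) (h0 : ∀ i, 0 ≤ δ i) : δ ∈ pts hI :=
  (mem_pts hI).mpr (((mem_pts hI).mp h).of_le I hle h0)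

lemma pts_nonneg {γ : Vec} (h : γ ∈ pts hI) (i : Fin 3) : 0 ≤ γ i := ((mem_pts hI).mp h).1 i

/-- The basis of the endomorphisms of degree `α`. -/
noncomputable def edg (α : Vec) : Finset Vec := (pts hI).filter fun γ => γ + α ∈ pts hI

lemma mem_edg {α γ : Vec} : γ ∈ edg hI α ↔ γ ∈ pts hI ∧ γ + α ∈ pts hI := by simp [edg]

/-- The entries of the commutator with a variable. -/
def ent (d : Vec) (γ' γ : Vec) : k := (if γ = γ' then 1 else 0) - if γ = γ' + d then 1 else 0

/-- Signs of the middle differential. -/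
def eps : Fin 3 → Fin 3 → ℤ := ![![0, -1, 1], ![1, 0, -1], ![-1, 1, 0]]

/-- The third index. -/
def third : Fin 3 → Fin 3 → Fin 3 := ![![0, 2, 1], ![2, 0, 0], ![1, 0, 0]]

lemma eps_antisymm : ∀ l m, eps l m = -eps m l := by decide
lemma third_comm : ∀ l m, third l m = third m l := by decide
lemma eps_self : ∀ l, eps l l = 0 := by decide
lemma one3_eq : ∀ l m : Fin 3, l ≠ m → one3 = un l + un m + un (third l m) := by decide
lemma univ_eq : ∀ a b c : Fin 3, a ≠ b → a ≠ c → b ≠ c → (Finset.univ : Finset (Fin 3)) = {a, b, c} := by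
  decide

/-- The first differential. -/
noncomputable def M0 (α : Vec) : Matrix (Σ i : Fin 3, ↥(edg hI (α + un i))) ↥(edg hI α) k :=
  fun r c => ent (un r.1) r.2.1 c.1

/-- The second differential. -/
noncomputable def M1 (α : Vec) :
    Matrix (Σ i : Fin 3, ↥(edg hI (α + one3 - un i))) (Σ i : Fin 3, ↥(edg hI (α + un i))) k :=
  fun r c => (eps r.1 c.1 : k) * ent (un (third r.1 c.1)) r.2.1 c.2.1

/-- The third differential. -/
noncomputable def M2 (α : Vec) :
    Matrix ↥(edg hI (α + one3)) (Σ i : Fin 3, ↥(edg hI (α + one3 - un i))) k :=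
  fun r c => ent (un c.1) r.1 c.2.1

/-- The dual degree. -/
def dual (α : Vec) : Vec := -α - one3

/-- The duality on the bases. -/
noncomputable def flipE {β β' : Vec} (h : β' = -β) : ↥(edg hI β) ≃ ↥(edg hI β') where
  toFun γ := ⟨γ.1 + β, by
    subst h; have := mem_edg hI |>.mp γ.2
    exact (mem_edg hI).mpr ⟨this.2, by rw [add_neg_cancel_right]; exact this.1⟩⟩
  invFun γ := ⟨γ.1 + β', by
    subst h; have := mem_edg hI |>.mp γ.2
    exact (mem_edg hI).mpr ⟨this.2, by rw [neg_add_cancel_right]; exact this.1⟩⟩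
  left_inv γ := Subtype.ext (by subst h; simp)
  right_inv γ := Subtype.ext (by subst h; simp)

omit hI in
lemma ent_flip (d β γ' γ : Vec) :
    (ent d (γ + β) (γ' + β + d) : k) = -ent d γ' γ := by
  simp only [ent]
  have e1 : γ' + β + d = γ + β ↔ γ = γ' + d := by
    constructor
    · intro h; linear_combination (norm := abel) -h
    · intro h; rw [h]; abel
  have e2 : γ' + β + d = γ + β + d ↔ γ = γ' := by
    constructor
    · intro h; linear_combination (norm := abel) -h
    · intro h; rw [h]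
  simp only [e1, e2]; ring

lemma rank_M2 (α : Vec) : (M2 hI α).rank = (M0 hI (dual α)).rank := by
  classical
  let eR : (Σ i : Fin 3, ↥(edg hI (α + one3 - un i))) ≃ (Σ i : Fin 3, ↥(edg hI (dual α + un i))) :=
    Equiv.sigmaCongrRight fun i => flipE hI (by rw [dual]; abel)
  let eC : ↥(edg hI (α + one3)) ≃ ↥(edg hI (dual α)) := flipE hI (by rw [dual]; abel)
  have h : (M0 hI (dual α)).submatrix eR eC = (-1 : k) • (M2 hI α)ᵀ := by
    ext ⟨i, γ⟩ γ'
    show ent (un i) (γ.1 + (α + one3 - un i)) (γ'.1 + (α + one3)) =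
      (-1 : k) * ent (un i) γ'.1 γ.1
    rw [neg_one_mul, ← ent_flip (un i) (α + one3 - un i) γ'.1 γ.1]
    congr 1; abel
  rw [← Matrix.rank_submatrix (M0 hI (dual α)) eR eC, h, Matrix.rank_smul_of_mem_nonZeroDivisors,
    Matrix.rank_transpose]
  exact mem_nonZeroDivisors_of_ne_zero (neg_ne_zero.mpr one_ne_zero)

lemma rank_M1 (α : Vec) : (M1 hI α).rank = (M1 hI (dual α)).rank := by
  classical
  let eR : (Σ i : Fin 3, ↥(edg hI (α + un i))) ≃ (Σ i : Fin 3, ↥(edg hI (dual α + one3 - un i))) :=
    Equiv.sigmaCongrRight fun i => flipE hI (by rw [dual]; abel)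
  let eC : (Σ i : Fin 3, ↥(edg hI (α + one3 - un i))) ≃ (Σ i : Fin 3, ↥(edg hI (dual α + un i))) :=
    Equiv.sigmaCongrRight fun i => flipE hI (by rw [dual]; abel)
  have h : (M1 hI (dual α)).submatrix eR eC = (M1 hI α)ᵀ := by
    ext ⟨m, γ⟩ ⟨l, γ'⟩
    show (eps m l : k) * ent (un (third m l)) (γ.1 + (α + un m)) (γ'.1 + (α + one3 - un l)) =
      (eps l m : k) * ent (un (third l m)) γ'.1 γ.1
    rw [eps_antisymm m l, third_comm m l, Int.cast_neg]
    by_cases hlm : l = m
    · subst hlm
      simp [eps_self]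
    · generalize (γ'.1 : Vec) = x
      generalize (γ.1 : Vec) = y
      rw [show x + (α + one3 - un l) = x + (α + un m) + un (third l m) by rw [one3_eq l m hlm]; abel,
        ent_flip]
      ring
  rw [← Matrix.rank_submatrix (M1 hI (dual α)) eR eC, h, Matrix.rank_transpose]

section cohomology

variable (α : Vec)

open Classical in
/-- Extension by zero. -/
noncomputable def ext₀ {β : Vec} (f : ↥(edg hI β) → k) (γ : Vec) : k :=
  if h : γ ∈ edg hI β then f ⟨γ, h⟩ else 0

lemma ext₀_of_not {β : Vec} (f : ↥(edg hI β) → k) {γ : Vec} (h : γ ∉ edg hI β) : ext₀ hI f γ = 0 :=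
  dif_neg h

lemma ext₀_mem {β : Vec} (f : ↥(edg hI β) → k) (γ : ↥(edg hI β)) : ext₀ hI f γ.1 = f γ :=
  dif_pos γ.2

lemma sum_ent {β : Vec} (f : ↥(edg hI β) → k) (d γ' : Vec) :
    ∑ γ : ↥(edg hI β), ent d γ' γ.1 * f γ = ext₀ hI f γ' - ext₀ hI f (γ' + d) := by
  classical
  have key : ∀ x : Vec, ∑ γ : ↥(edg hI β), (if γ.1 = x then 1 else 0) * f γ = ext₀ hI f x := by
    intro x
    simp only [ite_mul, one_mul, zero_mul]
    by_cases hx : x ∈ edg hI β
    · rw [Finset.sum_eq_single ⟨x, hx⟩, if_pos rfl, ← ext₀_mem hI f ⟨x, hx⟩]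
      · intro γ _ hne; rw [if_neg fun e => hne (Subtype.ext e)]
      · simp
    · rw [ext₀_of_not hI f hx]
      exact Finset.sum_eq_zero fun γ _ => if_neg fun e : γ.1 = x => hx (e ▸ γ.2)
  simp only [ent, sub_mul, Finset.sum_sub_distrib, key]

lemma M0_mulVec (f : ↥(edg hI α) → k) (r : Σ i : Fin 3, ↥(edg hI (α + un i))) :
    (M0 hI α *ᵥ f) r = ext₀ hI f r.2.1 - ext₀ hI f (r.2.1 + un r.1) :=
  sum_ent hI f (un r.1) r.2.1

/-- The components of a cochain. -/
noncomputable def comp (g : (Σ i : Fin 3, ↥(edg hI (α + un i))) → k) (i : Fin 3) (γ : Vec) : k :=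
  ext₀ hI (fun x => g ⟨i, x⟩) γ

lemma M1_mulVec (g : (Σ i : Fin 3, ↥(edg hI (α + un i))) → k)
    (r : Σ i : Fin 3, ↥(edg hI (α + one3 - un i))) :
    (M1 hI α *ᵥ g) r = ∑ m, (eps r.1 m : k) *
      (comp hI α g m r.2.1 - comp hI α g m (r.2.1 + un (third r.1 m))) := by
  show ∑ c, M1 hI α r c * g c = _
  rw [Fintype.sum_sigma]
  refine Finset.sum_congr rfl fun m _ => ?_
  rw [comp, comp, ← sum_ent hI (fun x => g ⟨m, x⟩) (un (third r.1 m)) r.2.1, Finset.mul_sum]
  exact Finset.sum_congr rfl fun x _ => by simp [M1, mul_assoc]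

/-- The closedness condition, pairwise. -/
lemma closed_iff (g : (Σ i : Fin 3, ↥(edg hI (α + un i))) → k) :
    M1 hI α *ᵥ g = 0 ↔ ∀ i j : Fin 3, ∀ γ ∈ edg hI (α + un i + un j),
      comp hI α g i γ - comp hI α g i (γ + un j) = comp hI α g j γ - comp hI α g j (γ + un i) := by
  constructor
  · intro h i j γ hγ
    by_cases hij : i = j
    · subst hij; rfl
    have hl : ∃ l, α + one3 - un l = α + un i + un j ∧ third l i = j ∧ third l j = i ∧
        eps l l = 0 ∧ eps l j = -eps l i ∧ (eps l i = 1 ∨ eps l i = -1) ∧ l ≠ i ∧ l ≠ j := by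
      have key : ∀ i j : Fin 3, i ≠ j → ∃ l : Fin 3, (one3 - un l = un i + un j) ∧ third l i = j ∧
          third l j = i ∧ eps l l = 0 ∧ eps l j = -eps l i ∧ (eps l i = 1 ∨ eps l i = -1) ∧ l ≠ i ∧ l ≠ j := by
        decide
      obtain ⟨l, h1, h2⟩ := key i j hij
      exact ⟨l, by rw [add_sub_assoc, h1]; abel, h2⟩
    obtain ⟨l, hl, t1, t2, z, sgn, pm, li, lj⟩ := hl
    have hr := congrFun h ⟨l, ⟨γ, hl ▸ hγ⟩⟩
    rw [M1_mulVec, Pi.zero_apply] at hr
    have hu : (Finset.univ : Finset (Fin 3)) = {l, i, j} := univ_eq l i j li lj hij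
    rw [hu, Finset.sum_insert (by simp [li, lj]), Finset.sum_pair hij] at hr
    simp only [t1, t2, z, sgn, Int.cast_zero, zero_mul, zero_add, Int.cast_neg] at hr
    rcases pm with e | e <;> simp only [e, Int.cast_one, Int.cast_neg] at hr <;>
      [linear_combination hr; linear_combination -hr]
  · intro h
    funext r
    obtain ⟨l, γ, hγ⟩ := r
    rw [M1_mulVec, Pi.zero_apply]
    have key : ∀ l : Fin 3, ∃ i j : Fin 3, (one3 - un l = un i + un j) ∧ third l i = j ∧
        third l j = i ∧ eps l l = 0 ∧ eps l j = -eps l i ∧ l ≠ i ∧ l ≠ j ∧ i ≠ j := by decide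
    obtain ⟨i, j, hs, t1, t2, z, sgn, li, lj, hij⟩ := key l
    have hu : (Finset.univ : Finset (Fin 3)) = {l, i, j} := univ_eq l i j li lj hij
    rw [hu, Finset.sum_insert (by simp [li, lj]), Finset.sum_pair hij]
    have := h i j γ (by rw [show α + un i + un j = α + one3 - un l by rw [add_sub_assoc, hs]; abel]; exact hγ)
    simp only [t1, t2, z, sgn, Int.cast_zero, zero_mul, zero_add, Int.cast_neg]
    linear_combination (eps l i : k) * this

/-- The section from the tangent piece to the cocycles. -/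
noncomputable def Xi : Sol I α →ₗ[k] ((Σ i : Fin 3, ↥(edg hI (α + un i))) → k) where
  toFun c r := if r.2.1 + un r.1 ∈ pts hI then 0 else c.1 (r.2.1 + un r.1 + α)
  map_add' c d := by funext r; dsimp; split_ifs <;> simp
  map_smul' t c := by funext r; dsimp; split_ifs <;> simp

omit hI in
lemma un_nonneg (i l : Fin 3) : 0 ≤ un i l := by fin_cases i <;> fin_cases l <;> decide

omit hI in
lemma le_add_un (γ : Vec) (i : Fin 3) : γ ≤ γ + un i := fun l => by
  simp only [Pi.add_apply]; have := un_nonneg i l; omega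

lemma comp_of_not {g : (Σ i : Fin 3, ↥(edg hI (α + un i))) → k} {i : Fin 3} {γ : Vec}
    (h : ¬ (γ ∈ pts hI ∧ γ + (α + un i) ∈ pts hI)) : comp hI α g i γ = 0 :=
  ext₀_of_not hI _ (fun hh => h ((mem_edg hI).mp hh))

lemma comp_Xi (c : Sol I α) (i : Fin 3) {γ : Vec} (hγ : γ ∈ pts hI) :
    comp hI α (Xi hI α c) i γ = if γ + un i ∈ pts hI then 0 else c.1 (γ + un i + α) := by
  by_cases h : γ + (α + un i) ∈ pts hI
  · rw [comp, ext₀, dif_pos ((mem_edg hI).mpr ⟨hγ, h⟩)]; rfl
  · rw [comp_of_not hI α (fun hh => h hh.2)]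
    split_ifs with hh
    · rfl
    · rw [c.2.1 _ fun hc => h ((mem_pts hI).mpr (by
        rw [show γ + (α + un i) = γ + un i + α by abel]; exact hc.2))]

lemma src_of_not {γ : Vec} (h0 : ∀ i, 0 ≤ γ i) (h : γ ∉ pts hI) : Src I α (γ + α) := by
  refine ⟨fun i => by simp [h0 i], ?_⟩
  rw [add_sub_cancel_right]
  by_contra hne
  exact h ((mem_pts hI).mpr ⟨h0, hne⟩)

lemma Xi_closed (c : Sol I α) : M1 hI α *ᵥ Xi hI α c = 0 := by
  rw [closed_iff]
  intro i j γ hγ
  obtain ⟨hγP, hT⟩ := (mem_edg hI).mp hγ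
  have hγ0 := pts_nonneg hI hγP
  have cmp : ∀ i j : Fin 3, γ + (α + un i + un j) ∈ pts hI →
      comp hI α (Xi hI α c) i γ - comp hI α (Xi hI α c) i (γ + un j) =
        if γ + un i + un j ∈ pts hI then 0 else
          if γ + un i ∈ pts hI then (if γ + un j ∈ pts hI then -c.1 (γ + un i + un j + α) else 0)
          else (if γ + un j ∈ pts hI then 0 else c.1 (γ + un i + un j + α)) := by
    intro i j hT
    have hg : Good I (γ + un i + un j + α) := (mem_pts hI).mp (by
      rw [show γ + un i + un j + α = γ + (α + un i + un j) by abel]; exact hT)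
    have eqn : γ + un i ∉ pts hI → c.1 (γ + un i + un j + α) = c.1 (γ + un i + α) := by
      intro hn
      have h0 : ∀ l, 0 ≤ (γ + un i) l := fun l => (hγ0 l).trans (le_add_un γ i l)
      have := c.2.2 _ j (src_of_not hI α h0 hn) (by
        rw [show γ + un i + α + Pi.single j 1 = γ + un i + un j + α by rw [un, un]; abel]; exact hg)
      rwa [show γ + un i + α + Pi.single j 1 = γ + un i + un j + α by rw [un, un]; abel] at this
    have hup : γ + un i + un j ∈ pts hI → γ + un i ∈ pts hI ∧ γ + un j ∈ pts hI := fun h =>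
      ⟨pts_down hI h (le_add_un _ j) fun l => (hγ0 l).trans (le_add_un γ i l),
       pts_down hI h (by intro l; have := le_add_un γ i l; simp only [Pi.add_apply] at this ⊢; omega)
        fun l => (hγ0 l).trans (le_add_un γ j l)⟩
    rw [comp_Xi hI α c i hγP]
    by_cases hj : γ + un j ∈ pts hI
    · rw [comp_Xi hI α c i hj, show γ + un j + un i = γ + un i + un j by abel]
      by_cases hij : γ + un i + un j ∈ pts hI
      · simp [hij, (hup hij).1]
      · by_cases hi : γ + un i ∈ pts hI
        · simp [hij, hi, hj]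
        · simp [hij, hi, hj, eqn hi]
    · rw [comp_of_not hI α (fun hh => hj hh.1), sub_zero]
      have hij : γ + un i + un j ∉ pts hI := fun h => hj (hup h).2
      by_cases hi : γ + un i ∈ pts hI
      · simp [hij, hi, hj]
      · simp [hij, hi, hj, eqn hi]
  rw [cmp i j hT, cmp j i (by rw [show γ + (α + un j + un i) = γ + (α + un i + un j) by abel]; exact hT),
    show γ + un j + un i = γ + un i + un j by abel]
  split_ifs <;> rfl

lemma Xi_injective : Function.Injective (Xi hI α) := by
  classical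
  refine (injective_iff_map_eq_zero _).mpr fun c hc => Subtype.ext (funext fun δ => ?_)
  suffices H : ∀ n (β : Fin 3 →₀ ℕ), ∑ l, β l = n → β ∈ exps I → Good I (cast β + α) →
      c.1 (cast β + α) = 0 by
    by_contra hne
    obtain ⟨hs, hg⟩ : Src I α δ ∧ Good I δ := by_contra fun h => hne (c.2.1 δ h)
    obtain ⟨β, hβ, rfl⟩ := hs.exists_eq I
    exact hne (H _ β rfl hβ hg)
  intro n
  induction n using Nat.strong_induction_on with
  | _ n ih =>
    intro β hn hβ hg
    obtain ⟨i, hi⟩ : ∃ i, 0 < β i := by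
      by_contra h
      push Not at h
      have : β = 0 := Finsupp.ext fun l => Nat.le_zero.mp (h l)
      subst this
      exact hg.2 (exps_upper I zero_le hβ)
    set β' := β - Finsupp.single i 1 with hβ'
    have hle : Finsupp.single i 1 ≤ β := Finsupp.single_le_iff.mpr hi
    have eβ : β' + Finsupp.single i 1 = β := tsub_add_cancel_of_le hle
    have ecast : cast β' + un i = cast β := by rw [un, ← cast_single, ← cast_add, eβ]
    by_cases hmem : β' ∈ exps I
    · have e : cast β' + α + Pi.single i 1 = cast β + α := by rw [← ecast, un]; abel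
      have h2 := c.2.2 _ i (src_cast I (α := α) hmem) (by rw [e]; exact hg)
      rw [e] at h2
      rw [h2]
      by_cases hg' : Good I (cast β' + α)
      · refine ih _ ?_ β' rfl hmem hg'
        rw [← hn, ← eβ]
        simp [Finset.sum_add_distrib]
      · exact c.2.1 _ fun hh => hg' hh.2
    · have hP : cast β' ∈ pts hI := (mem_pts hI).mpr ((good_cast_iff I).mpr hmem)
      have hT : cast β' + (α + un i) ∈ pts hI := (mem_pts hI).mpr (by
        rw [show cast β' + (α + un i) = cast β + α by rw [← ecast]; abel]; exact hg)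
      have := congrFun hc ⟨i, ⟨cast β', (mem_edg hI).mpr ⟨hP, hT⟩⟩⟩
      have hnb : cast β ∉ pts hI := by
        rw [mem_pts, good_cast_iff, not_not]; exact hβ
      simpa [Xi, hnb, ecast] using this

omit hI in
/-- The exponent `(a, b, c)`. -/
def vec (a b c : ℕ) : Fin 3 → ℤ := ![(a : ℤ), (b : ℤ), (c : ℤ)]

variable (g : (Σ i : Fin 3, ↥(edg hI (α + un i))) → k)

open Classical in
/-- One step of the integration. -/
noncomputable def step (i : Fin 3) (γ : Vec) (F : k) : k :=
  if γ + un i + α ∈ pts hI then comp hI α g i γ + F else 0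

/-- The integral of a cochain along the chosen paths. -/
noncomputable def integ : ℕ → ℕ → ℕ → k
  | 0, 0, 0 => 0
  | 0, 0, c + 1 => step hI α g 2 (vec 0 0 c) (integ 0 0 c)
  | 0, b + 1, c => step hI α g 1 (vec 0 b c) (integ 0 b c)
  | a + 1, b, c => step hI α g 0 (vec a b c) (integ a b c)

/-- The integral as a function of the exponent. -/
noncomputable def prim (γ : Vec) : k := integ hI α g (γ 0).toNat (γ 1).toNat (γ 2).toNat

omit hI in
lemma vec_un (a b c : ℕ) : vec a b c + un 0 = vec (a + 1) b c ∧ vec a b c + un 1 = vec a (b + 1) c ∧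
    vec a b c + un 2 = vec a b (c + 1) := by
  refine ⟨?_, ?_, ?_⟩ <;> funext l <;> fin_cases l <;> simp [vec, un, Pi.single_apply]

omit hI in
lemma vec_nonneg (a b c : ℕ) (l : Fin 3) : 0 ≤ vec a b c l := by fin_cases l <;> simp [vec]

omit hI in
lemma eq_vec {γ : Vec} (h : ∀ l, 0 ≤ γ l) : γ = vec (γ 0).toNat (γ 1).toNat (γ 2).toNat := by
  funext l; fin_cases l <;> simp [vec, h]

lemma prim_vec (a b c : ℕ) : prim hI α g (vec a b c) = integ hI α g a b c := by simp [prim, vec]

lemma prim_support {γ : Vec} (h0 : ∀ l, 0 ≤ γ l) (h : γ + α ∉ pts hI) : prim hI α g γ = 0 := by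
  rw [eq_vec h0] at h ⊢
  rw [prim_vec]
  revert h
  generalize (γ 0).toNat = a
  generalize (γ 1).toNat = b
  generalize (γ 2).toNat = c
  intro h
  match a, b, c with
  | 0, 0, 0 => simp [integ]
  | 0, 0, c + 1 => rw [integ, step, if_neg]; rwa [(vec_un 0 0 c).2.2]
  | 0, b + 1, c => rw [integ, step, if_neg]; rwa [(vec_un 0 b c).2.1]
  | a + 1, b, c => rw [integ, step, if_neg]; rwa [(vec_un a b c).1]

/-- The relation is preserved one step up. -/
lemma step_comm (hg : M1 hI α *ᵥ g = 0) {γ : Vec} (h0 : ∀ l, 0 ≤ γ l) (i j : Fin 3)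
    (hi : prim hI α g (γ + un i) = step hI α g i γ (prim hI α g γ))
    (hj : prim hI α g (γ + un j) = step hI α g j γ (prim hI α g γ))
    (hji : prim hI α g (γ + un i + un j) = step hI α g j (γ + un i) (prim hI α g (γ + un i))) :
    prim hI α g (γ + un j + un i) = step hI α g i (γ + un j) (prim hI α g (γ + un j)) := by
  rw [show γ + un j + un i = γ + un i + un j by abel, hji, hi, hj, step, step, step, step,
    show γ + un j + un i = γ + un i + un j by abel]
  by_cases hT : γ + un i + un j + α ∈ pts hI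
  swap
  · rw [if_neg hT, if_neg hT]
  rw [if_pos hT, if_pos hT]
  have low : ∀ i j : Fin 3, γ + un i + un j + α ∈ pts hI →
      (if γ + un i + α ∈ pts hI then comp hI α g i γ + prim hI α g γ else 0) =
        comp hI α g i γ + prim hI α g γ := by
    intro i j hT
    split_ifs with h
    · rfl
    · have hn : ¬ ∀ l, 0 ≤ (γ + α) l := by
        intro hnn
        refine h (pts_down hI hT ?_ fun l => ?_)
        · intro l
          have := un_nonneg j l
          simp only [Pi.add_apply]; omega
        · have := hnn l; have := un_nonneg i l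
          simp only [Pi.add_apply] at *; omega
      rw [prim_support hI α g h0 fun hh => hn (pts_nonneg hI hh), comp_of_not hI α (fun hh => h (by
        rw [show γ + un i + α = γ + (α + un i) by abel]; exact hh.2)), add_zero]
  rw [low i j hT, low j i (by rw [show γ + un j + un i = γ + un i + un j by abel]; exact hT)]
  by_cases hP : γ ∈ pts hI
  · have := (closed_iff hI α g).mp hg i j γ ((mem_edg hI).mpr ⟨hP, by
      rw [show γ + (α + un i + un j) = γ + un i + un j + α by abel]; exact hT⟩)
    linear_combination this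
  · have hz : ∀ m δ, γ ≤ δ → comp hI α g m δ = 0 := fun m δ hle =>
      comp_of_not hI α fun hh => hP (pts_down hI hh.1 hle h0)
    rw [hz _ _ le_rfl, hz _ _ le_rfl, hz _ _ (le_add_un γ i), hz _ _ (le_add_un γ j)]

lemma prim_rec (hg : M1 hI α *ᵥ g = 0) (i : Fin 3) {γ : Vec} (h0 : ∀ l, 0 ≤ γ l) :
    prim hI α g (γ + un i) = step hI α g i γ (prim hI α g γ) := by
  have r0 : ∀ a b c, prim hI α g (vec a b c + un 0) = step hI α g 0 (vec a b c) (prim hI α g (vec a b c)) := by
    intro a b c; rw [(vec_un a b c).1, prim_vec, prim_vec, integ]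
  have r1 : ∀ a b c, prim hI α g (vec a b c + un 1) = step hI α g 1 (vec a b c) (prim hI α g (vec a b c)) := by
    intro a
    induction a with
    | zero => intro b c; rw [(vec_un 0 b c).2.1, prim_vec, prim_vec, integ]
    | succ a ih =>
      intro b c
      rw [← (vec_un a b c).1]
      exact step_comm hI α g hg (vec_nonneg a b c) 1 0 (ih b c) (r0 a b c) (by
        rw [(vec_un a b c).2.1]; exact r0 a (b + 1) c)
  have r2 : ∀ a b c, prim hI α g (vec a b c + un 2) = step hI α g 2 (vec a b c) (prim hI α g (vec a b c)) := by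
    intro a
    induction a with
    | zero =>
      intro b
      induction b with
      | zero => intro c; rw [(vec_un 0 0 c).2.2, prim_vec, prim_vec, integ]
      | succ b ih =>
        intro c
        rw [← (vec_un 0 b c).2.1]
        exact step_comm hI α g hg (vec_nonneg 0 b c) 2 1 (ih c) (r1 0 b c) (by
          rw [(vec_un 0 b c).2.2]; exact r1 0 b (c + 1))
    | succ a ih =>
      intro b c
      rw [← (vec_un a b c).1]
      exact step_comm hI α g hg (vec_nonneg a b c) 2 0 (ih b c) (r0 a b c) (by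
        rw [(vec_un a b c).2.2]; exact r0 a b (c + 1))
  rw [eq_vec h0]
  fin_cases i
  · exact r0 _ _ _
  · exact r1 _ _ _
  · exact r2 _ _ _

open Classical in
/-- The tangent vector of a cocycle. -/
noncomputable def back (δ : Vec) : k :=
  if Src I α δ ∧ Good I δ then prim hI α g (δ - α) else 0

lemma back_mem (hg : M1 hI α *ᵥ g = 0) : back hI α g ∈ Sol I α := by
  refine ⟨fun δ h => if_neg h, fun δ i hs hgood => ?_⟩
  obtain ⟨β, hβ, rfl⟩ := hs.exists_eq I
  have h0 : ∀ l, 0 ≤ cast β l := fun l => by simp [cast]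
  have hT : cast β + un i + α ∈ pts hI := (mem_pts hI).mpr (by
    rw [show cast β + un i + α = cast β + α + Pi.single i 1 by rw [un]; abel]; exact hgood)
  have hz : comp hI α g i (cast β) = 0 := comp_of_not hI α fun hh => by
    rw [mem_pts, good_cast_iff] at hh; exact hh.1 hβ
  have hr := prim_rec hI α g hg i h0
  rw [step, if_pos hT, hz, zero_add] at hr
  rw [back, if_pos ⟨hs.mono I (fun l => by
      simp only [Pi.add_apply]; have := un_nonneg i l; rw [un] at this; omega), hgood⟩,
    show cast β + α + Pi.single i 1 - α = cast β + un i by rw [un]; abel, hr, back]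
  split_ifs with hh
  · rw [add_sub_cancel_right]
  · exact prim_support hI α g h0 fun hp => hh ⟨hs, (mem_pts hI).mp hp⟩

lemma decompose (hg : M1 hI α *ᵥ g = 0) :
    g = Xi hI α ⟨back hI α g, back_mem hI α g hg⟩ + M0 hI α *ᵥ fun x => -prim hI α g x.1 := by
  funext r
  obtain ⟨i, γ, hγ⟩ := r
  obtain ⟨hP, hT'⟩ := (mem_edg hI).mp hγ
  have hT : γ + un i + α ∈ pts hI := by rwa [show γ + un i + α = γ + (α + un i) by abel]
  have hz : ∀ δ, (∀ l, 0 ≤ δ l) → ext₀ hI (fun x : ↥(edg hI α) => -prim hI α g x.1) δ =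
      if δ ∈ pts hI then -prim hI α g δ else 0 := by
    intro δ h0
    by_cases hd : δ ∈ edg hI α
    · rw [ext₀, dif_pos hd, if_pos ((mem_edg hI).mp hd).1]
    · rw [ext₀, dif_neg hd]
      split_ifs with hp
      · rw [prim_support hI α g h0 fun hh => hd ((mem_edg hI).mpr ⟨hp, hh⟩), neg_zero]
      · rfl
  have h0 := pts_nonneg hI hP
  have h0' : ∀ l, 0 ≤ (γ + un i) l := fun l => (h0 l).trans (le_add_un γ i l)
  have hr := prim_rec hI α g hg i h0
  rw [step, if_pos hT] at hr
  have hc : comp hI α g i γ = g ⟨i, γ, hγ⟩ := dif_pos hγ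
  rw [Pi.add_apply, M0_mulVec, hz γ h0, hz _ h0', if_pos hP]
  show g ⟨i, γ, hγ⟩ = (if γ + un i ∈ pts hI then 0 else back hI α g (γ + un i + α)) + _
  split_ifs with h
  · rw [hr, hc]; ring
  · rw [back, if_pos ⟨src_of_not hI α h0' h, (mem_pts hI).mp hT⟩, add_sub_cancel_right, hr, hc]; ring

omit g

lemma const_on {f : ↥(edg hI α) → k}
    (h : ∀ i : Fin 3, ∀ γ ∈ edg hI (α + un i), γ + un i ∈ pts hI →
      ext₀ hI f γ = ext₀ hI f (γ + un i)) :
    ∀ (n : ℕ) (γ : Vec), γ ∈ edg hI α → (∑ l, γ l).toNat = n → ext₀ hI f γ = ext₀ hI f 0 := by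
  intro n
  induction n using Nat.strong_induction_on with
  | _ n ih =>
    intro γ hγ hn
    obtain ⟨hP, hT⟩ := (mem_edg hI).mp hγ
    by_cases hz : γ = 0
    · rw [hz]
    obtain ⟨i, hi⟩ : ∃ i, 0 < γ i := by
      by_contra hne
      push Not at hne
      exact hz (funext fun l => le_antisymm (hne l) (pts_nonneg hI hP l))
    have h0 : ∀ l, 0 ≤ (γ - un i) l := fun l => by
      have := pts_nonneg hI hP l
      rcases eq_or_ne l i with rfl | hli
      · simp [un]; omega
      · simp [un, Pi.single_eq_of_ne hli, this]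
    have hP' : γ - un i ∈ pts hI := pts_down hI hP (fun l => by
      have := un_nonneg i l; simp only [Pi.sub_apply]; omega) h0
    have hstep := h i (γ - un i) ((mem_edg hI).mpr ⟨hP', by
      rw [show γ - un i + (α + un i) = γ + α by abel]; exact hT⟩) (by rw [sub_add_cancel]; exact hP)
    rw [sub_add_cancel] at hstep
    rw [← hstep]
    by_cases hm : γ - un i ∈ edg hI α
    · refine ih _ ?_ _ hm rfl
      have e : ∑ l, (γ - un i) l = (∑ l, γ l) - 1 := by
        simp [Finset.sum_sub_distrib, un]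
      have : 0 ≤ ∑ l, (γ - un i) l := Finset.sum_nonneg fun l _ => h0 l
      omega
    · rw [ext₀_of_not hI f hm]
      refine (ext₀_of_not hI f fun h00 => hm ((mem_edg hI).mpr ⟨hP', ?_⟩)).symm
      have hα := pts_nonneg hI ((mem_edg hI).mp h00).2
      exact pts_down hI hT (fun l => by have := un_nonneg i l; simp only [Pi.add_apply, Pi.sub_apply]; omega)
        fun l => by have := h0 l; have := hα l; simp only [Pi.add_apply, Pi.zero_apply] at *; omega

open Classical in
lemma kernel_M0 {f : ↥(edg hI α) → k}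
    (h : ∀ i : Fin 3, ∀ γ ∈ edg hI (α + un i), γ + un i ∈ pts hI →
      ext₀ hI f γ = ext₀ hI f (γ + un i)) :
    M0 hI α *ᵥ f = 0 ∧ ∀ γ : ↥(edg hI α), f γ = ext₀ hI f 0 := by
  have hc : ∀ γ : ↥(edg hI α), f γ = ext₀ hI f 0 := fun γ => by
    rw [← ext₀_mem hI f γ]; exact const_on hI α h _ γ.1 γ.2 rfl
  refine ⟨?_, hc⟩
  funext r
  obtain ⟨i, γ, hγ⟩ := r
  obtain ⟨hP, hT⟩ := (mem_edg hI).mp hγ
  rw [M0_mulVec, Pi.zero_apply, sub_eq_zero]
  by_cases hp : γ + un i ∈ pts hI
  · exact h i γ hγ hp
  have h2 : ext₀ hI f (γ + un i) = 0 := ext₀_of_not hI f fun hh => hp ((mem_edg hI).mp hh).1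
  rw [h2]
  by_cases hm : γ ∈ edg hI α
  swap
  · exact ext₀_of_not hI f hm
  rw [ext₀, dif_pos hm, hc]
  refine ext₀_of_not hI f fun h00 => hp ?_
  have hα := pts_nonneg hI ((mem_edg hI).mp h00).2
  exact pts_down hI hT (fun l => by
    have := hα l; simp only [Pi.add_apply, Pi.zero_apply] at *; omega) fun l =>
      (pts_nonneg hI hP l).trans (le_add_un γ i l)

/-- The number of invariant endomorphisms. -/
noncomputable def inv₀ : ℕ := if α ∈ pts hI then 1 else 0

lemma ext_zero_ker (f : ↥(edg hI α) → k) (h : M0 hI α *ᵥ f = 0) :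
    ∀ i : Fin 3, ∀ γ ∈ edg hI (α + un i), γ + un i ∈ pts hI →
      ext₀ hI f γ = ext₀ hI f (γ + un i) := fun i γ hγ _ => by
  have := congrFun h ⟨i, γ, hγ⟩
  rw [M0_mulVec, Pi.zero_apply, sub_eq_zero] at this
  exact this

lemma finrank_ker_M0 : Module.finrank k (LinearMap.ker (M0 hI α).mulVecLin) = inv₀ hI α := by
  classical
  by_cases h : α ∈ pts hI
  · rw [inv₀, if_pos h]
    have hmem : (fun _ => (1 : k)) ∈ LinearMap.ker (M0 hI α).mulVecLin := by
      rw [LinearMap.mem_ker, Matrix.mulVecLin_apply]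
      refine (kernel_M0 hI α fun i γ hγ hp => ?_).1
      obtain ⟨hP, hT⟩ := (mem_edg hI).mp hγ
      rw [ext₀, dif_pos ((mem_edg hI).mpr ⟨hP, pts_down hI hT (fun l => by
        have := un_nonneg i l; simp only [Pi.add_apply]; omega) fun l => by
          have := pts_nonneg hI hP l; have := pts_nonneg hI h l; simp only [Pi.add_apply]; omega⟩),
        ext₀, dif_pos ((mem_edg hI).mpr ⟨hp, by
          rw [show γ + un i + α = γ + (α + un i) by abel]; exact hT⟩)]
    have h00 : (0 : Vec) ∈ edg hI α := (mem_edg hI).mpr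
      ⟨pts_down hI h (fun l => pts_nonneg hI h l) (fun l => le_rfl), by rwa [zero_add]⟩
    refine finrank_eq_one ⟨_, hmem⟩ (fun e => ?_) fun v => ⟨ext₀ hI v.1 0, Subtype.ext (funext fun γ => ?_)⟩
    · exact one_ne_zero (congrFun (congrArg Subtype.val e) ⟨0, h00⟩)
    · have hv := (LinearMap.mem_ker).mp v.2
      rw [Matrix.mulVecLin_apply] at hv
      simp [(kernel_M0 hI α (ext_zero_ker hI α v.1 hv)).2 γ]
  · rw [inv₀, if_neg h, Submodule.finrank_eq_zero, eq_bot_iff]
    intro f hf
    rw [LinearMap.mem_ker, Matrix.mulVecLin_apply] at hf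
    refine funext fun γ => ?_
    rw [(kernel_M0 hI α (ext_zero_ker hI α f hf)).2 γ]
    exact ext₀_of_not hI f fun hh => h (by simpa using ((mem_edg hI).mp hh).2)

lemma Xi_disjoint : Disjoint (LinearMap.range (Xi hI α)) (LinearMap.range (M0 hI α).mulVecLin) := by
  rw [Submodule.disjoint_def]
  rintro _ ⟨c, rfl⟩ ⟨f, hf⟩
  rw [Matrix.mulVecLin_apply] at hf
  rw [← hf]
  refine (kernel_M0 hI α fun i γ hγ hp => ?_).1
  have := congrFun hf ⟨i, γ, hγ⟩
  rw [M0_mulVec] at this
  simp only [Xi, LinearMap.coe_mk, AddHom.coe_mk, if_pos hp, sub_eq_zero] at this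
  exact this

lemma ker_M1 : LinearMap.ker (M1 hI α).mulVecLin =
    LinearMap.range (Xi hI α) ⊔ LinearMap.range (M0 hI α).mulVecLin := by
  apply le_antisymm
  · intro g hg
    rw [LinearMap.mem_ker, Matrix.mulVecLin_apply] at hg
    rw [decompose hI α g hg]
    exact Submodule.add_mem_sup ⟨_, rfl⟩ ⟨_, Matrix.mulVecLin_apply _ _⟩
  · refine sup_le ?_ ?_
    · rintro _ ⟨c, rfl⟩
      rw [LinearMap.mem_ker, Matrix.mulVecLin_apply]
      exact Xi_closed hI α c
    · rintro _ ⟨f, rfl⟩
      rw [LinearMap.mem_ker, Matrix.mulVecLin_apply, Matrix.mulVecLin_apply, closed_iff]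
      intro i j γ hγ
      obtain ⟨hP, hT⟩ := (mem_edg hI).mp hγ
      have h0 := pts_nonneg hI hP
      have hcomp : ∀ m δ, (∀ l, 0 ≤ δ l) → comp hI α (M0 hI α *ᵥ f) m δ =
          if δ ∈ pts hI ∧ δ + (α + un m) ∈ pts hI then ext₀ hI f δ - ext₀ hI f (δ + un m) else 0 := by
        intro m δ _
        by_cases h : δ ∈ pts hI ∧ δ + (α + un m) ∈ pts hI
        · rw [comp, ext₀, dif_pos ((mem_edg hI).mpr h), M0_mulVec, if_pos h]
        · rw [comp_of_not hI α h, if_neg h]
      have key : ∀ i j : Fin 3, γ + (α + un i + un j) ∈ pts hI →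
          comp hI α (M0 hI α *ᵥ f) i γ - comp hI α (M0 hI α *ᵥ f) i (γ + un j) =
            ext₀ hI f γ - ext₀ hI f (γ + un i) - ext₀ hI f (γ + un j) + ext₀ hI f (γ + un j + un i) := by
        intro i j hT
        have fz : ∀ δ : Vec, (δ ∉ pts hI ∨ δ + α ∉ pts hI) → ext₀ hI f δ = 0 := fun δ hd =>
          ext₀_of_not hI f fun hh => hd.elim (· ((mem_edg hI).mp hh).1) (· ((mem_edg hI).mp hh).2)
        have a1 : comp hI α (M0 hI α *ᵥ f) i γ = ext₀ hI f γ - ext₀ hI f (γ + un i) := by
          rw [hcomp i γ h0]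
          split_ifs with h
          · rfl
          · have hn : γ + (α + un i) ∉ pts hI := fun hh => h ⟨hP, hh⟩
            rw [fz γ (Or.inr fun hh => hn (pts_down hI hT (fun l => by
                have := un_nonneg j l; simp only [Pi.add_apply]; omega) fun l => by
                have := pts_nonneg hI hh l; have := un_nonneg i l; simp only [Pi.add_apply] at *; omega)),
              fz _ (Or.inr fun hh => hn (by rwa [show γ + (α + un i) = γ + un i + α by abel])), sub_zero]
        have a2 : comp hI α (M0 hI α *ᵥ f) i (γ + un j) =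
            ext₀ hI f (γ + un j) - ext₀ hI f (γ + un j + un i) := by
          rw [hcomp i _ fun l => (h0 l).trans (le_add_un γ j l)]
          split_ifs with h
          · rfl
          · have hn : γ + un j ∉ pts hI := fun hh => h ⟨hh, by
              rwa [show γ + un j + (α + un i) = γ + (α + un i + un j) by abel]⟩
            rw [fz _ (Or.inl hn), fz _ (Or.inl fun hh => hn (pts_down hI hh (le_add_un _ i)
              fun l => (h0 l).trans (le_add_un γ j l))), sub_zero]
        rw [a1, a2]; ring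
      rw [key i j hT, key j i (by rw [show γ + (α + un j + un i) = γ + (α + un i + un j) by abel]; exact hT),
        show γ + un j + un i = γ + un i + un j by abel]
      ring

end cohomology

/-- The number of endomorphisms of each degree. -/
noncomputable def cnt (α : Vec) : ℤ := (edg hI α).card

/-- The Euler characteristic. -/
noncomputable def euler (α : Vec) : ℤ :=
  cnt hI α - ∑ i, cnt hI (α + un i) + ∑ i, cnt hI (α + one3 - un i) - cnt hI (α + one3)

lemma card_sigma_eq (β : Fin 3 → Vec) :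
    (Fintype.card (Σ i : Fin 3, ↥(edg hI (β i))) : ℤ) = ∑ i, cnt hI (β i) := by
  simp [cnt, Fintype.card_sigma, Fintype.card_coe]

lemma finrank_T (α : Vec) :
    (Module.finrank k (tPiece I α) : ℤ) + (M1 hI α).rank + (M0 hI α).rank =
      ∑ i, cnt hI (α + un i) := by
  classical
  haveI := instFiniteSol hI α
  have h1 := Submodule.finrank_sup_add_finrank_inf_eq (LinearMap.range (Xi hI α))
    (LinearMap.range (M0 hI α).mulVecLin)
  rw [(Xi_disjoint hI α).eq_bot, finrank_bot, ← ker_M1,
    LinearMap.finrank_range_of_inj (Xi_injective hI α)] at h1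
  have h2 := LinearMap.finrank_range_add_finrank_ker (M1 hI α).mulVecLin
  rw [Module.finrank_fintype_fun_eq_card] at h2
  rw [← card_sigma_eq hI fun i => α + un i, finrank_tPiece hI α, Matrix.rank, Matrix.rank]
  omega

lemma rank_M0 (α : Vec) : (M0 hI α).rank + inv₀ hI α = (edg hI α).card := by
  classical
  rw [← finrank_ker_M0, Matrix.rank, LinearMap.finrank_range_add_finrank_ker,
    Module.finrank_fintype_fun_eq_card, Fintype.card_coe]

lemma cnt_neg (α : Vec) : cnt hI (-α) = cnt hI α := by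
  have := Fintype.card_congr (flipE hI (β := α) rfl)
  simp [Fintype.card_coe] at this
  simp [cnt, this]

/-- Duality and Riemann-Roch for the tangent pieces. -/
theorem euler_eq (α : Vec) :
    euler hI α = (inv₀ hI α : ℤ) - Module.finrank k (tPiece I α) +
      Module.finrank k (tPiece I (dual α)) - inv₀ hI (dual α) := by
  have a := finrank_T hI α
  have b := finrank_T hI (dual α)
  have c := rank_M0 hI α
  have d := rank_M0 hI (dual α)
  have e := rank_M1 hI α
  have f1 : ∑ i, cnt hI (α + one3 - un i) = ∑ i, cnt hI (dual α + un i) :=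
    Finset.sum_congr rfl fun i _ => by rw [← cnt_neg hI (dual α + un i)]; congr 1; rw [dual]; abel
  have f2 : cnt hI (α + one3) = cnt hI (dual α) := by
    rw [← cnt_neg hI (dual α)]; congr 1; rw [dual]; abel
  rw [euler, f1, f2]
  simp only [cnt] at *
  omega

end Groth.Agent.L13.HilbPn
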