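import Groth.Agent.L13.HilbPn.MPow
import Mathlib.Data.Fin.Tuple.Basic

/-!
The dimensions of the pattern pieces at a power of the ideal of the variables.
-/

set_option autoImplicit false

universe u

namespace Groth.Agent.L13.HilbPn

open MvPolynomial W4c1hilbpn

/-- Two hockey sticks. -/
lemma hockey₁ (m : ℕ) : ∑ b ∈ Finset.range m, (m + 1 - b).choose 2 = (m + 2).choose 3 := by
  induction m with
  | zero => simp
  | succ m ih =>
    rw [Finset.sum_range_succ', show (m + 1 + 2).choose 3 = (m + 2).choose 2 + (m + 2).choose 3 from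
      Nat.choose_succ_succ' _ _, add_comm, ← ih]
    congr 1
    exact Finset.sum_congr rfl fun b _ => by congr 1; omega

lemma hockey₂ (r : ℕ) : ∑ a ∈ Finset.range r, (r - a + 2).choose 3 = (r + 3).choose 4 := by
  induction r with
  | zero => simp
  | succ r ih =>
    rw [Finset.sum_range_succ', show (r + 1 + 3).choose 4 = (r + 3).choose 3 + (r + 3).choose 4 from
      Nat.choose_succ_succ' _ _, add_comm, ← ih]
    congr 1
    exact Finset.sum_congr rfl fun b _ => by congr 1; omega

lemma choose_triangle (r : ℕ) : 3 * ((r + 3).choose 4 + (r + 2).choose 4) =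
    (r + 2).choose 2 * (r + 1).choose 2 := by
  induction r with
  | zero => simp [Nat.choose_eq_zero_of_lt]
  | succ r ih =>
    have h2 : ∀ m : ℕ, 2 * (m + 1).choose 2 = (m + 1) * m := fun m => by
      induction m with
      | zero => simp
      | succ m ih => rw [Nat.choose_succ_succ', Nat.choose_one_right]; ring_nf at ih ⊢; omega
    have h3 : ∀ m : ℕ, 6 * (m + 2).choose 3 = (m + 2) * (m + 1) * m := fun m => by
      induction m with
      | zero => simp
      | succ m ih =>
        rw [show (m + 1 + 2).choose 3 = (m + 2).choose 2 + (m + 2).choose 3 from Nat.choose_succ_succ' _ _]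
        nlinarith [h2 (m + 1)]
    rw [show (r + 1 + 3).choose 4 = (r + 3).choose 3 + (r + 3).choose 4 from Nat.choose_succ_succ' _ _,
      show (r + 1 + 2).choose 4 = (r + 2).choose 3 + (r + 2).choose 4 from Nat.choose_succ_succ' _ _]
    have hp : ∀ m : ℕ, 4 * ((m + 2).choose 2 * (m + 1).choose 2) = (m + 2) * (m + 1) * ((m + 1) * m) :=
      fun m => by rw [← h2 m, ← h2 (m + 1)]; ring
    have a := hp r; have b := hp (r + 1); have c := h3 r; have d := h3 (r + 1)
    simp only [add_assoc, Nat.reduceAdd] at a b c d ih ⊢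
    have hY : (r + 3).choose 4 = (r + 2).choose 3 + (r + 2).choose 4 := Nat.choose_succ_succ' _ _
    nlinarith [a, b, c, d, ih, hY]

variable {k : Type u} [Field k] (r : ℕ)

/-- The piece negative exactly at one variable. -/
theorem finrank_sig_mPow (i : Fin 3) :
    Module.finrank k ↥(sigPiece (mPow (n := 3) (k := k) r) ({i} : Set (Fin 3))) = (r + 3).choose 4 := by
  classical
  haveI := finite_mPow (n := 3) (k := k) r
  have hI := mPow_monomial (n := 3) (k := k) r
  rw [sigPiece, finrank_iSup hI fun α => ∀ l, α l < 0 ↔ l ∈ ({i} : Set (Fin 3))]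
  let f : ℕ × ℕ → Fin 3 → ℤ := fun p => i.insertNth (-((p.1 : ℤ) + p.2 + 1)) ![(p.1 : ℤ), (p.2 : ℤ)]
  let T : Finset (ℕ × ℕ) := (Finset.range r ×ˢ Finset.range r).filter fun p => p.1 + p.2 < r
  have hval : ∀ p ∈ T, Module.finrank k (tPiece (mPow (n := 3) (k := k) r) (f p)) =
      (r + 1 - p.1 - p.2).choose 2 := by
    intro p hp
    have := (Finset.mem_filter.mp hp).2
    have hs : ∑ l, f p l = -1 := by
      rw [Fin.sum_univ_succAbove _ i]; simp [f, Fin.sum_univ_two]; ring
    have hw : ∑ l, (-f p l).toNat = p.1 + p.2 + 1 := by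
      rw [Fin.sum_univ_succAbove _ i]; simp [f, Fin.sum_univ_two]; omega
    rw [finrank_tPiece_mPow r (by omega), hs, hw, if_pos ⟨rfl, by omega⟩]
    congr 1; omega
  have hsum : ∑ p ∈ T, (r + 1 - p.1 - p.2).choose 2 = (r + 3).choose 4 := by
    rw [Finset.sum_filter, Finset.sum_product, ← hockey₂ r]
    refine Finset.sum_congr rfl fun a ha => ?_
    rw [← Finset.sum_filter, show r - a + 2 = (r - a) + 2 from rfl, ← hockey₁ (r - a)]
    refine Finset.sum_congr (by ext b; simp; omega) fun b hb => ?_
    congr 1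
    have := Finset.mem_range.mp ha; have := Finset.mem_range.mp hb
    omega
  rw [← hsum]
  have hinj : Set.InjOn f T := fun p _ q _ h => by
    have h0 := congrFun h (i.succAbove 0); have h1 := congrFun h (i.succAbove 1)
    simp [f] at h0 h1
    exact Prod.ext h0 h1
  rw [← Finset.sum_congr rfl hval, ← Finset.sum_image (f := fun α => Module.finrank k (tPiece (mPow (n := 3) (k := k) r) α)) hinj]
  symm
  refine (Finset.sum_congr rfl fun _ _ => rfl).trans ((Finset.sum_subset_zero_on_sdiff (s₁ := T.image f)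
    (s₂ := T.image f ∪ (degs hI).filter fun α => ∀ l, α l < 0 ↔ l ∈ ({i} : Set (Fin 3)))
    Finset.subset_union_left ?_ (fun _ _ => rfl)).trans ?_)
  · intro α hα
    obtain ⟨hu, hn⟩ := Finset.mem_sdiff.mp hα
    have hf := (Finset.mem_filter.mp ((Finset.mem_union.mp hu).resolve_left hn)).2
    rw [finrank_tPiece_mPow r (by omega), if_neg]
    rintro ⟨h1, h2⟩
    refine hn (Finset.mem_image.mpr ⟨((α (i.succAbove 0)).toNat, (α (i.succAbove 1)).toNat), ?_, ?_⟩)
    all_goals
      have e0 : 0 ≤ α (i.succAbove 0) := not_lt.mp fun h => Fin.succAbove_ne i 0 ((hf _).mp h)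
      have e1 : 0 ≤ α (i.succAbove 1) := not_lt.mp fun h => Fin.succAbove_ne i 1 ((hf _).mp h)
      have ei : α i < 0 := (hf i).mpr rfl
      rw [Fin.sum_univ_succAbove _ i, Fin.sum_univ_two] at h1 h2
    · simp [T]; omega
    · funext l
      refine Fin.succAboveCases i ?_ ?_ l
      · simp [f, e0, e1]; omega
      · intro j; fin_cases j <;> simp [f, e0, e1]
  · symm
    refine Finset.sum_subset Finset.subset_union_right fun α hu hn => ?_
    have hmem := (Finset.mem_union.mp hu).resolve_right hn
    obtain ⟨p, hp, rfl⟩ := Finset.mem_image.mp hmem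
    have hpat : ∀ l, f p l < 0 ↔ l ∈ ({i} : Set (Fin 3)) := by
      intro l
      refine Fin.succAboveCases i ?_ ?_ l
      · simp [f]; omega
      · intro j; fin_cases j <;> simp [f, Fin.succAbove_ne i]
    have : Sol (mPow (n := 3) (k := k) r) (f p) = ⊥ := by
      by_contra h
      exact hn (Finset.mem_filter.mpr ⟨(mem_degs hI).mpr h, hpat⟩)
    rw [mk_zero_of_eq_bot hI this, finrank_bot]

theorem finrank_all_mPow (i : Fin 3) :
    Module.finrank k ↥(sigPiece (mPow (n := 3) (k := k) r) ({i} : Set (Fin 3))) = (r + 3).choose 4 ∧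
      Module.finrank k ↥(sigPiece (mPow (n := 3) (k := k) r) ({i}ᶜ : Set (Fin 3))) = (r + 2).choose 4 ∧
        Module.finrank k (Tgt (mPow (n := 3) (k := k) r)) = (r + 2).choose 2 * (r + 1).choose 2 := by
  haveI := finite_mPow (n := 3) (k := k) r
  have hI := mPow_monomial (n := 3) (k := k) r
  have hc : ∀ i, Module.finrank k ↥(sigPiece (mPow (n := 3) (k := k) r) ({i}ᶜ : Set (Fin 3))) =
      (r + 2).choose 4 := fun i => by
    have := finrank_sig hI i
    rw [finrank_sig_mPow, finrank_quot_mPow r (by omega),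
      show (r + 3).choose 4 = (r + 2).choose 3 + (r + 2).choose 4 from Nat.choose_succ_succ' _ _,
      show 3 + r - 1 = r + 2 by omega] at this
    omega
  refine ⟨finrank_sig_mPow r i, hc i, ?_⟩
  rw [finrank_tgt_eq hI, Fin.sum_univ_three]
  simp only [finrank_sig_mPow, hc, ← choose_triangle]
  ring

end Groth.Agent.L13.HilbPn
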