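import Groth.Agent.L13.HilbPn.SliceSum

/-!
Bounds for the pattern pieces of a strongly stable ideal.
-/

set_option autoImplicit false

universe u

namespace Groth.Agent.L13.HilbPn

open MvPolynomial W4c1hilbpn

variable {k : Type u} [Field k]

lemma sum_parts (f : ℕ → ℕ) (hf : ∀ j, f (j + 1) ≤ f j) (R : ℕ) :
    ∑ j ∈ Finset.range R, (j + 1) * (f j - f (j + 1)) + R * f R = ∑ j ∈ Finset.range R, f j := by
  induction R with
  | zero => simp
  | succ R ih =>
    rw [Finset.sum_range_succ, Finset.sum_range_succ, ← ih]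
    obtain ⟨d, hd⟩ := Nat.exists_eq_add_of_le (hf R)
    rw [hd, Nat.add_sub_cancel_left]; ring

section weight

variable {J : Ideal (MvPolynomial (Fin 3) k)} (hJ : IsMonomial J)
  [Module.Finite k (MvPolynomial (Fin 3) k ⧸ J)]

/-- The weighted number of standard monomials. -/
noncomputable def wt : ℕ := ∑ γ ∈ pts hJ, ((γ 0).toNat + 1)

include hJ in
lemma stair_anti (i j : ℕ) :
    stairZ J (i + 1) j ≤ stairZ J i j ∧ stairZ J i (j + 1) ≤ stairZ J i j := by
  constructor <;>
  · by_contra hlt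
    exact (not_exps_iff_lt hJ _ _ _).mpr (not_le.mp hlt)
      (exps_upper J (fun l => by fin_cases l <;> simp [e3])
        (not_not.mp fun h => lt_irrefl _ ((not_exps_iff_lt hJ i j _).mp h)))

include hJ in
lemma exists_bound_stair : ∃ R, ∀ i j, R ≤ i ∨ R ≤ j → stairZ J i j = 0 := by
  obtain ⟨C, hC, -, hpts, -⟩ := exists_bound hJ
  refine ⟨C.toNat, fun i j h => ?_⟩
  by_contra hne
  have hg : Good J ![(i : ℤ), j, 0] := (good_iff_lt hJ).mpr
    ⟨fun l => by fin_cases l <;> simp, by simp; omega⟩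
  have h0 := hpts _ ((mem_pts hJ).mpr hg) 0
  have h1 := hpts _ ((mem_pts hJ).mpr hg) 1
  simp at h0 h1
  omega

lemma wt_eq {R : ℕ} (hR : ∀ i j, R ≤ i ∨ R ≤ j → stairZ J i j = 0) :
    wt hJ = ∑ i ∈ Finset.range R, (i + 1) * ∑ j ∈ Finset.range R, stairZ J i j := by
  classical
  have e : ∑ i ∈ Finset.range R, (i + 1) * ∑ j ∈ Finset.range R, stairZ J i j =
      ∑ q ∈ (Finset.range R ×ˢ Finset.range R).sigma (fun p => Finset.range (stairZ J p.1 p.2)),
        (q.1.1 + 1) := by
    rw [Finset.sum_sigma, Finset.sum_product]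
    refine Finset.sum_congr rfl fun i _ => ?_
    rw [Finset.mul_sum]
    exact Finset.sum_congr rfl fun j _ => by simp [mul_comm]
  rw [e, wt]
  refine Finset.sum_nbij' (fun γ => ⟨((γ 0).toNat, (γ 1).toNat), (γ 2).toNat⟩)
    (fun q => ![(q.1.1 : ℤ), q.1.2, q.2]) ?_ ?_ ?_ ?_ ?_
  · intro γ hγ
    obtain ⟨hn, hlt⟩ := (good_iff_lt hJ).mp ((mem_pts hJ).mp hγ)
    have := hn 2
    simp only [Finset.mem_coe, Finset.mem_sigma, Finset.mem_product, Finset.mem_range]
    refine ⟨⟨?_, ?_⟩, by omega⟩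
    · by_contra h; rw [hR _ _ (Or.inl (not_lt.mp h))] at hlt; simp at hlt; omega
    · by_contra h; rw [hR _ _ (Or.inr (not_lt.mp h))] at hlt; simp at hlt; omega
  · intro q hq
    simp only [Finset.mem_coe, Finset.mem_sigma, Finset.mem_range] at hq
    exact (mem_pts hJ).mpr ((good_iff_lt hJ).mpr
      ⟨fun l => by fin_cases l <;> simp, by simp; exact hq.2⟩)
  · intro γ hγ
    have hn := pts_nonneg hJ hγ
    funext l; fin_cases l <;> simp [hn]
  · intro q _; simp
  · intro γ _; simp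

include hJ in
/-- The bound when the second neighbour dominates. -/
theorem sum_pieces_le (hdom : ∀ i j, stairZ J (i + 1) j ≤ stairZ J i (j + 1))
    (D : Finset (Fin 3 → ℤ)) (hD : ∀ α ∈ D, 0 ≤ α 0 ∧ 0 ≤ α 1 ∧ α 2 < 0) :
    ∑ α ∈ D, Module.finrank k (tPiece J α) ≤ wt hJ := by
  classical
  obtain ⟨R, hR⟩ := exists_bound_stair hJ
  let P := Finset.range R ×ˢ Finset.range R
  let rel : (Fin 3 → ℤ) → ℕ × ℕ → Prop := fun α p =>
    ((α 0).toNat ≤ p.1 ∧ (α 1).toNat ≤ p.2) ∧
      (nb J p : ℤ) ≤ low (α 0).toNat (α 1).toNat J (α 2) p ∧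
        low (α 0).toNat (α 1).toNat J (α 2) p < stairZ J p.1 p.2
  calc ∑ α ∈ D, Module.finrank k (tPiece J α)
      ≤ ∑ α ∈ D, (P.filter (rel α)).card := Finset.sum_le_sum fun α hα => by
        obtain ⟨h0, h1, h2⟩ := hD α hα
        refine (finrank_le_corners hJ (α 0).toNat (α 1).toNat (α := α) (by omega) (by omega)).trans
          (Finset.card_le_card fun p hp => ?_)
        obtain ⟨hp, hr⟩ := Finset.mem_filter.mp hp
        obtain ⟨hp, hle⟩ := Finset.mem_filter.mp hp
        refine Finset.mem_filter.mpr ⟨Finset.mem_product.mpr ⟨?_, ?_⟩, hle, hr⟩ <;>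
        · rw [Finset.mem_range]
          by_contra h
          have := hR p.1 p.2 (by omega)
          have := hr.1; have := hr.2
          omega
    _ = ∑ p ∈ P, (D.filter fun α => rel α p).card := by
        simp_rw [Finset.card_filter]; exact Finset.sum_comm
    _ ≤ ∑ p ∈ P, (p.1 + 1) * ((p.2 + 1) * (stairZ J p.1 p.2 - nb J p)) := Finset.sum_le_sum fun p _ => by
        refine (Finset.card_le_card_of_injOn
          (t := Finset.range (p.1 + 1) ×ˢ (Finset.range (p.2 + 1) ×ˢ
            Finset.Ico (nb J p : ℤ) (stairZ J p.1 p.2)))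
          (fun α => ((α 0).toNat, (α 1).toNat, low (α 0).toNat (α 1).toNat J (α 2) p)) (fun α hα => ?_)
          fun α hα β hβ e => ?_).trans (by simp)
        · obtain ⟨⟨a, b⟩, c⟩ := (Finset.mem_filter.mp hα).2
          simp only [Finset.mem_coe, Finset.mem_product, Finset.mem_range, Finset.mem_Ico]
          exact ⟨by omega, by omega, c⟩
        · obtain ⟨a0, a1, -⟩ := hD α (Finset.mem_filter.mp hα).1
          obtain ⟨b0, b1, -⟩ := hD β (Finset.mem_filter.mp hβ).1
          simp only [Prod.mk.injEq] at e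
          obtain ⟨e0, e1, e2⟩ := e
          rw [e0, e1] at e2
          simp [low] at e2
          funext l; fin_cases l <;> simp <;> omega
    _ = ∑ i ∈ Finset.range R, (i + 1) * ∑ j ∈ Finset.range R, stairZ J i j := by
        rw [Finset.sum_product]
        refine Finset.sum_congr rfl fun i _ => ?_
        dsimp only
        rw [← Finset.mul_sum, ← sum_parts _ (fun j => (stair_anti hJ i j).2) R, hR i R (Or.inr le_rfl)]
        simp [nb, max_eq_right (hdom i _)]
    _ = wt hJ := (wt_eq hJ hR).symm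

end weight

lemma sum_tails (f : ℕ → ℕ) (R : ℕ) :
    ∑ i ∈ Finset.range R, (i + 1) * f i = ∑ j ∈ Finset.range R, ∑ i ∈ Finset.Ico j R, f i := by
  rw [Finset.sum_comm' (s' := fun i => Finset.range (i + 1)) (t' := Finset.range R)]
  · simp
  · intro j i; simp only [Finset.mem_range, Finset.mem_Ico]; omega

section stable

variable {I : Ideal (MvPolynomial (Fin 3) k)} [Module.Finite k (MvPolynomial (Fin 3) k ⧸ I)] (r : ℕ)

lemma tails_tri (R : ℕ) (h : r ≤ R) :
    ∑ j ∈ Finset.range R, ∑ i ∈ Finset.Ico j R, (r - i + 1).choose 2 = (r + 3).choose 4 := by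
  rw [← hockey₂ r, ← Finset.sum_range_add_sum_Ico _ h]
  rw [Finset.sum_eq_zero (s := Finset.Ico r R) fun j hj => Finset.sum_eq_zero fun i hi => by
    rw [show r - i = 0 by
      have := (Finset.mem_Ico.mp hi).1; have := (Finset.mem_Ico.mp hj).1; omega]; rfl, add_zero]
  refine Finset.sum_congr rfl fun j hj => ?_
  rw [Finset.sum_Ico_eq_sum_range, show (r - j + 2).choose 3 = ((r - j) + 2).choose 3 from rfl,
    ← sum_tri_eq (r - j) (R - j) (by omega)]
  exact Finset.sum_congr rfl fun i _ => by congr 1; omega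

theorem wt_le (hs : IsStronglyStable I)
    (hd : Module.finrank k (MvPolynomial (Fin 3) k ⧸ I) ≤ (r + 2).choose 3) :
    wt hs.1 ≤ (r + 3).choose 4 ∧ (wt hs.1 = (r + 3).choose 4 → I = mPow (n := 3) (k := k) r) := by
  obtain ⟨R₀, hR₀⟩ := exists_bound_stair hs.1
  set R := R₀ + r
  have hR : ∀ i j, R ≤ i ∨ R ≤ j → stairZ I i j = 0 := fun i j h => hR₀ i j (by omega)
  have hdd : ∀ i, ∑ j ∈ Finset.range R, stairZ I i j = dd I i := fun i => by
    rw [dd_eq hs i (le_max_left (stairZ I i 0) R)]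
    exact Finset.sum_subset (Finset.range_mono (le_max_right _ R)) fun j _ hn =>
      hR i j (Or.inr (not_lt.mp fun h => hn (Finset.mem_range.mpr h)))
  have e : wt hs.1 = ∑ j ∈ Finset.range R, ∑ i ∈ Finset.Ico j R, dd I i := by
    rw [wt_eq hs.1 hR, ← sum_tails]
    exact Finset.sum_congr rfl fun i _ => by rw [hdd]
  have hle : ∀ j ∈ Finset.range R, ∑ i ∈ Finset.Ico j R, dd I i ≤
      ∑ i ∈ Finset.Ico j R, (r - i + 1).choose 2 := fun j hj =>
    tail_bound r hs hd (Finset.mem_range.mp hj).le (by omega)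
  rw [e, ← tails_tri r R (by omega)]
  refine ⟨Finset.sum_le_sum hle, fun h => eq_mPow_of_dd r hs hd fun i hi => ?_⟩
  have heq := (Finset.sum_eq_sum_iff_of_le hle).mp h
  have hiR : i < R := by omega
  have h1 := heq i (Finset.mem_range.mpr hiR)
  rw [Finset.sum_eq_sum_Ico_succ_bot hiR, Finset.sum_eq_sum_Ico_succ_bot hiR] at h1
  rcases eq_or_lt_of_le (Nat.succ_le_of_lt hiR) with e | hlt
  · rw [show i + 1 = R from e] at h1; simpa using h1
  · have h2 := heq (i + 1) (Finset.mem_range.mpr hlt); omega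

end stable

end Groth.Agent.L13.HilbPn
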