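import Groth.Agent.L13.HilbPn.MPowSig
import Groth.Agent.L13.HilbPn.Slice

/-!
Colengths of the slices of a strongly stable ideal.
-/

set_option autoImplicit false

universe u

namespace Groth.Agent.L13.HilbPn

open MvPolynomial W4c1hilbpn

lemma tri_sum (s : ℕ) : ∑ j ∈ Finset.range s, (s - j) = (s + 1).choose 2 := by
  induction s with
  | zero => simp
  | succ s ih =>
    rw [Finset.sum_range_succ', Nat.choose_succ_succ', Nat.choose_one_right, ← ih, add_comm]
    simp

lemma sum_tri_le (r M : ℕ) : ∑ i ∈ Finset.range M, (r - i + 1).choose 2 ≤ (r + 2).choose 3 := by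
  rcases le_total M r with h | h
  · rw [← hockey₁ r]
    refine le_trans (le_of_eq (Finset.sum_congr rfl fun i hi => ?_))
      (Finset.sum_le_sum_of_subset (Finset.range_mono h))
    congr 1; have := Finset.mem_range.mp hi; omega
  · rw [← Finset.sum_range_add_sum_Ico _ h, ← hockey₁ r]
    refine le_of_eq ?_
    rw [Finset.sum_eq_zero (s := Finset.Ico r M) fun i hi => ?_, add_zero]
    · exact Finset.sum_congr rfl fun i hi => by
        congr 1; have := Finset.mem_range.mp hi; omega
    · rw [show r - i = 0 by have := (Finset.mem_Ico.mp hi).1; omega]; rfl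

lemma sum_tri_eq (r M : ℕ) (h : r ≤ M) :
    ∑ i ∈ Finset.range M, (r - i + 1).choose 2 = (r + 2).choose 3 := by
  refine le_antisymm (sum_tri_le r M) ?_
  rw [← hockey₁ r]
  refine le_trans (le_of_eq (Finset.sum_congr rfl fun i hi => ?_))
    (Finset.sum_le_sum_of_subset (Finset.range_mono h))
  congr 1; have := Finset.mem_range.mp hi; omega

variable {k : Type u} [Field k] {I : Ideal (MvPolynomial (Fin 3) k)}
  [Module.Finite k (MvPolynomial (Fin 3) k ⧸ I)]

lemma stair_down (hs : IsStronglyStable I) (i j : ℕ) :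
    stairZ I i (j + 1) ≤ stairZ I i j - 1 := by
  by_contra hlt
  obtain ⟨c, hc⟩ : ∃ c, stairZ I i (j + 1) = c + 1 := ⟨stairZ I i (j + 1) - 1, by omega⟩
  refine (not_exps_iff_lt hs.1 i (j + 1) c).mpr (by omega) (e3_shift12 hs ?_)
  exact not_not.mp fun h => by have := (not_exps_iff_lt hs.1 i j _).mp h; omega

lemma stair_le_sub (hs : IsStronglyStable I) (i j : ℕ) : stairZ I i j ≤ stairZ I i 0 - j := by
  induction j with
  | zero => simp
  | succ j ih => have := stair_down hs i j; omega

/-- The standard monomials of a slice. -/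
lemma good_slice_iff (hs : IsStronglyStable I) (i : ℕ) {γ : Fin 2 → ℤ} :
    Good (sliceX I i) γ ↔ (∀ l, 0 ≤ γ l) ∧ (γ 1).toNat < stairZ I i (γ 0).toNat := by
  refine and_congr_right fun _ => ?_
  rw [exps_sliceX hs.1, lift2, toN, ← not_exps_iff_lt hs.1]
  simp

lemma slice_card (hs : IsStronglyStable I) (i : ℕ) :
    Module.Finite k (MvPolynomial (Fin 2) k ⧸ sliceX I i) ∧
      Module.finrank k (MvPolynomial (Fin 2) k ⧸ sliceX I i) =
        ∑ j ∈ Finset.range (stairZ I i 0), stairZ I i j := by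
  classical
  let F : Finset (Σ _ : ℕ, ℕ) := (Finset.range (stairZ I i 0)).sigma fun j => Finset.range (stairZ I i j)
  let e : {γ : Fin 2 → ℤ // Good (sliceX I i) γ} ≃ ↥F :=
    { toFun := fun γ => ⟨⟨(γ.1 0).toNat, (γ.1 1).toNat⟩, by
        have h := ((good_slice_iff hs i).mp γ.2).2
        have := stair_le_sub hs i (γ.1 0).toNat
        simp only [F, Finset.mem_sigma, Finset.mem_range]
        omega⟩
      invFun := fun p => ⟨![(p.1.1 : ℤ), p.1.2], (good_slice_iff hs i).mpr
        ⟨fun l => by fin_cases l <;> simp, by simpa using (Finset.mem_range.mp (Finset.mem_sigma.mp p.2).2)⟩⟩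
      left_inv := fun γ => Subtype.ext (funext fun l => by
        fin_cases l <;> simp [((good_slice_iff hs i).mp γ.2).1])
      right_inv := fun p => by simp }
  have hfin : {γ : Fin 2 → ℤ | Good (sliceX I i) γ}.Finite :=
    @Set.toFinite _ _ (Finite.of_equiv _ e.symm)
  haveI := finite_quot_of_finite_good hfin
  refine ⟨inferInstance, ?_⟩
  rw [finrank_quot_eq_card (slice_stable hs i).1.1, Nat.card_congr e, Nat.card_eq_fintype_card,
    Fintype.card_coe, Finset.card_sigma]
  simp

/-- The colength of a slice. -/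
noncomputable def dd (I : Ideal (MvPolynomial (Fin 3) k)) (i : ℕ) : ℕ :=
  Module.finrank k (MvPolynomial (Fin 2) k ⧸ sliceX I i)

lemma dd_eq (hs : IsStronglyStable I) (i : ℕ) {M : ℕ} (hM : stairZ I i 0 ≤ M) :
    dd I i = ∑ j ∈ Finset.range M, stairZ I i j := by
  rw [dd, (slice_card hs i).2]
  refine Finset.sum_subset (Finset.range_mono hM) fun j _ hn => ?_
  rw [Finset.mem_range, not_lt] at hn
  have := stair_le_sub hs i j; omega

lemma dd_le_choose (hs : IsStronglyStable I) (i : ℕ) : dd I i ≤ (stairZ I i 0 + 1).choose 2 := by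
  rw [dd_eq hs i le_rfl, ← tri_sum]
  exact Finset.sum_le_sum fun j _ => stair_le_sub hs i j

lemma dd_succ_le (hs : IsStronglyStable I) (i : ℕ) : dd I (i + 1) + stairZ I i 0 ≤ dd I i := by
  have h0 : stairZ I (i + 1) 0 ≤ stairZ I i 0 := by
    have := (stair_succ_le hs i 0).1; have := stair_down hs i 0; omega
  rw [dd_eq hs (i + 1) h0, dd_eq hs i (Nat.le_succ (stairZ I i 0)), Finset.sum_range_succ']
  exact Nat.add_le_add_right (Finset.sum_le_sum fun j _ => (stair_succ_le hs i j).1) _

lemma dd_step (hs : IsStronglyStable I) (i s : ℕ) (h : dd I i ≤ (s + 1).choose 2) :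
    dd I (i + 1) ≤ s.choose 2 := by
  have h1 := dd_succ_le hs i
  have h2 := dd_le_choose hs i
  have e : ∀ m : ℕ, (m + 1).choose 2 = m + m.choose 2 := fun m => by
    rw [Nat.choose_succ_succ', Nat.choose_one_right]
  rcases le_or_gt s (stairZ I i 0) with hb | hb
  · rw [e] at h; omega
  · rw [e] at h2
    have : (stairZ I i 0).choose 2 ≤ s.choose 2 := Nat.choose_le_choose 2 hb.le
    omega

lemma dd_tail_le (hs : IsStronglyStable I) (r j : ℕ) (h : dd I j ≤ (r - j + 1).choose 2) :
    ∀ i, j ≤ i → dd I i ≤ (r - i + 1).choose 2 := by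
  intro i hi
  induction i, hi using Nat.le_induction with
  | base => exact h
  | succ i _ ih =>
    refine (dd_step hs i (r - i) ih).trans (Nat.choose_le_choose 2 ?_)
    omega

lemma sum_dd_le (hs : IsStronglyStable I) (M : ℕ) :
    ∑ i ∈ Finset.range M, dd I i ≤ Module.finrank k (MvPolynomial (Fin 3) k ⧸ I) := by
  classical
  rw [finrank_quot hs.1]
  refine le_trans (le_of_eq (Finset.sum_congr rfl fun i _ => ?_))
    ((Finset.sum_card_fiberwise_eq_card_filter (pts hs.1) (Finset.range M)
      (fun γ => (γ 0).toNat)).le.trans (Finset.card_filter_le _ _))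
  rw [dd, (slice_card hs i).2]
  symm
  refine (Finset.card_bij (t := (Finset.range (stairZ I i 0)).sigma fun j => Finset.range (stairZ I i j))
    (fun γ _ => ⟨(γ 1).toNat, (γ 2).toNat⟩) ?_ ?_ ?_).trans (by simp [Finset.card_sigma])
  · intro γ hγ
    obtain ⟨hp, h0⟩ := Finset.mem_filter.mp hγ
    obtain ⟨hn, hlt⟩ := (good_iff_lt hs.1).mp ((mem_pts hs.1).mp hp)
    rw [h0] at hlt
    have := stair_le_sub hs i (γ 1).toNat
    have := hn 2
    simp only [Finset.mem_sigma, Finset.mem_range]
    omega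
  · intro γ hγ δ hδ e
    obtain ⟨hp, h0⟩ := Finset.mem_filter.mp hγ
    obtain ⟨hp', h0'⟩ := Finset.mem_filter.mp hδ
    simp only [Sigma.mk.injEq, heq_eq_eq] at e
    have a := pts_nonneg hs.1 hp; have b := pts_nonneg hs.1 hp'
    funext l
    fin_cases l
    · have := a 0; have := b 0; simp; omega
    · have := a 1; have := b 1; simp; omega
    · have := a 2; have := b 2; simp; omega
  · intro p hp
    simp only [Finset.mem_sigma, Finset.mem_range] at hp
    refine ⟨![(i : ℤ), p.1, p.2], Finset.mem_filter.mpr ⟨(mem_pts hs.1).mpr ((good_iff_lt hs.1).mpr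
      ⟨fun l => by fin_cases l <;> simp, by simp; exact hp.2⟩), by simp⟩, by simp⟩

variable (r : ℕ)

/-- The tail bound. -/
lemma tail_bound (hs : IsStronglyStable I)
    (hd : Module.finrank k (MvPolynomial (Fin 3) k ⧸ I) ≤ (r + 2).choose 3) {j M : ℕ} (hjM : j ≤ M)
    (hM : r ≤ M) :
    ∑ i ∈ Finset.Ico j M, dd I i ≤ ∑ i ∈ Finset.Ico j M, (r - i + 1).choose 2 := by
  rcases le_or_gt (dd I j) ((r - j + 1).choose 2) with h | h
  · exact Finset.sum_le_sum fun i hi => dd_tail_le hs r j h i (Finset.mem_Ico.mp hi).1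
  · have hlo : ∑ i ∈ Finset.range j, (r - i + 1).choose 2 ≤ ∑ i ∈ Finset.range j, dd I i :=
      Finset.sum_le_sum fun i hi => by
        by_contra hlt
        exact h.not_ge (dd_tail_le hs r i (not_le.mp hlt).le j (Finset.mem_range.mp hi).le)
    have h1 := (sum_dd_le hs M).trans hd
    rw [← sum_tri_eq r M hM, ← Finset.sum_range_add_sum_Ico _ hjM,
      ← Finset.sum_range_add_sum_Ico (fun i => (r - i + 1).choose 2) hjM] at h1
    omega

lemma dd_eq_zero (hs : IsStronglyStable I)
    (hd : Module.finrank k (MvPolynomial (Fin 3) k ⧸ I) ≤ (r + 2).choose 3) {i : ℕ} (hi : r ≤ i) :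
    dd I i = 0 := by
  have := tail_bound r hs hd (Nat.le_succ i) (by omega : r ≤ i + 1)
  simp [show r - i = 0 by omega] at this
  exact this

theorem eq_mPow_of_dd (hs : IsStronglyStable I)
    (hd : Module.finrank k (MvPolynomial (Fin 3) k ⧸ I) ≤ (r + 2).choose 3)
    (h : ∀ i < r, dd I i = (r - i + 1).choose 2) : I = mPow (n := 3) (k := k) r := by
  have hT : ∀ i, dd I i = (r - i + 1).choose 2 := fun i => by
    rcases lt_or_ge i r with hi | hi
    · exact h i hi
    · rw [dd_eq_zero r hs hd hi, show r - i = 0 by omega]; rfl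
  have e : ∀ m : ℕ, (m + 1).choose 2 = m + m.choose 2 := fun m => by
    rw [Nat.choose_succ_succ', Nat.choose_one_right]
  have hb : ∀ i, stairZ I i 0 = r - i := fun i => by
    rcases Nat.eq_zero_or_pos (r - i) with h0 | h0
    · have h1 := hT i; rw [h0, dd_eq hs i le_rfl] at h1
      rw [h0]
      by_contra hne
      exact hne ((Finset.sum_eq_zero_iff.mp h1) 0 (Finset.mem_range.mpr (by omega)))
    · have h1 := dd_succ_le hs i
      have h2 := dd_le_choose hs i
      rw [hT (i + 1), hT i, show r - (i + 1) + 1 = r - i by omega, e (r - i)] at h1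
      rw [hT i] at h2
      by_contra hne
      have hlt : stairZ I i 0 + 1 ≤ r - i := by omega
      have := Nat.choose_le_choose 2 hlt
      rw [e (r - i)] at h2
      omega
  have hst : ∀ i j, stairZ I i j = r - i - j := fun i j => by
    have hle := fun j => (stair_le_sub hs i j).trans_eq (by rw [hb])
    rcases lt_or_ge j (r - i) with hj | hj
    · refine (Finset.sum_eq_sum_iff_of_le fun j _ => hle j).mp ?_ j (Finset.mem_range.mpr hj)
      rw [tri_sum, ← dd_eq hs i (hb i).le, hT]
    · have := hle j; omega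
  have hex : ∀ β : Fin 3 →₀ ℕ, β ∈ exps I ↔ β ∈ exps (mPow (n := 3) (k := k) r) := fun β => by
    have hβ : β = e3 (β 0) (β 1) (β 2) := by ext l; fin_cases l <;> simp [e3]
    rw [exps_mPow, Fin.sum_univ_three]
    have := not_exps_iff_lt hs.1 (β 0) (β 1) (β 2)
    rw [hst, ← hβ] at this
    rw [← not_iff_not, this]
    omega
  ext p
  rw [mem_iff_exps hs.1, mem_iff_exps (mPow_monomial r)]
  exact forall₂_congr fun β _ => hex β

theorem slice_sum (hs : IsStronglyStable I)
    (hd : Module.finrank k (MvPolynomial (Fin 3) k ⧸ I) ≤ (r + 2).choose 3) :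
    (∀ j, j ≤ r → ∑ i ∈ Finset.Ico j r, dd I i ≤ ∑ i ∈ Finset.Ico j r, (r - i + 1).choose 2) ∧
    ((∀ j, j < r → ∑ i ∈ Finset.Ico j r, dd I i = ∑ i ∈ Finset.Ico j r, (r - i + 1).choose 2) →
      I = mPow (n := 3) (k := k) r) := by
  refine ⟨fun j hj => tail_bound r hs hd hj le_rfl, fun h => eq_mPow_of_dd r hs hd fun i hi => ?_⟩
  have h1 := h i hi
  rw [Finset.sum_eq_sum_Ico_succ_bot hi, Finset.sum_eq_sum_Ico_succ_bot hi] at h1
  rcases eq_or_lt_of_le (Nat.succ_le_of_lt hi) with e | hlt
  · rw [show i + 1 = r from e] at h1; simpa using h1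
  · have h2 := h (i + 1) hlt; omega

end Groth.Agent.L13.HilbPn
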