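import Groth.Agent.L13.HilbPn.Count

/-!
The graded pieces in the two constant sign patterns vanish, and parity of the tangent dimension.
-/

set_option autoImplicit false

universe u

namespace Groth.Agent.L13.HilbPn

open MvPolynomial W4c1hilbpn

section general

variable {σ : Type} [Finite σ] [DecidableEq σ] {k : Type u} [Field k]
  {I : Ideal (MvPolynomial σ k)} (hI : IsMonomial I) [Module.Finite k (MvPolynomial σ k ⧸ I)]

omit [DecidableEq σ] in
lemma not_good_of_src_of_nonneg {α γ : σ → ℤ} (hα : ∀ i, 0 ≤ α i) (h : Src I α γ) : ¬ Good I γ :=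
  fun hg => hg.2 (exps_upper I (fun i => by
    have := h.1 i; have := hα i; simp; omega) h.2)

include hI in
lemma Sol_eq_bot_of_neg [Nontrivial σ] {α : σ → ℤ} (hα : ∀ i, α i < 0) : Sol I α = ⊥ := by
  classical
  rw [Submodule.eq_bot_iff]
  intro c hc
  by_contra h0
  obtain ⟨t, s, hts⟩ := exists_pair_ne σ
  let S : Finset (σ → ℤ) := (finite_good hI).toFinset.filter fun γ => c γ ≠ 0
  have hS : ∀ γ, c γ ≠ 0 → γ ∈ S := fun γ h => by
    refine Finset.mem_filter.mpr ⟨(Set.Finite.mem_toFinset _).mpr ?_, h⟩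
    by_contra hg
    exact h (hc.1 γ fun hh => hg hh.2)
  obtain ⟨γ, hγ⟩ := Function.ne_iff.mp h0
  obtain ⟨γ₀, hγ₀, hmin⟩ := S.exists_min_image (fun γ => γ t) ⟨γ, hS γ hγ⟩
  let T : Finset (σ → ℤ) := S.filter fun γ => γ t = γ₀ t
  obtain ⟨γ, hγ, hmax⟩ := T.exists_max_image (fun γ => γ s) ⟨γ₀, Finset.mem_filter.mpr ⟨hγ₀, rfl⟩⟩
  obtain ⟨hγS, hγt⟩ := Finset.mem_filter.mp hγ
  have hne : c γ ≠ 0 := (Finset.mem_filter.mp hγS).2
  obtain ⟨hsrc, hgood⟩ : Src I α γ ∧ Good I γ := by_contra fun h => hne (hc.1 γ h)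
  have hnot : ¬ Good I (γ + Pi.single s 1) := fun hg => by
    have hm := hmax (γ + Pi.single s 1) (Finset.mem_filter.mpr
      ⟨hS _ (by rw [hc.2 γ s hsrc hg]; exact hne), by simp [hts, hγt]⟩)
    simp at hm
  have hnn : ∀ i, 0 ≤ (γ + Pi.single s 1 : σ → ℤ) i := fun i => by
    have := hgood.1 i
    simp only [Pi.add_apply, Pi.single_apply]; split_ifs <;> omega
  have hex : toN (γ + Pi.single s 1) ∈ exps I := by_contra fun h => hnot ⟨hnn, h⟩
  let δ : σ → ℤ := γ + Pi.single s 1 + α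
  have hsδ : Src I α δ := by
    have := src_cast I (α := α) hex
    rwa [cast_toN hnn] at this
  have hle : ∀ i, δ i ≤ γ i := fun i => by
    have := hα i
    simp only [δ, Pi.add_apply, Pi.single_apply]; split_ifs <;> omega
  have hγδ : γ = δ + cast (toN (γ - δ)) := by
    rw [cast_toN (fun i => by have := hle i; simp; omega)]; simp
  have hcδ : c δ ≠ 0 := by
    have := Sol.translate I hc hsδ (toN (γ - δ)) (hγδ ▸ hgood)
    rw [← hγδ] at this
    exact this ▸ hne
  have := hmin δ (hS δ hcδ)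
  have hlt : δ t < γ t := by simp [δ, hts, hα t]
  omega

include hI in
theorem tPiece_eq_bot [Nontrivial σ] {α : σ → ℤ} (hα : (∀ i, 0 ≤ α i) ∨ ∀ i, α i < 0) :
    tPiece I α = ⊥ := by
  refine mk_zero_of_eq_bot hI ?_
  rcases hα with h | h
  · rw [Submodule.eq_bot_iff]
    intro c hc
    funext γ
    exact hc.1 γ fun hh => not_good_of_src_of_nonneg h hh.1 hh.2
  · exact Sol_eq_bot_of_neg hI h

include hI in
theorem iSup_sigPiece_eq_top [Nontrivial σ] :
    (⨆ N : {N : Set σ // N.Nonempty ∧ N ≠ Set.univ}, sigPiece I N.1) = ⊤ := by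
  rw [eq_top_iff, ← iSup_eq_top hI]
  refine iSup_le fun α => ?_
  by_cases h : ({i | α i < 0} : Set σ).Nonempty ∧ ({i | α i < 0} : Set σ) ≠ Set.univ
  · refine le_iSup_of_le ⟨_, h⟩ ?_
    exact le_iSup (fun a : {β : σ → ℤ // ∀ i, β i < 0 ↔ i ∈ ({i | α i < 0} : Set σ)} => tPiece I a.1)
      ⟨α, fun _ => Iff.rfl⟩
  · rw [tPiece_eq_bot hI]
    · exact bot_le
    rw [not_and_or, not_not, Set.not_nonempty_iff_eq_empty, Set.eq_empty_iff_forall_notMem,
      Set.eq_univ_iff_forall] at h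
    exact h.imp (fun h i => not_lt.mp (h i)) id

end general

section three

variable {k : Type u} [Field k] {I : Ideal (MvPolynomial (Fin 3) k)} (hI : IsMonomial I)
  [Module.Finite k (MvPolynomial (Fin 3) k ⧸ I)]

include hI in
lemma finrank_tgt_eq :
    Module.finrank k (Tgt I) = ∑ i : Fin 3, (Module.finrank k ↥(sigPiece I ({i} : Set (Fin 3))) +
      Module.finrank k ↥(sigPiece I ({i}ᶜ : Set (Fin 3)))) := by
  classical
  have htop : (⨆ α : {α : Fin 3 → ℤ // True}, tPiece I α.1) = ⊤ := by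
    rw [eq_top_iff, ← iSup_eq_top hI]
    exact iSup_le fun α => le_iSup (fun a : {α : Fin 3 → ℤ // True} => tPiece I a.1) ⟨α, trivial⟩
  rw [← finrank_top k (Tgt I), ← htop, finrank_iSup hI fun _ => True, Finset.filter_true]
  have e : ∀ N : Set (Fin 3), Module.finrank k ↥(sigPiece I N) =
      ∑ α ∈ degs hI, if (∀ i, α i < 0 ↔ i ∈ N) then Module.finrank k (tPiece I α) else 0 := fun N =>
    (finrank_iSup hI fun α => ∀ i, α i < 0 ↔ i ∈ N).trans (Finset.sum_filter _ _)
  simp_rw [e, ← Finset.sum_add_distrib]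
  rw [Finset.sum_comm]
  refine Finset.sum_congr rfl fun α _ => ?_
  by_cases h : (∀ i, 0 ≤ α i) ∨ ∀ i, α i < 0
  · rw [tPiece_eq_bot hI h]; simp
  simp only [Fin.sum_univ_three, Set.mem_singleton_iff, Set.mem_compl_iff, Fin.forall_fin_succ,
    Fin.isValue, Fin.reduceEq, iff_false, iff_true, not_true, not_false_iff, IsEmpty.forall_iff, and_true] at h ⊢
  by_cases h0 : α 0 < 0 <;> by_cases h1 : α 1 < 0 <;> by_cases h2 : α 2 < 0 <;>
    simp [h0, h1, h2] at h ⊢ <;> omega

include hI in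
theorem finrank_tgt_mod_two :
    Module.finrank k (Tgt I) % 2 = Module.finrank k (MvPolynomial (Fin 3) k ⧸ I) % 2 := by
  rw [finrank_tgt_eq hI, Fin.sum_univ_three, finrank_sig hI 0, finrank_sig hI 1, finrank_sig hI 2]
  omega

end three

end Groth.Agent.L13.HilbPn
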