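import Groth.Agent.L13.HilbPn.Slice
import Groth.Agent.L13.HilbPn.Vanish

/-!
Socle monomials paired with minimal generators, and vanishing in negative degrees.
-/

set_option autoImplicit false

universe u

namespace Groth.Agent.L13.HilbPn

open MvPolynomial W4c1hilbpn

variable {k : Type u} [Field k] {I : Ideal (MvPolynomial (Fin 3) k)} (hI : IsMonomial I)
  [Module.Finite k (MvPolynomial (Fin 3) k ⧸ I)]

omit [Module.Finite k (MvPolynomial (Fin 3) k ⧸ I)] in
include hI in
/-- A socle monomial and a minimal generator give a nonzero piece. -/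
theorem tPiece_ne_bot_of_socle {γ : Fin 3 → ℤ} {β : Fin 3 →₀ ℕ} (hγ : Good I γ)
    (hsoc : ∀ i, ¬ Good I (γ + Pi.single i 1)) (hβ : β ∈ exps I)
    (hmin : ∀ i, 0 < β i → β - Finsupp.single i 1 ∉ exps I) :
    tPiece I (γ - cast β) ≠ ⊥ := by
  classical
  set α := γ - cast β with hα
  have hs : Src I α γ := by simpa [hα] using src_cast I (α := α) hβ
  have hc : Pi.single γ (1 : k) ∈ Sol I α := by
    refine ⟨fun δ h => Pi.single_eq_of_ne (fun e => h (by subst e; exact ⟨hs, hγ⟩)) _, fun δ i hsδ hg => ?_⟩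
    have h1 : δ ≠ γ := fun e => hsoc i (e ▸ hg)
    have h2 : δ + Pi.single i 1 ≠ γ := by
      intro e
      obtain ⟨hle, hmem⟩ := hsδ
      have hi : 0 < β i := by
        have := hle i
        have := congrFun e i
        simp [hα, cast] at this
        have := congrArg (fun f => f i) e
        simp [hα, cast] at *
        omega
      refine hmin i hi ?_
      convert hmem using 1
      ext l
      rcases eq_or_ne l i with rfl | hl
      · simp [hα, cast, ← e]; omega
      · simp [hα, cast, ← e, hl]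
    rw [Pi.single_eq_of_ne h1, Pi.single_eq_of_ne h2]
  intro hbot
  have h0 := congrArg (fun c : Sol I α => c.1 γ) ((pieceEquiv hI α).map_zero)
  have hzero : (⟨_, hc⟩ : Sol I α) = 0 := by
    refine (pieceEquiv hI α).symm.injective (Subtype.ext ?_)
    have := ((pieceEquiv hI α).symm ⟨_, hc⟩).2
    simp only [hbot, Submodule.mem_bot] at this
    rw [this, map_zero]; rfl
  simpa using congrArg (fun c : Sol I α => c.1 γ) hzero

include hI in
/-- A socle monomial above a given standard monomial. -/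
lemma exists_socle {P : Fin 3 → ℤ} (hP : Good I P) :
    ∃ γ, Good I γ ∧ P ≤ γ ∧ ∀ i, ¬ Good I (γ + Pi.single i 1) := by
  classical
  obtain ⟨γ, hγ, hmax⟩ := ((pts hI).filter fun γ => P ≤ γ).exists_max_image (fun γ => ∑ i, γ i)
    ⟨P, Finset.mem_filter.mpr ⟨(mem_pts hI).mpr hP, le_rfl⟩⟩
  obtain ⟨hg, hle⟩ := Finset.mem_filter.mp hγ
  refine ⟨γ, (mem_pts hI).mp hg, hle, fun i hgi => ?_⟩
  have := hmax (γ + Pi.single i 1) (Finset.mem_filter.mpr ⟨(mem_pts hI).mpr hgi, fun l => by
    have : P l ≤ γ l := hle l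
    simp only [Pi.add_apply, Pi.single_apply]; split_ifs <;> omega⟩)
  simp [Finset.sum_add_distrib] at this

omit [Module.Finite k (MvPolynomial (Fin 3) k ⧸ I)] in
include hI in
lemma sigPiece_ne_bot {α : Fin 3 → ℤ} {N : Set (Fin 3)} (hN : ∀ i, α i < 0 ↔ i ∈ N)
    (h : tPiece I α ≠ ⊥) : sigPiece I N ≠ ⊥ :=
  fun hb => h (eq_bot_iff.mpr (hb ▸ le_iSup (fun a : {a : Fin 3 → ℤ // ∀ i, a i < 0 ↔ i ∈ N} =>
    tPiece I a.1) ⟨α, hN⟩))

lemma good_e3 {a b c : ℕ} (h : e3 a b c ∉ exps I) : Good I (cast (e3 a b c)) := (good_cast_iff I).mpr h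

omit [Module.Finite k (MvPolynomial (Fin 3) k ⧸ I)] in
lemma e3_min {a b c : ℕ} (h0 : 0 < a → e3 (a - 1) b c ∉ exps I)
    (h1 : 0 < b → e3 a (b - 1) c ∉ exps I) (h2 : 0 < c → e3 a b (c - 1) ∉ exps I) :
    ∀ i, 0 < (e3 a b c) i → e3 a b c - Finsupp.single i 1 ∉ exps I := by
  intro i hi
  fin_cases i <;> simp [e3] at hi
  · convert h0 hi using 2; ext l; fin_cases l <;> simp [e3]
  · convert h1 hi using 2; ext l; fin_cases l <;> simp [e3]
  · convert h2 hi using 2; ext l; fin_cases l <;> simp [e3]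

omit [Module.Finite k (MvPolynomial (Fin 3) k ⧸ I)] in
lemma lt_of_good {γ : Fin 3 → ℤ} {a b c : ℕ} (hγ : Good I γ) (h : e3 a b c ∈ exps I) :
    γ 0 < a ∨ γ 1 < b ∨ γ 2 < c := by
  by_contra hne
  push Not at hne
  exact hγ.2 (exps_upper I (fun l => by fin_cases l <;> simp [e3, toN] <;> omega) h)

include hI in
theorem exists_sigPiece_ne_bot (a1 a2 b1 b3 c2 c3 : ℕ) (ha1 : 0 < a1) (ha2 : 0 < a2) (hb1 : 0 < b1)
    (hb3 : 0 < b3) (hc2 : 0 < c2) (hc3 : 0 < c3)
    (hA : e3 a1 a2 0 ∈ exps I ∧ e3 (a1 - 1) a2 0 ∉ exps I ∧ e3 a1 (a2 - 1) 0 ∉ exps I)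
    (hB : e3 b1 0 b3 ∈ exps I ∧ e3 (b1 - 1) 0 b3 ∉ exps I ∧ e3 b1 0 (b3 - 1) ∉ exps I)
    (hC : e3 0 c2 c3 ∈ exps I ∧ e3 0 (c2 - 1) c3 ∉ exps I ∧ e3 0 c2 (c3 - 1) ∉ exps I)
    (hcase : (b1 ≤ a1 ∧ c2 ≤ a2) ∨ (a1 ≤ b1 ∧ c3 ≤ b3) ∨ (a2 ≤ c2 ∧ b3 ≤ c3)) :
    sigPiece I ({0, 1} : Set (Fin 3)) ≠ ⊥ ∨ sigPiece I ({0, 2} : Set (Fin 3)) ≠ ⊥ ∨
      sigPiece I ({1, 2} : Set (Fin 3)) ≠ ⊥ := by
  have down : ∀ {a b c a' b' c' : ℕ}, e3 a b c ∉ exps I → a' ≤ a → b' ≤ b → c' ≤ c →
      e3 a' b' c' ∉ exps I := fun h x y z h' => h (exps_upper I (fun l => by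
        fin_cases l <;> simp [e3] <;> assumption) h')
  rcases hcase with ⟨p, q⟩ | ⟨p, q⟩ | ⟨p, q⟩
  · left
    have hP : e3 0 0 (max b3 c3) ∉ exps I := by
      rcases max_choice b3 c3 with e | e <;> rw [e]
      · exact down hB.2.1 (by omega) le_rfl le_rfl
      · exact down hC.2.1 le_rfl (by omega) le_rfl
    obtain ⟨γ, hg, hle, hsoc⟩ := exists_socle hI (good_e3 hP)
    have h2 := hle 2; simp [cast, e3] at h2
    have h0 := lt_of_good hg hB.1; have h1 := lt_of_good hg hC.1
    have := hg.1 0; have := hg.1 1; have := hg.1 2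
    refine sigPiece_ne_bot hI (fun i => ?_) (tPiece_ne_bot_of_socle hI hg hsoc hA.1
      (e3_min (fun _ => hA.2.1) (fun _ => hA.2.2) (fun h => absurd h (lt_irrefl 0))))
    fin_cases i <;> simp [cast, e3] <;> omega
  · right; left
    have hP : e3 0 (max a2 c2) 0 ∉ exps I := by
      rcases max_choice a2 c2 with e | e <;> rw [e]
      · exact down hA.2.1 (by omega) le_rfl le_rfl
      · exact down hC.2.2 le_rfl le_rfl (by omega)
    obtain ⟨γ, hg, hle, hsoc⟩ := exists_socle hI (good_e3 hP)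
    have h2 := hle 1; simp [cast, e3] at h2
    have h0 := lt_of_good hg hA.1; have h1 := lt_of_good hg hC.1
    have := hg.1 0; have := hg.1 1; have := hg.1 2
    refine sigPiece_ne_bot hI (fun i => ?_) (tPiece_ne_bot_of_socle hI hg hsoc hB.1
      (e3_min (fun _ => hB.2.1) (fun h => absurd h (lt_irrefl 0)) (fun _ => hB.2.2)))
    fin_cases i <;> simp [cast, e3] <;> omega
  · right; right
    have hP : e3 (max a1 b1) 0 0 ∉ exps I := by
      rcases max_choice a1 b1 with e | e <;> rw [e]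
      · exact down hA.2.2 le_rfl (by omega) le_rfl
      · exact down hB.2.2 le_rfl le_rfl (by omega)
    obtain ⟨γ, hg, hle, hsoc⟩ := exists_socle hI (good_e3 hP)
    have h2 := hle 0; simp [cast, e3] at h2
    have h0 := lt_of_good hg hA.1; have h1 := lt_of_good hg hB.1
    have := hg.1 0; have := hg.1 1; have := hg.1 2
    refine sigPiece_ne_bot hI (fun i => ?_) (tPiece_ne_bot_of_socle hI hg hsoc hC.1
      (e3_min (fun h => absurd h (lt_irrefl 0)) (fun _ => hC.2.1) (fun _ => hC.2.2)))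
    fin_cases i <;> simp [cast, e3] <;> omega

include hI in
lemma eq_of_down {α γ : Fin 3 → ℤ} {c : (Fin 3 → ℤ) → k} (hc : c ∈ Sol I α) (hg : Good I γ)
    {δ : Fin 3 → ℤ} (hs : Src I α δ) (hle : δ ≤ γ) : c γ = c δ := by
  have e : γ = δ + cast (toN (γ - δ)) := by
    rw [cast_toN (fun i => by have : δ i ≤ γ i := hle i; simp; omega)]; simp
  conv_lhs => rw [e]
  exact Sol.translate I hc hs _ (e ▸ hg)

include hI in
/-- Strongly stable ideals: the linear case is exactly the vanishing of the two negative patterns. -/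
theorem X_zero_mem_iff (hs : IsStronglyStable I) :
    (X 0 : MvPolynomial (Fin 3) k) ∈ I ↔
      (sigPiece I ({1, 2} : Set (Fin 3)) = ⊥ ∧ sigPiece I ({0, 2} : Set (Fin 3)) = ⊥ ∧
        sigPiece I ({0, 1} : Set (Fin 3)) = ⊥) := by
  classical
  have hX : (X 0 : MvPolynomial (Fin 3) k) ∈ I ↔ e3 1 0 0 ∈ exps I := by
    show _ ↔ monomial _ 1 ∈ I
    rw [show e3 1 0 0 = Finsupp.single 0 1 by ext l; fin_cases l <;> simp [e3]]; rfl
  rw [hX]
  constructor
  · intro hx
    have bot : ∀ N : Set (Fin 3), (∀ α : Fin 3 → ℤ, (∀ i, α i < 0 ↔ i ∈ N) → Sol I α = ⊥) →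
        sigPiece I N = ⊥ := fun N h => by
      refine eq_bot_iff.mpr (iSup_le fun a => ?_)
      rw [mk_zero_of_eq_bot hI (h a.1 a.2)]
    have g0 : ∀ γ, Good I γ → γ 0 = 0 := fun γ hg => by
      have := lt_of_good hg hx; have := hg.1 0; have := hg.1 1; have := hg.1 2; omega
    refine ⟨bot _ fun α hα => ?_, bot _ fun α hα => ?_, bot _ fun α hα => ?_⟩
    all_goals
      have a0 := hα 0; have a1 := hα 1; have a2 := hα 2
      simp at a0 a1 a2
      rw [Submodule.eq_bot_iff]
      intro c hc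
      by_contra hne
      obtain ⟨γ₁, hγ₁⟩ := Function.ne_iff.mp hne
    · -- pattern {1,2}
      let S : Finset (Fin 3 → ℤ) := (pts hI).filter fun γ => c γ ≠ 0
      have hS : ∀ γ, c γ ≠ 0 → γ ∈ S ∧ Src I α γ ∧ Good I γ := fun γ h =>
        have h' := by_contra fun h' => h (hc.1 γ h')
        ⟨Finset.mem_filter.mpr ⟨(mem_pts hI).mpr h'.2, h⟩, h'⟩
      obtain ⟨γ₀, hγ₀, hmin⟩ := S.exists_min_image (fun γ => γ 2) ⟨γ₁, (hS γ₁ hγ₁).1⟩
      obtain ⟨γ, hγ, hmax⟩ := (S.filter fun γ => γ 2 = γ₀ 2).exists_max_image (fun γ => γ 1)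
        ⟨γ₀, Finset.mem_filter.mpr ⟨hγ₀, rfl⟩⟩
      obtain ⟨hγS, hγt⟩ := Finset.mem_filter.mp hγ
      obtain ⟨-, hsrc, hg⟩ := hS γ (Finset.mem_filter.mp hγS).2
      have hα0 : α 0 = 0 := by have := hsrc.1 0; have := g0 γ hg; omega
      have hnn : ∀ i, 0 ≤ (γ + Pi.single 1 1 : Fin 3 → ℤ) i := fun i => by
        have := hg.1 i; simp only [Pi.add_apply, Pi.single_apply]; split_ifs <;> omega
      have hex : toN (γ + Pi.single 1 1) ∈ exps I := by
        by_contra hn
        have hm := hmax (γ + Pi.single 1 1) (Finset.mem_filter.mpr ⟨(hS _ (by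
          rw [hc.2 γ 1 hsrc ⟨hnn, hn⟩]; exact (Finset.mem_filter.mp hγS).2)).1, by simp [hγt]⟩)
        simp at hm
      let δ : Fin 3 → ℤ := γ + Pi.single 1 1 + α
      have hsδ : Src I α δ := by
        have := src_cast I (α := α) hex
        rwa [cast_toN hnn] at this
      have hcδ : c δ ≠ 0 := by
        rw [← eq_of_down hI hc hg hsδ (fun i => by fin_cases i <;> simp [δ] <;> omega)]
        exact (Finset.mem_filter.mp hγS).2
      have := hmin δ (hS δ hcδ).1
      simp [δ, hγt] at this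
      omega
    · -- pattern {0,2}
      obtain ⟨hsrc, hg⟩ : Src I α γ₁ ∧ Good I γ₁ := by_contra fun h => hγ₁ (hc.1 γ₁ h)
      have hsδ : Src I α ![γ₁ 0, γ₁ 1, -1] := ⟨fun i => by
        have := hsrc.1 0; have := hsrc.1 1; fin_cases i <;> simp <;> omega,
        exps_upper I (fun l => by fin_cases l <;> simp [e3, toN]; have := g0 γ₁ hg; omega) hx⟩
      refine hγ₁ ?_
      rw [eq_of_down hI hc hg hsδ (fun i => by
        have := hg.1 2; fin_cases i <;> simp <;> omega)]
      exact hc.1 _ fun h => absurd (h.2.1 2) (by simp)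
    · -- pattern {0,1}
      obtain ⟨hsrc, hg⟩ : Src I α γ₁ ∧ Good I γ₁ := by_contra fun h => hγ₁ (hc.1 γ₁ h)
      have hsδ : Src I α ![γ₁ 0, -1, γ₁ 2] := ⟨fun i => by
        have := hsrc.1 0; have := hsrc.1 2; fin_cases i <;> simp <;> omega,
        exps_upper I (fun l => by fin_cases l <;> simp [e3, toN]; have := g0 γ₁ hg; omega) hx⟩
      refine hγ₁ ?_
      rw [eq_of_down hI hc hg hsδ (fun i => by
        have := hg.1 1; fin_cases i <;> simp <;> omega)]
      exact hc.1 _ fun h => absurd (h.2.1 1) (by simp)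
  · rintro ⟨-, -, h01⟩
    by_contra hx
    have st := fun i j c => not_exps_iff_lt hI i j c
    set cz := stairZ I 0 0 with hcz
    have hcz0 : 0 < cz := (st 0 0 0).mp fun h => hx (exps_upper I (fun l => by fin_cases l <;> simp [e3]) h)
    have hzc : e3 0 0 cz ∈ exps I := by_contra fun h => lt_irrefl _ ((st 0 0 cz).mp h)
    -- socle
    obtain ⟨c', hc'⟩ : ∃ c', cz = c' + 1 := ⟨cz - 1, by omega⟩
    have hgood : Good I (cast (e3 0 0 c')) := good_e3 ((st 0 0 c').mpr (by omega))
    have hsoc : ∀ i, ¬ Good I (cast (e3 0 0 c') + Pi.single i 1) := by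
      intro i hg
      rw [← cast_single, ← cast_add, good_cast_iff] at hg
      rw [hc'] at hzc
      refine hg ?_
      fin_cases i
      · convert e3_shift02 hs hzc using 1; ext l; fin_cases l <;> simp [e3]
      · convert e3_shift12 hs hzc using 1; ext l; fin_cases l <;> simp [e3]
      · convert hzc using 1; ext l; fin_cases l <;> simp [e3]
    -- least powers
    have hexa : ∃ a, e3 a 0 0 ∈ exps I := by
      refine ⟨cz, ?_⟩
      have : ∀ t s, e3 s 0 t ∈ exps I → e3 (s + t) 0 0 ∈ exps I := by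
        intro t
        induction t with
        | zero => intro s h; simpa using h
        | succ t ih => intro s h; have := ih _ (e3_shift02 hs h); rwa [show s + 1 + t = s + (t + 1) by ring] at this
      simpa using this cz 0 hzc
    have hexb : ∃ b, e3 0 b 0 ∈ exps I := by
      refine ⟨cz, ?_⟩
      have : ∀ t s, e3 0 s t ∈ exps I → e3 0 (s + t) 0 ∈ exps I := by
        intro t
        induction t with
        | zero => intro s h; simpa using h
        | succ t ih => intro s h; have := ih _ (e3_shift12 hs h); rwa [show s + 1 + t = s + (t + 1) by ring] at this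
      simpa using this cz 0 hzc
    have ha := Nat.find_spec hexa
    have hb := Nat.find_spec hexb
    set A := Nat.find hexa
    set B := Nat.find hexb
    have hA2 : 2 ≤ A := by
      by_contra hlt
      exact hx (exps_upper I (fun l => by fin_cases l <;> simp [e3]; omega) ha)
    have hstep : ∀ t, t ≤ B → e3 t (B - t) 0 ∈ exps I := by
      intro t
      induction t with
      | zero => intro _; simpa using hb
      | succ t ih =>
        intro ht
        have := ih (by omega)
        rw [show B - t = (B - (t + 1)) + 1 by omega] at this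
        exact e3_shift01 hs this
    have hAB : A ≤ B := Nat.find_le (by simpa using hstep B le_rfl)
    -- an exponent with both variables
    have hexj : ∃ j, e3 (A - 1) j 0 ∈ exps I := ⟨_, hstep (A - 1) (by omega)⟩
    have hjB : Nat.find hexj ≤ B - (A - 1) := Nat.find_le (hstep (A - 1) (by omega))
    have hj := Nat.find_spec hexj
    set j := Nat.find hexj
    have hj0 : 0 < j := Nat.pos_of_ne_zero fun e => Nat.find_min hexa (m := A - 1) (by omega) (by
      simpa [e] using hj)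
    have hexi : ∃ i, e3 i j 0 ∈ exps I := ⟨_, hj⟩
    have hi := Nat.find_spec hexi
    have hiA : Nat.find hexi ≤ A - 1 := Nat.find_le hj
    set i := Nat.find hexi
    have hi0 : 0 < i := Nat.pos_of_ne_zero fun e => Nat.find_min hexb (m := j) (by omega) (by
      simpa [e] using hi)
    have hmin : ∀ l, 0 < (e3 i j 0) l → e3 i j 0 - Finsupp.single l 1 ∉ exps I :=
      e3_min (fun _ => Nat.find_min hexi (by omega))
        (fun _ h => Nat.find_min hexj (m := j - 1) (by omega)
          (exps_upper I (fun l => by fin_cases l <;> simp [e3]; omega) h))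
        (fun h => absurd h (lt_irrefl 0))
    refine sigPiece_ne_bot hI (fun l => ?_) (tPiece_ne_bot_of_socle hI hgood hsoc hi hmin) h01
    fin_cases l <;> simp [cast, e3] <;> omega

end Groth.Agent.L13.HilbPn
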