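import Groth.Agent.L13.HilbPn.Count
import Mathlib.Algebra.BigOperators.Finprod

/-!
Staircase numbers and the bound for the pieces over a fixed pair of degrees.
-/

set_option autoImplicit false

universe u

namespace Groth.Agent.L13.HilbPn

open MvPolynomial W4c1hilbpn

variable {k : Type u} [Field k] {I : Ideal (MvPolynomial (Fin 3) k)} (hI : IsMonomial I)
  [Module.Finite k (MvPolynomial (Fin 3) k ⧸ I)]

include hI in
lemma not_exps_iff_lt (i j c : ℕ) : e3 i j c ∉ exps I ↔ c < stairZ I i j := by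
  classical
  have hex : ∃ N : ℕ, e3 i j N ∈ exps I := by
    by_contra hne
    push Not at hne
    refine Set.infinite_range_of_injective (f := fun N : ℕ => cast (e3 i j N)) (fun a b h => ?_)
      ((finite_good hI).subset ?_)
    · have := congrFun h 2; simpa [cast, e3] using this
    · rintro _ ⟨N, rfl⟩; exact (good_cast_iff I).mpr (hne N)
  have key : ∀ c : ℕ, e3 i j c ∉ exps I ↔ c < Nat.find hex := fun c => by
    refine ⟨fun h => ?_, fun h => Nat.find_min hex h⟩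
    by_contra hle
    have hle2 : e3 i j (Nat.find hex) ≤ e3 i j c := fun l => by
      fin_cases l <;> simp [e3, -Nat.find_le_iff]; exact not_lt.mp hle
    exact h (exps_upper I hle2 (Nat.find_spec hex))
  have hcard : stairZ I i j = Nat.find hex := by
    rw [stairZ, Nat.card_congr ((Equiv.subtypeEquivRight key).trans Fin.equivSubtype.symm), Nat.card_fin]
  rw [hcard]; exact key c

lemma toN_eq_e3 (γ : Fin 3 → ℤ) : toN γ = e3 (γ 0).toNat (γ 1).toNat (γ 2).toNat := by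
  ext l; fin_cases l <;> simp [toN, e3]

include hI in
lemma good_iff_lt {γ : Fin 3 → ℤ} :
    Good I γ ↔ (∀ l, 0 ≤ γ l) ∧ γ 2 < stairZ I (γ 0).toNat (γ 1).toNat := by
  refine and_congr_right fun h => ?_
  rw [toN_eq_e3, not_exps_iff_lt hI]
  have := h 2; omega

include hI in
lemma src_iff_le {α γ : Fin 3 → ℤ} :
    Src I α γ ↔ α 0 ≤ γ 0 ∧ α 1 ≤ γ 1 ∧
      α 2 + stairZ I (γ 0 - α 0).toNat (γ 1 - α 1).toNat ≤ γ 2 := by
  have key : toN (γ - α) ∈ exps I ↔
      stairZ I (γ 0 - α 0).toNat (γ 1 - α 1).toNat ≤ (γ 2 - α 2).toNat := by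
    rw [toN_eq_e3, ← not_lt, ← not_exps_iff_lt hI, not_not]; rfl
  constructor
  · rintro ⟨h1, h2⟩
    have := key.mp h2; have := h1 2
    exact ⟨h1 0, h1 1, by omega⟩
  · rintro ⟨h0, h1, h2⟩
    exact ⟨fun l => by fin_cases l <;> simp <;> omega, key.mpr (by omega)⟩

section bound

variable (a1 a2 : ℕ)

/-- The starting height in a column. -/
noncomputable def low (I : Ideal (MvPolynomial (Fin 3) k)) (z : ℤ) (p : ℕ × ℕ) : ℤ :=
  z + stairZ I (p.1 - a1) (p.2 - a2)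

/-- The maximum of the neighbouring staircase numbers. -/
noncomputable def nb (I : Ideal (MvPolynomial (Fin 3) k)) (p : ℕ × ℕ) : ℕ :=
  max (stairZ I (p.1 + 1) p.2) (stairZ I p.1 (p.2 + 1))

/-- The columns that matter. -/
noncomputable def cols : Finset (ℕ × ℕ) :=
  ((pts hI).image fun γ => ((γ 0).toNat, (γ 1).toNat)).filter fun p => a1 ≤ p.1 ∧ a2 ≤ p.2

include hI in
lemma finrank_le_corners {α : Fin 3 → ℤ} (h0 : α 0 = a1) (h1 : α 1 = a2) :
    Module.finrank k (tPiece I α) ≤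
      ((cols hI a1 a2).filter fun p => (nb I p : ℤ) ≤ low a1 a2 I (α 2) p ∧
        low a1 a2 I (α 2) p < stairZ I p.1 p.2).card := by
  classical
  rw [finrank_tPiece hI α]
  set P := (cols hI a1 a2).filter fun p => (nb I p : ℤ) ≤ low a1 a2 I (α 2) p ∧
    low a1 a2 I (α 2) p < stairZ I p.1 p.2 with hP
  let E : Sol I α →ₗ[k] (↥P → k) :=
    { toFun := fun c p => c.1 ![(p.1.1 : ℤ), p.1.2, low a1 a2 I (α 2) p.1]
      map_add' := fun _ _ => rfl
      map_smul' := fun _ _ => rfl }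
  refine (LinearMap.finrank_le_finrank_of_injective (f := E) ?_).trans
    (by rw [Module.finrank_fintype_fun_eq_card, Fintype.card_coe])
  refine (injective_iff_map_eq_zero E).mpr fun c hc => ?_
  by_contra hne
  have hs : ∀ γ, c.1 γ ≠ 0 → Src I α γ ∧ Good I γ := fun γ h => by_contra fun h' => h (c.2.1 γ h')
  let S := (pts hI).filter fun γ => c.1 γ ≠ 0
  have hS : ∀ γ, c.1 γ ≠ 0 → γ ∈ S := fun γ h =>
    Finset.mem_filter.mpr ⟨(mem_pts hI).mpr (hs γ h).2, h⟩
  obtain ⟨γ₁, hγ₁⟩ := Function.ne_iff.mp (fun e => hne (Subtype.ext e) : c.1 ≠ 0)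
  obtain ⟨γ, hγ, hmax⟩ := S.exists_max_image (fun γ => γ 0 + γ 1) ⟨γ₁, hS γ₁ hγ₁⟩
  have hcγ := (Finset.mem_filter.mp hγ).2
  obtain ⟨hsrc, hgood⟩ := hs γ hcγ
  obtain ⟨hs0, hs1, hs2⟩ := (src_iff_le hI).mp hsrc
  obtain ⟨p1, hp1⟩ : ∃ n : ℕ, γ 0 = n := ⟨_, (Int.toNat_of_nonneg (hgood.1 0)).symm⟩
  obtain ⟨p2, hp2⟩ : ∃ n : ℕ, γ 1 = n := ⟨_, (Int.toNat_of_nonneg (hgood.1 1)).symm⟩
  set z0 : ℤ := low a1 a2 I (α 2) (p1, p2) with hz0
  have ez : z0 = α 2 + stairZ I (γ 0 - α 0).toNat (γ 1 - α 1).toNat := by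
    rw [hz0, low, show (γ 0 - α 0).toNat = p1 - a1 by omega, show (γ 1 - α 1).toNat = p2 - a2 by omega]
  let γ' : Fin 3 → ℤ := ![(p1 : ℤ), p2, z0]
  have hsrc' : Src I α γ' := (src_iff_le hI).mpr ⟨by simp [γ']; omega, by simp [γ']; omega, by
    simp only [γ', Matrix.cons_val_zero, Matrix.cons_val_one, Matrix.cons_val_two, Matrix.vecHead,
      Matrix.vecTail, Function.comp_apply, Fin.succ_zero_eq_one]
    rw [ez, hp1, hp2]⟩
  have hγeq : γ = γ' + cast (toN ![0, 0, γ 2 - z0]) := by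
    have : z0 ≤ γ 2 := by omega
    funext l; fin_cases l <;> simp [γ', cast, toN, hp1, hp2] <;> omega
  have hcγ' : c.1 γ' ≠ 0 := by
    have := Sol.translate I c.2 hsrc' _ (hγeq ▸ hgood)
    rw [← hγeq] at this
    exact this ▸ hcγ
  obtain ⟨-, hg'⟩ := hs γ' hcγ'
  have hlt : z0 < stairZ I p1 p2 := by simpa [γ'] using ((good_iff_lt hI).mp hg').2
  have hnn : 0 ≤ z0 := hg'.1 2
  have step : ∀ i : Fin 3, i ≠ 2 → ¬ Good I (γ' + Pi.single i 1) := fun i hi hg => by
    have := hmax (γ' + Pi.single i 1) (hS _ (by rw [c.2.2 γ' i hsrc' hg]; exact hcγ'))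
    fin_cases i <;> simp [γ', hp1, hp2] at this hi
  have n0 : (stairZ I (p1 + 1) p2 : ℤ) ≤ z0 := by
    by_contra hlt0
    refine step 0 (by decide) ((good_iff_lt hI).mpr ⟨fun l => ?_, ?_⟩)
    · fin_cases l <;> simp [γ'] <;> omega
    · simp [γ', show ((p1 : ℤ) + 1).toNat = p1 + 1 by omega]; omega
  have n1 : (stairZ I p1 (p2 + 1) : ℤ) ≤ z0 := by
    by_contra hlt0
    refine step 1 (by decide) ((good_iff_lt hI).mpr ⟨fun l => ?_, ?_⟩)
    · fin_cases l <;> simp [γ'] <;> omega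
    · simp [γ', show ((p2 : ℤ) + 1).toNat = p2 + 1 by omega]; omega
  have hmem : (p1, p2) ∈ P := Finset.mem_filter.mpr ⟨Finset.mem_filter.mpr
    ⟨Finset.mem_image.mpr ⟨γ, (mem_pts hI).mpr hgood, by simp [hp1, hp2]⟩, by omega, by omega⟩,
    by simp only [nb, Nat.cast_max]; exact max_le n0 n1, hlt⟩
  exact hcγ' (congrFun hc ⟨(p1, p2), hmem⟩)

include hI in
theorem finrank_le_finsum :
    Module.finrank k ↥(⨆ α : {α : Fin 3 → ℤ // α 0 = (a1 : ℤ) ∧ α 1 = (a2 : ℤ) ∧ α 2 < 0}, tPiece I α.1) ≤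
      ∑ᶠ p : ℕ × ℕ, (if a1 ≤ p.1 ∧ a2 ≤ p.2
        then stairZ I p.1 p.2 - max (stairZ I (p.1 + 1) p.2) (stairZ I p.1 (p.2 + 1)) else 0) := by
  classical
  rw [finrank_iSup hI fun α => α 0 = (a1 : ℤ) ∧ α 1 = (a2 : ℤ) ∧ α 2 < 0]
  set D := (degs hI).filter fun α => α 0 = (a1 : ℤ) ∧ α 1 = (a2 : ℤ) ∧ α 2 < 0
  let rel : (Fin 3 → ℤ) → ℕ × ℕ → Prop := fun α p =>
    (nb I p : ℤ) ≤ low a1 a2 I (α 2) p ∧ low a1 a2 I (α 2) p < stairZ I p.1 p.2
  calc ∑ α ∈ D, Module.finrank k (tPiece I α)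
      ≤ ∑ α ∈ D, ((cols hI a1 a2).filter (rel α)).card := Finset.sum_le_sum fun α hα =>
        finrank_le_corners hI a1 a2 (Finset.mem_filter.mp hα).2.1 (Finset.mem_filter.mp hα).2.2.1
    _ = ∑ p ∈ cols hI a1 a2, (D.filter fun α => rel α p).card := by
        simp_rw [Finset.card_filter]; exact Finset.sum_comm
    _ ≤ ∑ p ∈ cols hI a1 a2, (stairZ I p.1 p.2 - nb I p) := Finset.sum_le_sum fun p _ => by
        refine (Finset.card_le_card_of_injOn (t := Finset.Ico (nb I p : ℤ) (stairZ I p.1 p.2))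
          (fun α => low a1 a2 I (α 2) p) (fun α hα => ?_) fun α hα β hβ e => ?_).trans (by simp)
        · exact Finset.mem_Ico.mpr (Finset.mem_filter.mp hα).2
        · have ha := (Finset.mem_filter.mp (Finset.mem_filter.mp hα).1).2
          have hb := (Finset.mem_filter.mp (Finset.mem_filter.mp hβ).1).2
          simp [low] at e
          funext l; fin_cases l <;> simp [ha.1, ha.2.1, hb.1, hb.2.1, e]
    _ = _ := by
        rw [finsum_eq_sum_of_support_subset (s := cols hI a1 a2)]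
        · refine Finset.sum_congr rfl fun p hp => ?_
          rw [if_pos (Finset.mem_filter.mp hp).2]; rfl
        · intro p hp
          simp only [Function.mem_support, ne_eq, ite_eq_right_iff, not_forall] at hp
          obtain ⟨h, h0⟩ := hp
          refine Finset.mem_filter.mpr ⟨Finset.mem_image.mpr ⟨![(p.1 : ℤ), p.2, 0], ?_, by simp⟩, h⟩
          rw [mem_pts, good_iff_lt hI]
          exact ⟨fun l => by fin_cases l <;> simp, by simp; omega⟩

end bound

end Groth.Agent.L13.HilbPn
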