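import Groth.Agent.L13.HilbPn.PatternBound

/-!
Exchanging the last two variables, and the bounds for strongly stable ideals.
-/

set_option autoImplicit false

universe u

namespace Groth.Agent.L13.HilbPn

open MvPolynomial W4c1hilbpn

variable {k : Type u} [Field k]

/-- The exchange of the last two indices. -/
abbrev sw : Equiv.Perm (Fin 3) := Equiv.swap 1 2

/-- The exchanged ideal. -/
noncomputable def swI (I : Ideal (MvPolynomial (Fin 3) k)) : Ideal (MvPolynomial (Fin 3) k) :=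
  I.comap (rename sw).toRingHom

variable {I : Ideal (MvPolynomial (Fin 3) k)}

lemma exps_swI {β : Fin 3 →₀ ℕ} : β ∈ exps (swI I) ↔ β.mapDomain sw ∈ exps I := by
  show rename sw (monomial β (1 : k)) ∈ I ↔ monomial _ 1 ∈ I
  rw [rename_monomial]

lemma swI_monomial (hI : IsMonomial I) : IsMonomial (swI I) := by
  classical
  intro p hp β hβ
  refine exps_swI.mpr (hI _ hp _ ?_)
  show β.mapDomain sw ∈ (rename sw p).support
  rw [mem_support_iff, coeff_rename_mapDomain _ sw.injective]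
  exact mem_support_iff.mp hβ

lemma mapDomain_sw (β : Fin 3 →₀ ℕ) (l : Fin 3) : β.mapDomain sw l = β (sw l) := by
  conv_lhs => rw [show l = sw (sw l) from (Equiv.swap_apply_self 1 2 l).symm]
  exact Finsupp.mapDomain_apply sw.injective β _

lemma good_swI {γ : Fin 3 → ℤ} : Good (swI I) γ ↔ Good I (γ ∘ sw) := by
  refine and_congr ⟨fun h l => h (sw l), fun h l => by simpa using h (sw l)⟩ (not_congr ?_)
  rw [exps_swI]
  convert Iff.rfl using 2
  ext l; simp [toN, mapDomain_sw]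

lemma src_swI {α γ : Fin 3 → ℤ} : Src (swI I) α γ ↔ Src I (α ∘ sw) (γ ∘ sw) := by
  refine and_congr ⟨fun h l => h (sw l), fun h l => by simpa using h (sw l)⟩ ?_
  rw [exps_swI]
  convert Iff.rfl using 2
  ext l; simp [toN, mapDomain_sw]

lemma comp_sw_sw {X : Type} (γ : Fin 3 → X) : (γ ∘ sw) ∘ sw = γ := by funext l; simp

lemma single_sw (i : Fin 3) : (Pi.single i (1 : ℤ) : Fin 3 → ℤ) ∘ sw = Pi.single (sw i) 1 := by
  funext l; fin_cases i <;> fin_cases l <;> simp [sw, Equiv.swap_apply_def]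

lemma add_single_sw (γ : Fin 3 → ℤ) (i : Fin 3) :
    (γ + Pi.single i 1 : Fin 3 → ℤ) ∘ sw = γ ∘ sw + Pi.single (sw i) 1 := by
  rw [← single_sw i]; rfl

/-- The solutions correspond. -/
noncomputable def solSw (α : Fin 3 → ℤ) : Sol (swI I) α ≃ₗ[k] Sol I (α ∘ sw) where
  toFun c := ⟨fun γ => c.1 (γ ∘ sw), fun γ h => c.2.1 _ fun h' => h (by
    rw [src_swI, good_swI, comp_sw_sw] at h'; exact h'), fun γ i hs hg => by
    have hs' : Src (swI I) α (γ ∘ sw) := by rw [src_swI, comp_sw_sw]; exact hs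
    have hg' : Good (swI I) (γ ∘ sw + Pi.single (sw i) 1) := by
      rw [← add_single_sw, good_swI, comp_sw_sw]; exact hg
    show c.1 ((γ + Pi.single i 1 : Fin 3 → ℤ) ∘ sw) = c.1 (γ ∘ sw)
    rw [add_single_sw]; exact c.2.2 _ _ hs' hg'⟩
  map_add' _ _ := rfl
  map_smul' _ _ := rfl
  invFun c := ⟨fun γ => c.1 (γ ∘ sw), fun γ h => c.2.1 _ fun h' => h (by
    rw [src_swI, good_swI]; exact h'), fun γ i hs hg => by
    have hg' : Good I (γ ∘ sw + Pi.single (sw i) 1) := by
      rw [← add_single_sw]; exact good_swI.mp hg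
    show c.1 ((γ + Pi.single i 1 : Fin 3 → ℤ) ∘ sw) = c.1 (γ ∘ sw)
    rw [add_single_sw]; exact c.2.2 _ _ (src_swI.mp hs) hg'⟩
  left_inv c := by ext γ; simp [comp_sw_sw]
  right_inv c := by ext γ; simp [comp_sw_sw]

lemma finite_swI (hI : IsMonomial I) [Module.Finite k (MvPolynomial (Fin 3) k ⧸ I)] :
    Module.Finite k (MvPolynomial (Fin 3) k ⧸ swI I) := by
  refine finite_quot_of_finite_good ?_
  refine ((finite_good hI).image fun γ => γ ∘ sw).subset fun γ hγ => ?_
  exact ⟨γ ∘ sw, good_swI.mp hγ, comp_sw_sw γ⟩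

lemma stairZ_swI (a b : ℕ) : stairZ (swI I) a b = stairY I a b := by
  refine Nat.card_congr (Equiv.subtypeEquivRight fun c => not_congr ?_)
  rw [exps_swI]
  convert Iff.rfl using 2
  ext l; fin_cases l <;> simp [e3, mapDomain_sw, sw, Equiv.swap_apply_def]

variable [Module.Finite k (MvPolynomial (Fin 3) k ⧸ I)]

lemma wt_swI (hI : IsMonomial I) (h : Module.Finite k (MvPolynomial (Fin 3) k ⧸ swI I)) :
    wt (swI_monomial hI) = wt hI := by
  refine Finset.sum_nbij' (fun γ => γ ∘ sw) (fun γ => γ ∘ sw) ?_ ?_ ?_ ?_ ?_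
  · intro γ hγ
    exact (mem_pts hI).mpr (good_swI.mp ((mem_pts (swI_monomial hI)).mp hγ))
  · intro γ hγ
    refine (mem_pts (swI_monomial hI)).mpr (good_swI.mpr ?_)
    rw [comp_sw_sw]; exact (mem_pts hI).mp hγ
  · intro γ _; exact comp_sw_sw γ
  · intro γ _; exact comp_sw_sw γ
  · intro γ _; simp [sw, Equiv.swap_apply_def]

/-- The bounds for the two patterns negative at one of the last two variables. -/
theorem sig_le_wt (hs : IsStronglyStable I) :
    Module.finrank k ↥(sigPiece I ({2} : Set (Fin 3))) ≤ wt hs.1 ∧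
      Module.finrank k ↥(sigPiece I ({1} : Set (Fin 3))) ≤ wt hs.1 := by
  classical
  constructor
  · rw [sigPiece, finrank_iSup hs.1 fun α => ∀ l, α l < 0 ↔ l ∈ ({2} : Set (Fin 3))]
    refine sum_pieces_le hs.1 (fun i j => (stair_succ_le hs i j).1) _ fun α hα => ?_
    have h := (Finset.mem_filter.mp hα).2
    have h0 := h 0; have h1 := h 1; have h2 := h 2
    simp at h0 h1 h2; exact ⟨h0, h1, h2⟩
  · haveI hfin := finite_swI hs.1
    rw [sigPiece, finrank_iSup hs.1 fun α => ∀ l, α l < 0 ↔ l ∈ ({1} : Set (Fin 3))]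
    set D := (degs hs.1).filter fun α => ∀ l, α l < 0 ↔ l ∈ ({1} : Set (Fin 3))
    rw [← wt_swI hs.1 hfin]
    refine le_trans (le_of_eq ?_) (sum_pieces_le (swI_monomial hs.1)
      (fun i j => by rw [stairZ_swI, stairZ_swI]; exact (stair_succ_le hs i j).2)
      (D.image fun α => α ∘ sw) fun α hα => ?_)
    · rw [Finset.sum_image fun a _ b _ h => by
        have := congrArg (fun γ => γ ∘ sw) h; simpa only [comp_sw_sw] using this]
      refine Finset.sum_congr rfl fun α _ => ?_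
      rw [finrank_tPiece hs.1, finrank_tPiece (swI_monomial hs.1), (solSw (I := I) (α ∘ sw)).finrank_eq,
        comp_sw_sw]
    · obtain ⟨β, hβ, rfl⟩ := Finset.mem_image.mp hα
      have h := (Finset.mem_filter.mp hβ).2
      have h0 := h 0; have h1 := h 1; have h2 := h 2
      simp at h0 h1 h2
      refine ⟨?_, ?_, ?_⟩ <;> simp [sw, Equiv.swap_apply_def] <;> assumption

theorem stable_bounds (r : ℕ) (hs : IsStronglyStable I)
    (hd : Module.finrank k (MvPolynomial (Fin 3) k ⧸ I) = Nat.choose (r + 2) 3) :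
    (Module.finrank k ↥(sigPiece I ({2} : Set (Fin 3))) ≤ Nat.choose (r + 3) 4 ∧
      (Module.finrank k ↥(sigPiece I ({2} : Set (Fin 3))) = Nat.choose (r + 3) 4 ↔ I = mPow (n := 3) (k := k) r)) ∧
    (Module.finrank k ↥(sigPiece I ({1} : Set (Fin 3))) ≤ Nat.choose (r + 3) 4 ∧
      (Module.finrank k ↥(sigPiece I ({1} : Set (Fin 3))) = Nat.choose (r + 3) 4 ↔ I = mPow (n := 3) (k := k) r)) ∧
    (Module.finrank k ↥(sigPiece I ({0, 1} : Set (Fin 3))) ≤ Nat.choose (r + 2) 4 ∧
      (Module.finrank k ↥(sigPiece I ({0, 1} : Set (Fin 3))) = Nat.choose (r + 2) 4 ↔ I = mPow (n := 3) (k := k) r)) ∧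
    (Module.finrank k ↥(sigPiece I ({0, 2} : Set (Fin 3))) ≤ Nat.choose (r + 2) 4 ∧
      (Module.finrank k ↥(sigPiece I ({0, 2} : Set (Fin 3))) = Nat.choose (r + 2) 4 ↔ I = mPow (n := 3) (k := k) r)) := by
  obtain ⟨a2, a1⟩ := sig_le_wt hs
  obtain ⟨hw, heq⟩ := wt_le r hs hd.le
  have e2 := finrank_sig hs.1 2
  have e1 := finrank_sig hs.1 1
  rw [hd, show ({2}ᶜ : Set (Fin 3)) = {0, 1} by ext l; fin_cases l <;> simp] at e2
  rw [hd, show ({1}ᶜ : Set (Fin 3)) = {0, 2} by ext l; fin_cases l <;> simp] at e1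
  have hc : (r + 3).choose 4 = (r + 2).choose 3 + (r + 2).choose 4 := Nat.choose_succ_succ' _ _
  have back : ∀ i : Fin 3, I = mPow (n := 3) (k := k) r →
      Module.finrank k ↥(sigPiece I ({i} : Set (Fin 3))) = Nat.choose (r + 3) 4 := fun i h => by
    rw [h]; exact finrank_sig_mPow r i
  refine ⟨⟨by omega, fun h => heq (by omega), back 2⟩, ⟨by omega, fun h => heq (by omega), back 1⟩,
    ⟨by omega, fun h => heq (by omega), fun h => ?_⟩, ⟨by omega, fun h => heq (by omega), fun h => ?_⟩⟩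
  · have := back 2 h; omega
  · have := back 1 h; omega

end Groth.Agent.L13.HilbPn
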