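import Groth.Agent.L13.HilbPn.Comb
import Groth.Agent.L13.HilbPn.Borel450

/-!
Degree zero homomorphisms for the two block family: setup.
-/

set_option autoImplicit false

universe u

namespace Groth.Agent.L13.HilbPn

open MvPolynomial W4c1hilbpn

variable {k : Type u} [Field k]

/-- The ideal of the family. -/
noncomputable def tI (k : Type u) [Field k] (n q m : ℕ) : Ideal (MvPolynomial (Fin (n + 1)) k) :=
  Ideal.span ({f : MvPolynomial (Fin (n + 1)) k | ∃ i : Fin (n + 1), i.val + 1 ≤ n ∧ f = X 0 * X i} ∪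
    {f : MvPolynomial (Fin (n + 1)) k | ∃ i : Fin (n + 1), 1 ≤ i.val ∧ i.val ≤ m ∧ f = X 1 ^ q * X i})

/-- The generators. -/
noncomputable def tG (n q m : ℕ) (hm : m < n) : Fin n ⊕ Fin m → Fin (n + 1) →₀ ℕ
  | .inl i => Finsupp.single 0 1 + Finsupp.single i.castSucc 1
  | .inr j => Finsupp.single 1 q + Finsupp.single ⟨j.1 + 1, by omega⟩ 1

/-- The data. -/
noncomputable def tT (k : Type u) [Field k] (n q m : ℕ) (hm : m < n) :
    Gens (tI k n q m) (Fin n ⊕ Fin m) :=
  gensOfSpan (tG n q m hm) (by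
    rw [tI]
    congr 1
    ext f
    constructor
    · rintro (⟨i, hi, rfl⟩ | ⟨i, hi, hi', rfl⟩)
      · exact ⟨_, ⟨.inl ⟨i.1, by omega⟩, rfl⟩, by simp [tG, X, monomial_mul]⟩
      · refine ⟨_, ⟨.inr ⟨i.1 - 1, by omega⟩, rfl⟩, ?_⟩
        have e : (⟨i.1 - 1 + 1, by omega⟩ : Fin (n + 1)) = i := Fin.ext (by simp; omega)
        simp [tG, X, monomial_pow, monomial_mul, e]
    · rintro ⟨_, ⟨(i | j), rfl⟩, rfl⟩
      · exact Or.inl ⟨i.castSucc, by simp, by simp [tG, X, monomial_mul]⟩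
      · exact Or.inr ⟨⟨j.1 + 1, by omega⟩, by simp, by simp,
          by simp [tG, X, monomial_pow, monomial_mul]⟩)

/-- Indicator of a natural index. -/
def en {n : ℕ} (a : ℕ) (l : Fin (n + 1)) : ℤ := if l.1 = a then 1 else 0

variable {n q m : ℕ}

lemma sum_en {a : ℕ} (ha : a ≤ n) : ∑ l : Fin (n + 1), en a l = 1 := by
  unfold en; rw [Finset.sum_eq_single (⟨a, by omega⟩ : Fin (n + 1)) (fun j _ hj => if_neg (show ¬ j.1 = a from fun e => hj (Fin.ext e))) (by simp)]
  simp

lemma tTgt_inl (hm : m < n) (α : Fin (n + 1) → ℤ) (i : Fin n) (l : Fin (n + 1)) :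
    tgtPt (tT k n q m hm) α (.inl i) l = en 0 l + en i.1 l + α l := by
  simp only [tgtPt, tT, gensOfSpan, tG, Pi.add_apply, cast, Finsupp.add_apply, Finsupp.single_apply, en,
    Fin.ext_iff, Fin.val_castSucc, Fin.val_zero, eq_comm (a := 0), eq_comm (a := (i : ℕ))]
  push_cast; rfl

lemma tTgt_inr (hn : 3 ≤ n) (hm : m < n) (α : Fin (n + 1) → ℤ) (j : Fin m) (l : Fin (n + 1)) :
    tgtPt (tT k n q m hm) α (.inr j) l = q * en 1 l + en (j.1 + 1) l + α l := by
  simp only [tgtPt, tT, gensOfSpan, tG, Pi.add_apply, cast, Finsupp.add_apply, Finsupp.single_apply, en,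
    Fin.ext_iff, one_val hn, eq_comm (a := 1), eq_comm (a := (j : ℕ) + 1)]
  push_cast; simp

lemma tGood (hn : 3 ≤ n) (hm : m < n) (hm1 : 1 ≤ m) (hq : 1 ≤ q) {γ : Fin (n + 1) → ℤ} :
    Good (tI k n q m) γ ↔ (∀ l, 0 ≤ γ l) ∧ γ 0 ≤ 1 ∧ γ 1 ≤ q ∧
      (γ 0 = 1 → ∀ l : Fin (n + 1), l.1 ≠ 0 → l.1 ≠ n → γ l = 0) ∧
      (γ 1 = q → ∀ l : Fin (n + 1), 2 ≤ l.1 → l.1 ≤ m → γ l = 0) := by
  have h1 := one_val hn
  rw [good_iff_gens (tT k n q m hm)]
  refine and_congr_right fun h0 => ?_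
  have ga : ∀ (i : Fin n) (l : Fin (n + 1)), (((tT k n q m hm).g (.inl i) l : ℕ) : ℤ) = en 0 l + en i.1 l := by
    intro i l
    have := tTgt_inl (k := k) (q := q) hm 0 i l
    simpa [tgtPt, cast] using this
  have gb : ∀ (j : Fin m) (l : Fin (n + 1)), (((tT k n q m hm).g (.inr j) l : ℕ) : ℤ) = q * en 1 l + en (j.1 + 1) l := by
    intro j l
    have := tTgt_inr (k := k) (q := q) hn hm 0 j l
    simpa [tgtPt, cast] using this
  have at0 : ∀ l : Fin (n + 1), l.1 = 0 → γ l = γ 0 := fun l e => by rw [show l = 0 from Fin.ext e]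
  have at1 : ∀ l : Fin (n + 1), l.1 = 1 → γ l = γ 1 := fun l e => by rw [show l = 1 from Fin.ext (e.trans h1.symm)]
  constructor
  · intro h
    refine ⟨?_, ?_, fun e l hl hl' => ?_, fun e l hl hl' => ?_⟩
    · obtain ⟨l, hl⟩ := h (.inl ⟨0, by omega⟩)
      have := h0 l; rw [ga] at hl
      unfold en at hl; split_ifs at hl with a
      · have := at0 l a; omega
      · omega
    · obtain ⟨l, hl⟩ := h (.inr ⟨0, by omega⟩)
      have := h0 l; rw [gb] at hl
      simp only [en, zero_add] at hl; split_ifs at hl with a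
      · have := at1 l a; omega
      · simp at hl; omega
    · obtain ⟨l', hl''⟩ := h (.inl ⟨l.1, by omega⟩)
      have := h0 l'; have := h0 l; rw [ga] at hl''
      unfold en at hl''; dsimp only at hl''; split_ifs at hl'' with a b b
      · omega
      · have := at0 l' a; omega
      · rw [show l' = l from Fin.ext b] at hl''; omega
      · omega
    · obtain ⟨l', hl''⟩ := h (.inr ⟨l.1 - 1, by omega⟩)
      have := h0 l'; have := h0 l; rw [gb] at hl''
      simp only [en, show l.1 - 1 + 1 = l.1 by omega] at hl''; split_ifs at hl'' with a b b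
      · omega
      · have := at1 l' a; simp at hl''; omega
      · rw [show l' = l from Fin.ext b] at hl''; simp at hl''; omega
      · simp at hl''; omega
  · rintro ⟨g0, g1, gm, gq⟩ (i | j)
    · by_cases e : γ 0 = 1
      · by_cases hi : i.1 = 0
        · refine ⟨0, ?_⟩; rw [ga]; simp [en, hi]; omega
        · refine ⟨i.castSucc, ?_⟩
          rw [ga, gm e i.castSucc (by simpa using hi) (by simp; omega)]; simp [en, hi]
      · refine ⟨0, ?_⟩
        have := h0 0
        rw [ga]; simp only [en, Fin.val_zero, if_true]; split_ifs <;> omega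
    · by_cases e : γ 1 = q
      · by_cases hj : j.1 = 0
        · refine ⟨1, ?_⟩; rw [gb]; simp [en, h1, hj]; omega
        · refine ⟨⟨j.1 + 1, by omega⟩, ?_⟩
          rw [gb, gq e ⟨j.1 + 1, by omega⟩ (by simp; omega) (by simp)]; simp [en, hj]
      · refine ⟨1, ?_⟩
        rw [gb]; simp only [en, h1, if_true, mul_one]; split_ifs <;> omega

end Groth.Agent.L13.HilbPn
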