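import Groth.Agent.L13.HilbPn.TwoBlock

/-!
Degree zero homomorphisms for the two block family: the count.
-/

set_option autoImplicit false

universe u

namespace Groth.Agent.L13.HilbPn

open MvPolynomial W4c1hilbpn

variable {k : Type u} [Field k] {n q m : ℕ}

/-- The exceptional generators. -/
abbrev Exc (n q m : ℕ) : Type :=
  {i : Fin n // q = 1 ∧ i.1 ≠ 1 ∧ (n = m + 1 ∨ (n = m + 2 ∧ i.1 = m + 1))}

/-- The representatives. -/
abbrev TR (n q m : ℕ) : Type :=
  Fin n ⊕ (Fin n ⊕ (Exc n q m ⊕ (Fin m ⊕ (BX n q ⊕ (Fin (n - m) ⊕ (Fin (m - 1) × Fin (n - m)))))))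

/-- The degrees. -/
def tAl : TR n q m → Fin (n + 1) → ℤ
  | .inl i => fun l => en n l - en i.1 l
  | .inr (.inl s) => fun l =>
      (if n = m + 1 ∧ s.1 = 0 then en n l else en (s.1 + 1) l) - en 0 l
  | .inr (.inr (.inl i)) => fun l => en 1 l + en n l - en 0 l - en i.1.1 l
  | .inr (.inr (.inr (.inl j))) => fun l => en 0 l + q * en n l - q * en 1 l - en (j.1 + 1) l
  | .inr (.inr (.inr (.inr (.inl P)))) => fun l =>
      (Fin.cons 0 (fun i => (P.1 i : ℤ)) : Fin (n + 1) → ℤ) l - q * en 1 l
  | .inr (.inr (.inr (.inr (.inr (.inl t))))) => fun l => en (m + 1 + t.1) l - en 1 l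
  | .inr (.inr (.inr (.inr (.inr (.inr a))))) => fun l => en (m + 1 + a.2.1) l - en (a.1.1 + 2) l

/-- The vertices. -/
def tVe (hn : 3 ≤ n) (hm2 : 2 ≤ m) : TR n q m → Fin n ⊕ Fin m
  | .inl i => .inl i
  | .inr (.inl s) => .inl (if n = m + 1 ∧ s.1 = 0 then ⟨1, by omega⟩
      else if n = m + 1 then ⟨2, by omega⟩ else ⟨n - 1, by omega⟩)
  | .inr (.inr (.inl i)) => .inl i.1
  | .inr (.inr (.inr (.inl j))) => .inr j
  | .inr (.inr (.inr (.inr (.inl _)))) => .inr ⟨1, by omega⟩
  | .inr (.inr (.inr (.inr (.inr (.inl _))))) => .inr ⟨0, by omega⟩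
  | .inr (.inr (.inr (.inr (.inr (.inr a))))) => .inr ⟨a.1.1 + 1, by omega⟩

lemma cons_zero_val (P : Fin n → ℕ) (l : Fin (n + 1)) (h : l.1 = 0) :
    (Fin.cons 0 (fun i => (P i : ℤ)) : Fin (n + 1) → ℤ) l = 0 := by
  rw [show l = 0 from Fin.ext h]; simp

lemma cons_pos_val (P : Fin n → ℕ) (l : Fin (n + 1)) (h : l.1 ≠ 0) :
    (Fin.cons 0 (fun i => (P i : ℤ)) : Fin (n + 1) → ℤ) l = (P ⟨l.1 - 1, by omega⟩ : ℤ) := by
  have e : l = Fin.succ ⟨l.1 - 1, by omega⟩ := Fin.ext (by simp; omega)
  conv_lhs => rw [e]
  rw [Fin.cons_succ]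

lemma BX_first (hn : 3 ≤ n) (P : BX n q) : P.1 ⟨0, by omega⟩ < q := by
  have hP := P.2.1
  have := Finset.single_le_sum (f := P.1) (fun j _ => Nat.zero_le _) (Finset.mem_univ ⟨0, by omega⟩)
  rcases (hP ▸ this).lt_or_eq with hl | he
  · exact hl
  · exfalso
    refine P.2.2 (funext fun i => ?_)
    by_cases hi : i.1 = 0
    · rw [if_pos hi, show i = ⟨0, by omega⟩ from Fin.ext hi, he]
    · rw [if_neg hi]
      have h2 := Finset.add_le_sum (f := P.1) (fun j _ => Nat.zero_le _) (Finset.mem_univ ⟨0, by omega⟩)
        (Finset.mem_univ i) (fun e => hi (by rw [← e]))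
      rw [hP, he] at h2
      omega

lemma inj_eval {e₁ e₂ : Fin (n + 1) → ℤ} (h : e₁ = e₂) (a : ℕ) (ha : a ≤ n) :
    e₁ ⟨a, by omega⟩ = e₂ ⟨a, by omega⟩ := by rw [h]

lemma tAl_sum (hn : 3 ≤ n) (hmn : m < n) (hm2 : 2 ≤ m) (r : TR n q m) : ∑ l, tAl r l = 0 := by
  rcases r with i | s | i | j | P | t | a <;>
    simp only [tAl, Finset.sum_sub_distrib, Finset.sum_add_distrib, ← Finset.mul_sum]
  · rw [sum_en le_rfl, sum_en (by omega : i.1 ≤ n)]; ring
  · by_cases h : n = m + 1 ∧ s.1 = 0 <;> [simp only [if_pos h]; simp only [if_neg h]]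
    · rw [sum_en le_rfl, sum_en (Nat.zero_le n)]; ring
    · rw [sum_en (by omega : s.1 + 1 ≤ n), sum_en (Nat.zero_le n)]; ring
  · rw [sum_en (by omega : 1 ≤ n), sum_en le_rfl, sum_en (Nat.zero_le n), sum_en (by omega : i.1.1 ≤ n)]
    ring
  · rw [sum_en (Nat.zero_le n), sum_en le_rfl, sum_en (by omega : 1 ≤ n), sum_en (by omega : j.1 + 1 ≤ n)]
    ring
  · rw [sum_en (by omega : 1 ≤ n), Fin.sum_univ_succ]
    simp only [Fin.cons_zero, Fin.cons_succ]
    have := P.2.1
    rw [mul_one, zero_add, ← Nat.cast_sum, this]; ring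
  · rw [sum_en (by omega : m + 1 + t.1 ≤ n), sum_en (by omega : 1 ≤ n)]; ring
  · rw [sum_en (by omega : m + 1 + a.2.1 ≤ n), sum_en (by omega : a.1.1 + 2 ≤ n)]; ring

lemma tAl_inj (hn : 3 ≤ n) (hmn : m < n) (hm2 : 2 ≤ m) (hq : 1 ≤ q) :
    Function.Injective fun r : TR n q m => (tAl r, tVe hn hm2 r) := by
  intro r r' e
  obtain ⟨ea, ev⟩ := Prod.mk.injEq _ _ _ _ ▸ e
  have h0 := inj_eval ea 0 (Nat.zero_le n)
  have h1 := inj_eval ea 1 (by omega)
  have hN := inj_eval ea n le_rfl
  rcases r with i | s | i | j | P | t | a <;> rcases r' with i' | s' | i' | j' | P' | t' | a' <;>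
    simp only [tVe, Sum.inl.injEq, Sum.inr.injEq, reduceCtorEq] at ev
  -- first family
  · rw [ev]
  · exfalso
    simp [tAl, en, ev] at h0
    have hv := congrArg Fin.val ev
    split_ifs at h0 hv <;> simp_all <;> omega
  · exfalso
    simp only [tAl, en, ev, if_true] at h0 h1
    have := i'.2.2.1
    split_ifs at h0 h1 <;> omega
  · exfalso
    simp [tAl, en, ← ev] at h0
    have hv := congrArg Fin.val ev
    split_ifs at h0 hv <;> simp_all <;> omega
  · congr 2
    have hv := congrArg Fin.val ev
    have hs := inj_eval ea (s.1 + 1) (by omega)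
    simp only [tAl, en] at hs hN
    apply Fin.ext
    split_ifs at hv hs hN <;> simp at hv ⊢ <;> omega
  · exfalso
    simp only [tAl, en, ← ev, if_true] at h0 h1
    have hv := congrArg Fin.val ev
    have := i'.2.2.1
    simp only [tAl, en, if_true] at hN
    clear ea ev e
    split_ifs at h0 h1 hv hN <;> first | omega | (simp at hv ⊢ <;> omega) | simp_all
  · exfalso
    simp only [tAl, en, ← ev, if_true] at h0 h1
    have := i.2.2.1
    split_ifs at h0 h1 <;> omega
  · exfalso
    simp only [tAl, en, ev, if_true] at h0 h1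
    have hv := congrArg Fin.val ev
    have := i.2.2.1
    simp only [tAl, en, if_true] at hN
    clear ea ev e
    split_ifs at h0 h1 hv hN <;> first | omega | (simp at hv ⊢ <;> omega) | simp_all
  · rw [Subtype.ext ev]
  -- second block
  · rw [ev]
  · exfalso; simp [tAl, en, cons_zero_val] at h0
    split_ifs at h0 <;> omega
  · exfalso; simp [tAl, en] at h0
    split_ifs at h0 <;> omega
  · exfalso; simp [tAl, en] at h0
    split_ifs at h0 <;> omega
  · exfalso; simp [tAl, en, cons_zero_val] at h0
    split_ifs at h0 <;> omega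
  · have : P = P' := by
      refine Subtype.ext (funext fun l => ?_)
      have := congrFun ea l.succ
      simpa [tAl] using this
    rw [this]
  · exfalso; simpa using congrArg Fin.val ev
  · exfalso
    have hv := congrArg Fin.val ev
    have h2 := inj_eval ea (a'.1.1 + 2) (by omega)
    simp only [tAl, en] at h2
    rw [cons_pos_val _ _ (by simp)] at h2
    simp at hv
    simp [hv] at h2
    split_ifs at h2 <;> omega
  · exfalso; simp [tAl, en] at h0
    split_ifs at h0 <;> omega
  · exfalso; simpa using congrArg Fin.val ev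
  · suffices t = t' by rw [this]
    have h2 := inj_eval ea (m + 1 + t.1) (by omega)
    simp only [tAl, en] at h2
    apply Fin.ext
    split_ifs at h2 <;> omega
  · exfalso; simpa using congrArg Fin.val ev
  · exfalso; simp [tAl, en] at h0
    split_ifs at h0 <;> omega
  · exfalso
    have hv := congrArg Fin.val ev
    have h2 := inj_eval ea (a.1.1 + 2) (by omega)
    simp only [tAl, en] at h2
    rw [cons_pos_val _ _ (by simp)] at h2
    simp at hv
    simp [hv] at h2
    split_ifs at h2 <;> omega
  · exfalso; simpa using congrArg Fin.val ev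
  · suffices a = a' by rw [this]
    have hv := congrArg Fin.val ev
    have h2 := inj_eval ea (m + 1 + a.2.1) (by omega)
    simp only [tAl, en] at h2
    simp at hv
    refine Prod.ext (Fin.ext hv) (Fin.ext ?_)
    split_ifs at h2 <;> omega

lemma not_good_wit (hn : 3 ≤ n) (hm : m < n) (hm1 : 1 ≤ m) (hq : 1 ≤ q) {γ : Fin (n + 1) → ℤ}
    (h : 2 ≤ γ 0 ∨ (q : ℤ) < γ 1 ∨
      (∃ a, 1 ≤ a ∧ ∃ (ha : a < n), 1 ≤ γ 0 ∧ 1 ≤ γ ⟨a, by omega⟩) ∨
      (∃ a, 2 ≤ a ∧ ∃ (ha : a ≤ m), (q : ℤ) ≤ γ 1 ∧ 1 ≤ γ ⟨a, by omega⟩)) :
    ¬ Good (tI k n q m) γ := by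
  intro hg
  obtain ⟨-, g0, g1, gm, gq⟩ := (tGood hn hm hm1 hq).mp hg
  rcases h with h | h | ⟨a, a1, ha, b0, b1⟩ | ⟨a, a2, ha, b0, b1⟩
  · omega
  · omega
  · have := gm (by omega) ⟨a, by omega⟩ (by simp; omega) (by simp; omega)
    omega
  · have := gq (by omega) ⟨a, by omega⟩ (by simpa using a2) (by simpa using ha)
    omega

lemma en_self (a : ℕ) (ha : a ≤ n) : en a (⟨a, by omega⟩ : Fin (n + 1)) = 1 := by simp [en]

lemma en_ne {a : ℕ} {l : Fin (n + 1)} (h : l.1 ≠ a) : en a l = 0 := if_neg h

lemma en_nonneg (a : ℕ) (l : Fin (n + 1)) : 0 ≤ en a l := by unfold en; split_ifs <;> omega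

/-- The standing assumption on the parameters. -/
def Param (n q m : ℕ) : Prop := m + 3 ≤ n ∨ (n = m + 2 ∧ 3 ≤ q) ∨ q = 1

lemma tHzero (hn : 3 ≤ n) (hm : m < n) (hm2 : 2 ≤ m) (hq : 1 ≤ q) (H : Param n q m)
    (α : Fin (n + 1) → ℤ) (v : Fin n ⊕ Fin m → k) (hα : ∑ l, α l = 0) (hv : Valid (tT k n q m hm) α v)
    (hrep : ∀ r : TR n q m, tAl r = α → v (tVe hn hm2 r) = 0) : ∀ x, v x = 0 := by
  classical
  have hm1 : 1 ≤ m := by omega
  have G := @tGood k _ n q m hn hm hm1 hq
  have h1 := one_val hn
  have hmod : 1 % (n + 1) = 1 := Nat.mod_eq_of_lt (by omega)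
  have hn0 : n ≠ 0 := by omega
  have hnp : 0 < n := by omega
  intro x
  by_contra hne
  have hg : Good (tI k n q m) (tgtPt (tT k n q m hm) α x) := by_contra fun h => hne (hv.1 x h)
  obtain ⟨hnn, h01, h1q, hmid, hqm⟩ := G.mp hg
  -- adding a unit vector
  have step : ∀ (δ : Fin (n + 1) → ℤ), (∀ l, 0 ≤ δ l) → δ 0 = 0 → δ 1 ≤ q →
      (δ 1 = q → ∀ l : Fin (n + 1), 2 ≤ l.1 → l.1 ≤ m → δ l = 0) → ∀ a, 1 ≤ a → a ≤ n →
      (a = 1 → δ 1 + 1 ≤ q ∧ (δ 1 + 1 = q → ∀ l : Fin (n + 1), 2 ≤ l.1 → l.1 ≤ m → δ l = 0)) →
      (2 ≤ a → a ≤ m → δ 1 < q) → Good (tI k n q m) (fun l => δ l + en a l) := by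
    intro δ d0 z0 d1 dq a a1 an c1 c2
    refine G.mpr ⟨fun l => by have := d0 l; have := en_nonneg (n := n) a l; omega, ?_, ?_, ?_, ?_⟩
    · simp only [z0, en, Fin.val_zero]; split_ifs <;> omega
    · simp only [en, h1]; split_ifs with e
      · exact (c1 e.symm).1
      · omega
    · intro e; simp only [z0, en, Fin.val_zero] at e; split_ifs at e <;> omega
    · intro e l hl hl'
      simp only [en, h1] at e ⊢
      split_ifs at e with ea
      · obtain rfl := ea
        rw [if_neg (by omega), add_zero]
        exact (c1 rfl).2 e l hl hl'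
      · rw [add_zero] at e
        have hz := dq e l hl hl'
        by_cases el : l.1 = a
        · have := c2 (by omega) (by omega); omega
        · rw [if_neg el, hz, add_zero]
  rcases x with i | j
  · set δ := tgtPt (tT k n q m hm) α (.inl i) with hδ
    have hd : ∀ l, δ l = en 0 l + en i.1 l + α l := tTgt_inl hm α i
    have hsum : ∑ l, δ l = 2 := by
      simp only [hd, Finset.sum_add_distrib, hα, add_zero, sum_en (Nat.zero_le n), sum_en (by omega : i.1 ≤ n)]
      norm_num
    rcases (show δ 0 = 0 ∨ δ 0 = 1 by have := hnn 0; omega) with h0 | h0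
    swap
    · refine hne (hrep (.inl i) (funext fun l => ?_))
      rw [sum_split δ 0 (Fin.last n) (by simp [Fin.ext_iff]; omega) fun l a b => hmid h0 l
        (fun e => a (Fin.ext e)) (fun e => b (Fin.ext e)), h0] at hsum
      have := hd l
      simp only [tAl]
      by_cases a : l.1 = 0
      · rw [show l = 0 from Fin.ext a] at this ⊢
        rw [h0] at this
        simp [en, show ¬ (0 = n) by omega] at this ⊢
        omega
      by_cases b : l.1 = n
      · rw [show l = Fin.last n from Fin.ext b] at this ⊢
        simp [en, show n ≠ i.1 by omega, show n ≠ 0 by omega] at this ⊢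
        omega
      · rw [hmid h0 l a b, en_ne a] at this
        rw [en_ne b]
        omega
    -- now the first coordinate of the target vanishes
    have moveTo : ∀ a, 1 ≤ a → (ha : a < n) → a ≠ i.1 → Good (tI k n q m) (fun l => δ l + en a l) →
        (∀ l, tgtPt (tT k n q m hm) α (.inl ⟨a, ha⟩) l ≤ δ l + en a l) →
        v (.inl i) = v (.inl ⟨a, ha⟩) := by
      intro a _ ha hai hgd hle
      refine hv.2 (.inl i) (.inl ⟨a, ha⟩) ?_
      convert hgd using 1
      funext l
      have h2 := hle l
      rw [← hδ, tTgt_inl] at *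
      have := hd l
      have := hnn l
      simp only [en] at *
      split_ifs at * <;> omega
    by_cases hi : 1 ≤ i.1 ∧ 1 ≤ δ i.castSucc
    · obtain ⟨hi0, hδi⟩ := hi
      let D : Fin (n + 1) → ℤ := fun l => δ l - en i.1 l
      have hD0 : ∀ l, 0 ≤ D l := fun l => by
        have := hnn l
        simp only [D, en]
        split_ifs with e
        · rw [show l = i.castSucc from Fin.ext e]; omega
        · omega
      have hDs : ∑ l, D l = 1 := by
        simp only [D, Finset.sum_sub_distrib, hsum, sum_en (by omega : i.1 ≤ n)]; norm_num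
      obtain ⟨s, hs⟩ : ∃ s, D s ≠ 0 := by
        by_contra hall; push Not at hall; simp [hall] at hDs
      have hDv : ∀ l, D l = en s.1 l := fun l => by
        have hle := Finset.single_le_sum (f := D) (fun j _ => hD0 j) (Finset.mem_univ s)
        have := hD0 s
        unfold en; split_ifs with e
        · rw [show l = s from Fin.ext e]; omega
        · have h2 := Finset.add_le_sum (f := D) (fun j _ => hD0 j) (Finset.mem_univ l) (Finset.mem_univ s)
            (fun e' => e (by rw [e']))
          have := hD0 l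
          omega
      have hs0 : s.1 ≠ 0 := fun e => by
        have := hDv 0
        simp only [D, h0, en, Fin.val_zero] at this
        rw [if_neg (by omega), if_pos e.symm] at this; omega
      have hα' : ∀ l, α l = D l - en 0 l := fun l => by simp only [D, hd]; ring
      have hδs : ∀ l, δ l = en s.1 l + en i.1 l := fun l => by rw [← hDv]; simp [D]
      by_cases hr : n = m + 1
      · have hq1 : q = 1 := by rcases H with h | h | h <;> omega
        by_cases hs1 : s.1 = 1
        · exfalso
          have e : δ 1 = 1 + en i.1 (1 : Fin (n + 1)) := by rw [hδs]; simp [en, h1, hmod, hn0, hnp, hs1]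
          rcases eq_or_ne i.1 1 with ei | ei
          · rw [e] at h1q; simp [en, h1, hmod, hn0, hnp, ei, hq1] at h1q
          · have := hqm (by rw [e]; simp [en, h1, hmod, hn0, hnp, Ne.symm ei, hq1]) i.castSucc (by simp; omega) (by simp; omega)
            omega
        · rcases eq_or_ne i.1 1 with ei | ei
          · have hsn : s.1 = n := by
              by_contra hne'
              have := hqm (by rw [hδs]; simp [en, h1, hmod, hn0, hnp, ei, hq1, Ne.symm hs1]) s (by omega) (by omega)
              rw [hδs] at this; simp [en, ei, hs1] at this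
            refine hne ?_
            have := hrep (.inr (.inl ⟨0, by omega⟩)) (funext fun l => by
              simp [tAl, hα', hDv, hsn, hr])
            simp [tVe, hr] at this
            rwa [show i = ⟨1, by omega⟩ from Fin.ext ei]
          · have hcond : ¬ (n = m + 1 ∧ s.1 - 1 = 0) := by omega
            have hrep2 := hrep (.inr (.inl ⟨s.1 - 1, by omega⟩)) (funext fun l => by
              simp only [tAl, hα', hDv, if_neg hcond, show s.1 - 1 + 1 = s.1 by omega])
            simp only [tVe, if_neg hcond, if_pos hr] at hrep2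
            rcases eq_or_ne i.1 2 with ei2 | ei2
            · exact hne (by rwa [show i = ⟨2, by omega⟩ from Fin.ext ei2])
            refine hne ((moveTo 2 (by omega) (by omega) (Ne.symm ei2)
              (step δ hnn h0 h1q hqm 2 (by omega) (by omega) (by omega) fun _ _ => ?_) fun l => ?_).trans hrep2)
            · rw [hδs]; simp [en, h1, hmod, hn0, hnp, Ne.symm hs1, Ne.symm ei, hq1]
            · rw [tTgt_inl, hα', hDv, hδs]; have := en_nonneg (n := n) i.1 l; dsimp only; omega
      · have hcond : ¬ (n = m + 1 ∧ s.1 - 1 = 0) := by omega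
        have hrep2 := hrep (.inr (.inl ⟨s.1 - 1, by omega⟩)) (funext fun l => by
          simp only [tAl, hα', hDv, if_neg hcond, show s.1 - 1 + 1 = s.1 by omega])
        simp only [tVe, if_neg hcond, if_neg hr] at hrep2
        rcases eq_or_ne i.1 (n - 1) with ei | ei
        · exact hne (by rwa [show i = ⟨n - 1, by omega⟩ from Fin.ext ei])
        refine hne ((moveTo (n - 1) (by omega) (by omega) (Ne.symm ei)
          (step δ hnn h0 h1q hqm (n - 1) (by omega) (by omega) (by omega) (by omega)) fun l => ?_).trans hrep2)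
        rw [tTgt_inl, hα', hDv, hδs]; have := en_nonneg (n := n) i.1 l; dsimp only; omega
    · -- a vertex with a negative coordinate
      have hzi : δ i.castSucc = 0 := by
        rcases Nat.eq_zero_or_pos i.1 with e | e
        · rw [show i.castSucc = (0 : Fin (n + 1)) from Fin.ext e, h0]
        · have : ¬ 1 ≤ δ i.castSucc := fun h => hi ⟨e, h⟩
          have := hnn i.castSucc
          omega
      have kill : ∀ a, 1 ≤ a → a < n → a ≠ i.1 →
          (a = 1 → δ 1 + 1 ≤ q ∧ (δ 1 + 1 = q → ∀ l : Fin (n + 1), 2 ≤ l.1 → l.1 ≤ m → δ l = 0)) →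
          (2 ≤ a → a ≤ m → δ 1 < q) → False := by
        intro a a1 ha hai c1 c2
        refine hne ((moveTo a a1 ha hai (step δ hnn h0 h1q hqm a a1 ha.le c1 c2) fun l => ?_).trans
          (hv.1 _ fun h => ?_))
        · rw [tTgt_inl]; have := hd l; have := hnn l; have := en_nonneg (n := n) i.1 l
          have := en_nonneg (n := n) a l; dsimp only; omega
        · have h2 := h.1 i.castSucc
          rw [tTgt_inl] at h2
          rw [hd] at hzi
          simp [en, Ne.symm hai] at h2 hzi
          omega
      by_cases hRl : ∃ a, m < a ∧ a < n ∧ a ≠ i.1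
      · obtain ⟨a, ha, han, hai⟩ := hRl
        exact kill a (by omega) han hai (by omega) (by omega)
      push Not at hRl
      have hsmall : n = m + 1 ∨ (n = m + 2 ∧ i.1 = m + 1) := by
        rcases (show n = m + 1 ∨ n = m + 2 ∨ m + 3 ≤ n by omega) with h | h | h
        · exact Or.inl h
        · exact Or.inr ⟨h, (hRl (m + 1) (by omega) (by omega)).symm⟩
        · have := hRl (m + 1) (by omega) (by omega)
          have := hRl (m + 2) (by omega) (by omega)
          omega
      by_cases hq1 : q = 1
      swap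
      · have h2n : n = m + 2 ∧ 3 ≤ q := by rcases H with h | h | h <;> omega
        refine kill 2 (by omega) (by omega) (by omega) (by omega) fun _ _ => ?_
        have := Finset.single_le_sum (f := δ) (fun j _ => hnn j) (Finset.mem_univ (1 : Fin (n + 1)))
        omega
      rcases (show δ 1 = 0 ∨ δ 1 = 1 by have := hnn 1; omega) with e1 | e1
      · by_cases hl : ∃ a, 2 ≤ a ∧ a ≤ m ∧ a ≠ i.1
        · obtain ⟨a, ha, ham, hai⟩ := hl
          exact kill a (by omega) (by omega) hai (by omega) fun _ _ => by omega
        push Not at hl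
        have e2 : 2 = i.1 := hl 2 le_rfl hm2
        refine kill 1 le_rfl (by omega) (by omega) (fun _ => ⟨by omega, fun _ l hl2 hlm => ?_⟩) (by omega)
        have := hl l.1 hl2 hlm
        rw [show l = i.castSucc from Fin.ext this, hzi]
      · have hi1 : i.1 ≠ 1 := fun e => by
          rw [show i.castSucc = (1 : Fin (n + 1)) from Fin.ext (e.trans h1.symm), e1] at hzi; omega
        have key : ∀ l : Fin (n + 1), l.1 ≠ 1 → l.1 ≠ n → δ l = 0 := fun l a b => by
          rcases (show l.1 = 0 ∨ (2 ≤ l.1 ∧ l.1 ≤ m) ∨ (n = m + 2 ∧ l.1 = i.1) by omega) with e | e | e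
          · rw [show l = 0 from Fin.ext e, h0]
          · exact hqm (by omega) l e.1 e.2
          · rw [show l = i.castSucc from Fin.ext e.2, hzi]
        refine hne (hrep (.inr (.inr (.inl ⟨i, hq1, hi1, hsmall⟩))) (funext fun l => ?_))
        rw [sum_split δ 1 (Fin.last n) (by simp [Fin.ext_iff, h1]; omega) fun l a b => key l
          (fun e => a (Fin.ext (e.trans h1.symm))) (fun e => b (Fin.ext e)), e1] at hsum
        have := hd l
        simp only [tAl]
        by_cases a : l.1 = 1
        · rw [show δ l = 1 by rw [show l = 1 from Fin.ext (a.trans h1.symm), e1]] at this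
          simp only [en] at this ⊢; split_ifs at this ⊢ <;> omega
        by_cases b : l.1 = n
        · rw [show δ l = 1 by rw [show l = Fin.last n from Fin.ext b]; omega] at this
          simp only [en] at this ⊢; split_ifs at this ⊢ <;> omega
        · rw [key l a b] at this
          rw [en_ne a, en_ne b]; omega
  · set δ := tgtPt (tT k n q m hm) α (.inr j) with hδ
    have hd : ∀ l, δ l = q * en 1 l + en (j.1 + 1) l + α l := tTgt_inr hn hm α j
    have hsum : ∑ l, δ l = q + 1 := by
      simp only [hd, Finset.sum_add_distrib, hα, add_zero, ← Finset.mul_sum, sum_en (by omega : 1 ≤ n),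
        sum_en (by omega : j.1 + 1 ≤ n)]
      norm_num
    rcases (show δ 0 = 0 ∨ δ 0 = 1 by have := hnn 0; omega) with h0 | h0
    swap
    · refine hne (hrep (.inr (.inr (.inr (.inl j)))) (funext fun l => ?_))
      rw [sum_split δ 0 (Fin.last n) (by simp [Fin.ext_iff]; omega) fun l a b => hmid h0 l
        (fun e => a (Fin.ext e)) (fun e => b (Fin.ext e)), h0] at hsum
      have := hd l
      simp only [tAl]
      by_cases a : l.1 = 0
      · rw [show δ l = 1 by rw [show l = 0 from Fin.ext a, h0]] at this
        simp only [en] at this ⊢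
        rw [if_neg (show l.1 ≠ n by omega), if_pos a] at *
        omega
      by_cases b : l.1 = n
      · rw [show δ l = q by rw [show l = Fin.last n from Fin.ext b]; omega] at this
        rw [en_ne a, show en n l = 1 from if_pos b]
        rw [show en 1 l = 0 from en_ne (by omega), show en (j.1 + 1) l = 0 from en_ne (by omega)] at this ⊢
        omega
      · rw [hmid h0 l a b] at this
        rw [en_ne a, en_ne b]; omega
    let jl : Fin (n + 1) := ⟨j.1 + 1, by omega⟩
    have hgood : ∀ a, 1 ≤ a → (ha : a ≤ m) → a ≠ j.1 + 1 → Good (tI k n q m) (fun l => δ l + en a l) →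
        (∀ l, tgtPt (tT k n q m hm) α (.inr ⟨a - 1, by omega⟩) l ≤ δ l + en a l) →
        v (.inr j) = v (.inr ⟨a - 1, by omega⟩) := by
      intro a a1 ha haj hgd hle
      refine hv.2 (.inr j) (.inr ⟨a - 1, by omega⟩) ?_
      convert hgd using 1
      funext l
      have h2 := hle l
      rw [← hδ, tTgt_inr hn] at *
      have := hd l
      have := hnn l
      simp only [en, show a - 1 + 1 = a by omega] at *
      split_ifs at * <;> omega
    by_cases hj : 1 ≤ δ jl
    · by_cases hs : j.1 = 0 ∧ δ 1 = q
      · obtain ⟨hj0, hq'⟩ := hs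
        have hs2 : ∑ l, (δ l - q * en 1 l) = 1 := by
          rw [Finset.sum_sub_distrib, hsum, ← Finset.mul_sum, sum_en (by omega : 1 ≤ n)]; ring
        have hD0 : ∀ l, 0 ≤ δ l - q * en 1 l := fun l => by
          have := hnn l; simp only [en]; split_ifs with e
          · rw [show l = 1 from Fin.ext (e.trans h1.symm)]; omega
          · omega
        obtain ⟨x, hx⟩ : ∃ x, δ x - q * en 1 x ≠ 0 := by
          by_contra hall; push Not at hall; simp [hall] at hs2
        have hDv : ∀ l, δ l - q * en 1 l = en x.1 l := fun l => by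
          have hle := Finset.single_le_sum (f := fun l => δ l - q * en 1 l) (fun j _ => hD0 j) (Finset.mem_univ x)
          have := hD0 x
          rcases eq_or_ne l.1 x.1 with e | e
          · rw [show l = x from Fin.ext e, show en x.1 x = 1 from if_pos rfl]; omega
          · rw [en_ne e]
            have h2 := Finset.add_le_sum (f := fun l => δ l - q * en 1 l) (fun j _ => hD0 j) (Finset.mem_univ l)
              (Finset.mem_univ x) (fun e' => e (by rw [e']))
            have := hD0 l
            omega
        have hxm : m < x.1 := by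
          by_contra hxm
          rcases (show x.1 = 0 ∨ x.1 = 1 ∨ (2 ≤ x.1 ∧ x.1 ≤ m) by omega) with e | e | e
          · refine hx ?_; rw [show x = 0 from Fin.ext e, h0]; simp [en]
          · refine hx ?_; rw [show x = 1 from Fin.ext (e.trans h1.symm), hq']; simp [en, h1, hmod, hn0, hnp]
          · refine hx ?_; rw [hqm hq' x e.1 e.2, en_ne (by omega)]; simp
        refine hne ?_
        have := hrep (.inr (.inr (.inr (.inr (.inr (.inl ⟨x.1 - (m + 1), by omega⟩)))))) (funext fun l => by
          have := hDv l; have := hd l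
          simp only [tAl, show m + 1 + (x.1 - (m + 1)) = x.1 by omega, hj0, zero_add] at *
          omega)
        simp only [tVe] at this
        rwa [show j = ⟨0, by omega⟩ from Fin.ext hj0]
      · -- moving to the second generator
        let P : Fin n → ℕ := fun a => (δ a.succ - en (j.1 + 1) a.succ).toNat
        have hP : ∀ a : Fin n, (P a : ℤ) = δ a.succ - en (j.1 + 1) a.succ := fun a => Int.toNat_of_nonneg (by
          have := hnn a.succ; simp only [en]; split_ifs with e
          · rw [show a.succ = jl from Fin.ext e]; omega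
          · omega)
        have hd1lt : δ 1 - en (j.1 + 1) (1 : Fin (n + 1)) < q := by
          simp only [en, h1]; split_ifs with e
          · omega
          · by_contra hge
            have := hqm (by omega) jl (by simp [jl]; omega) (by simp [jl])
            omega
        have hPs : ∑ a, P a = q := by
          have h2 : ((∑ a, P a : ℕ) : ℤ) = q := by
            push_cast [hP]
            rw [Finset.sum_sub_distrib]
            have e1 := hsum
            have e2 := sum_en (n := n) (by omega : j.1 + 1 ≤ n)
            rw [Fin.sum_univ_succ, h0, zero_add] at e1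
            rw [Fin.sum_univ_succ, en_ne (by simp : ((0 : Fin (n + 1)) : ℕ) ≠ j.1 + 1), zero_add] at e2
            omega
          exact_mod_cast h2
        have hone : (Fin.succ (⟨0, by omega⟩ : Fin n)) = (1 : Fin (n + 1)) :=
          Fin.ext (by rw [Fin.val_succ, h1])
        have hPne : P ≠ fun i => if i.1 = 0 then q else 0 := fun e => by
          have := hP ⟨0, by omega⟩
          rw [congrFun e ⟨0, by omega⟩, if_pos rfl, hone] at this
          omega
        have hrep2 := hrep (.inr (.inr (.inr (.inr (.inl ⟨P, hPs, hPne⟩))))) (funext fun l => by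
          have := hd l
          simp only [tAl]
          rcases eq_or_ne l.1 0 with e | e
          · rw [cons_zero_val _ _ e]
            rw [show δ l = 0 by rw [show l = 0 from Fin.ext e, h0], en_ne (a := j.1 + 1) (by omega)] at this
            omega
          · rw [cons_pos_val _ _ e, hP, show (Fin.succ (⟨l.1 - 1, by omega⟩ : Fin n)) = l from Fin.ext (by simp; omega)]
            omega)
        simp only [tVe] at hrep2
        rcases eq_or_ne j.1 1 with ej | ej
        · exact hne (by rwa [show j = ⟨1, by omega⟩ from Fin.ext ej])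
        refine hne ((hgood 2 (by omega) hm2 (by omega)
          (step δ hnn h0 h1q hqm 2 (by omega) (by omega) (by omega) fun _ _ => ?_) fun l => ?_).trans hrep2)
        · simp only [en, h1] at hd1lt; split_ifs at hd1lt with e
          · by_contra hge
            exact hs ⟨by omega, by omega⟩
          · omega
        · rw [tTgt_inr hn, hd]; simp only [en]
          have := hnn l
          rcases eq_or_ne l.1 (j.1 + 1) with e | e
          · rw [show l = jl from Fin.ext e] at *
            rw [hd] at hj; simp only [en] at hj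
            split_ifs at * <;> omega
          · split_ifs <;> omega
    · -- a vertex with a negative coordinate
      have hzj : δ jl = 0 := by have := hnn jl; omega
      have kill : ∀ a, 1 ≤ a → (ha : a ≤ m) → a ≠ j.1 + 1 →
          (a = 1 → δ 1 + 1 ≤ q ∧ (δ 1 + 1 = q → ∀ l : Fin (n + 1), 2 ≤ l.1 → l.1 ≤ m → δ l = 0)) →
          (2 ≤ a → a ≤ m → δ 1 < q) → False := by
        intro a a1 ha haj c1 c2
        refine hne ((hgood a a1 ha haj (step δ hnn h0 h1q hqm a a1 (by omega) c1 c2) fun l => ?_).trans
          (hv.1 _ fun h => ?_))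
        · rw [tTgt_inr hn, hd]; simp only [show a - 1 + 1 = a by omega]
          have := en_nonneg (n := n) (j.1 + 1) l; omega
        · have h2 := h.1 jl
          rw [tTgt_inr hn, show en (a - 1 + 1) jl = 0 from en_ne (by simp [jl]; omega)] at h2
          rw [hd, show en (j.1 + 1) jl = 1 from if_pos rfl] at hzj
          omega
      rcases lt_or_eq_of_le h1q with hlt | heq
      · by_cases hl : ∃ a, 2 ≤ a ∧ a ≤ m ∧ a ≠ j.1 + 1
        · obtain ⟨a, ha, ham, haj⟩ := hl
          exact kill a (by omega) ham haj (by omega) fun _ _ => hlt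
        push Not at hl
        have := hl 2 le_rfl hm2
        refine kill 1 le_rfl (by omega) (by omega) (fun _ => ⟨by omega, fun _ l hl2 hlm => ?_⟩) (by omega)
        have := hl l.1 hl2 hlm
        rw [show l = jl from Fin.ext this, hzj]
      · have hj0 : j.1 ≠ 0 := fun e => by
          rw [show jl = (1 : Fin (n + 1)) from Fin.ext (by simp [jl, h1, hmod, e]), heq] at hzj; omega
        have hs2 : ∑ l, (δ l - q * en 1 l) = 1 := by
          rw [Finset.sum_sub_distrib, hsum, ← Finset.mul_sum, sum_en (by omega : 1 ≤ n)]; ring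
        have hD0 : ∀ l, 0 ≤ δ l - q * en 1 l := fun l => by
          have := hnn l; simp only [en]; split_ifs with e
          · rw [show l = 1 from Fin.ext (e.trans h1.symm)]; omega
          · omega
        obtain ⟨x, hx⟩ : ∃ x, δ x - q * en 1 x ≠ 0 := by
          by_contra hall; push Not at hall; simp [hall] at hs2
        have hDv : ∀ l, δ l - q * en 1 l = en x.1 l := fun l => by
          have hle := Finset.single_le_sum (f := fun l => δ l - q * en 1 l) (fun j _ => hD0 j) (Finset.mem_univ x)
          have := hD0 x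
          rcases eq_or_ne l.1 x.1 with e | e
          · rw [show l = x from Fin.ext e, show en x.1 x = 1 from if_pos rfl]; omega
          · rw [en_ne e]
            have h2 := Finset.add_le_sum (f := fun l => δ l - q * en 1 l) (fun j _ => hD0 j) (Finset.mem_univ l)
              (Finset.mem_univ x) (fun e' => e (by rw [e']))
            have := hD0 l
            omega
        have hxm : m < x.1 := by
          by_contra hxm
          rcases (show x.1 = 0 ∨ x.1 = 1 ∨ (2 ≤ x.1 ∧ x.1 ≤ m) by omega) with e | e | e
          · refine hx ?_; rw [show x = 0 from Fin.ext e, h0]; simp [en]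
          · refine hx ?_; rw [show x = 1 from Fin.ext (e.trans h1.symm), heq]; simp [en, h1, hmod, hn0, hnp]
          · refine hx ?_; rw [hqm heq x e.1 e.2, en_ne (by omega)]; simp
        refine hne ?_
        have := hrep (.inr (.inr (.inr (.inr (.inr (.inr (⟨j.1 - 1, by omega⟩, ⟨x.1 - (m + 1), by omega⟩)))))))
          (funext fun l => by
          have := hDv l; have := hd l
          simp only [tAl, show m + 1 + (x.1 - (m + 1)) = x.1 by omega, show j.1 - 1 + 2 = j.1 + 1 by omega] at *
          omega)
        simp only [tVe] at this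
        rwa [show j = ⟨j.1 - 1 + 1, by omega⟩ from Fin.ext (by simp; omega)]

local macro "oa" : tactic => `(tactic| first | omega | contradiction | (simp_all <;> omega))

lemma single_basis (hn : 3 ≤ n) (hm : m < n) (hm2 : 2 ≤ m) (hq : 1 ≤ q) (r : TR n q m)
    (hg : Good (tI k n q m) (tgtPt (tT k n q m hm) (tAl r) (tVe hn hm2 r)))
    (he : ∀ y, y ≠ tVe hn hm2 r → ¬ Good (tI k n q m)
      (fun l => max (tgtPt (tT k n q m hm) (tAl r) (tVe hn hm2 r) l) (tgtPt (tT k n q m hm) (tAl r) y l))) :
    ∃ v : Fin n ⊕ Fin m → k, Valid (tT k n q m hm) (tAl r) v ∧ v (tVe hn hm2 r) = 1 ∧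
      ∀ r' : TR n q m, tAl r' = tAl r → r' ≠ r → v (tVe hn hm2 r') = 0 := by
  classical
  refine ⟨fun y => if y = tVe hn hm2 r then 1 else 0, ⟨fun y hy => ?_, fun a b hab => ?_⟩, if_pos rfl,
    fun r' e hne => if_neg fun e' => hne (tAl_inj hn hm hm2 hq (Prod.ext e e'))⟩
  · exact if_neg fun e => hy (by rw [e]; exact hg)
  · by_cases ea : a = tVe hn hm2 r <;> by_cases eb : b = tVe hn hm2 r
    · simp only [ea, eb]
    · exact absurd (by rw [ea] at hab; exact hab) (he b eb)
    · exact absurd (by rw [eb] at hab; simpa only [max_comm] using hab) (he a ea)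
    · simp only [if_neg ea, if_neg eb]

lemma tTgt_nn_le {γ δ : Fin (n + 1) → ℤ} (l : Fin (n + 1)) :
    γ l ≤ max (γ l) (δ l) ∧ δ l ≤ max (γ l) (δ l) := ⟨le_max_left _ _, le_max_right _ _⟩

lemma tHbasis (hn : 3 ≤ n) (hm : m < n) (hm2 : 2 ≤ m) (hq : 1 ≤ q) (H : Param n q m) (r : TR n q m) :
    ∃ v : Fin n ⊕ Fin m → k, Valid (tT k n q m hm) (tAl r) v ∧ v (tVe hn hm2 r) = 1 ∧
      ∀ r' : TR n q m, tAl r' = tAl r → r' ≠ r → v (tVe hn hm2 r') = 0 := by
  classical
  have hm1 : 1 ≤ m := by omega
  have G := @tGood k _ n q m hn hm hm1 hq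
  have W := @not_good_wit k _ n q m hn hm hm1 hq
  have h1 := one_val hn
  have hn0 : n ≠ 0 := by omega
  rcases r with i | s | i | j | P | t | a
  · -- first family
    refine single_basis hn hm hm2 hq _ (G.mpr ?_) fun y hy => W ?_
    · refine ⟨fun l => ?_, ?_, ?_, fun _ l a b => ?_, fun e l a b => ?_⟩ <;>
        simp only [tVe, tTgt_inl, tAl] at *
      · unfold en; split_ifs <;> oa
      · simp [en, Ne.symm hn0]
      · simp only [en, h1]; split_ifs <;> oa
      · rw [en_ne a, en_ne b]; simp
      · simp only [en, h1] at e ⊢; split_ifs at e ⊢ <;> oa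
    · rcases y with y | y
      · have hyi : y.1 ≠ i.1 := fun e => hy (by simp [tVe, Fin.ext e])
        rcases Nat.eq_zero_or_pos y.1 with e | e
        · refine Or.inl (le_trans ?_ (tTgt_nn_le _).2)
          rw [tTgt_inl]; simp only [tAl, en, Fin.val_zero]; split_ifs <;> oa
        · refine Or.inr (Or.inr (Or.inl ⟨y.1, e, y.2, le_trans ?_ (tTgt_nn_le _).1, le_trans ?_ (tTgt_nn_le _).2⟩))
          · simp only [tVe, tTgt_inl, tAl, en, Fin.val_zero]; split_ifs <;> oa
          · rw [tTgt_inl]; simp only [tAl, en]; split_ifs <;> oa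
      · by_cases e : y.1 + 1 = i.1
        · refine Or.inr (Or.inr (Or.inl ⟨1, le_rfl, by omega, le_trans ?_ (tTgt_nn_le _).1, le_trans ?_ (tTgt_nn_le _).2⟩))
          · simp only [tVe, tTgt_inl, tAl, en, Fin.val_zero]; split_ifs <;> oa
          · rw [tTgt_inr hn]; simp only [tAl, en]; split_ifs <;> oa
        · refine Or.inr (Or.inr (Or.inl ⟨y.1 + 1, by omega, by omega, le_trans ?_ (tTgt_nn_le _).1,
            le_trans ?_ (tTgt_nn_le _).2⟩))
          · simp only [tVe, tTgt_inl, tAl, en, Fin.val_zero]; split_ifs <;> oa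
          · rw [tTgt_inr hn]; simp only [tAl, en]; split_ifs <;> oa
  · -- translations of the first family
    by_cases hsp : n = m + 1 ∧ s.1 = 0
    · have hq1 : q = 1 := by rcases H with h | h | h <;> oa
      have hve : tVe (q := q) hn hm2 (.inr (.inl s)) = .inl ⟨1, by omega⟩ := by
        simp only [tVe, if_pos hsp]
      have hal : ∀ l, tAl (n := n) (q := q) (m := m) (.inr (.inl s)) l = en n l - en 0 l := fun l => by
        simp only [tAl, if_pos hsp]
      refine single_basis hn hm hm2 hq _ (G.mpr ?_) fun y hy => W ?_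
      · refine ⟨fun l => ?_, ?_, ?_, fun e l _ _ => ?_, fun e l a b => ?_⟩ <;>
          simp only [hve, tTgt_inl, hal] at *
        · unfold en; split_ifs <;> oa
        · simp only [en, Fin.val_zero]; split_ifs <;> oa
        · simp only [en, h1]; split_ifs <;> oa
        · simp only [en, Fin.val_zero] at e; split_ifs at e <;> oa
        · simp only [en]; split_ifs <;> oa
      · rcases y with y | y
        · have hy1 : y.1 ≠ 1 := fun e => hy (by rw [hve]; simp [Fin.ext_iff, e])
          rcases Nat.eq_zero_or_pos y.1 with e | e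
          · refine Or.inr (Or.inr (Or.inl ⟨1, le_rfl, by omega, le_trans ?_ (tTgt_nn_le _).2, le_trans ?_ (tTgt_nn_le _).1⟩))
            · simp only [tTgt_inl, hal, en, Fin.val_zero]; split_ifs <;> oa
            · simp only [hve, tTgt_inl, hal, en]; split_ifs <;> oa
          · refine Or.inr (Or.inr (Or.inr ⟨y.1, by omega, by omega, le_trans ?_ (tTgt_nn_le _).1, le_trans ?_ (tTgt_nn_le _).2⟩))
            · simp only [hve, tTgt_inl, hal, en, h1]; split_ifs <;> oa
            · simp only [tTgt_inl, hal, en]; split_ifs <;> oa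
        · rcases Nat.eq_zero_or_pos y.1 with e | e
          · refine Or.inr (Or.inl (lt_of_lt_of_le ?_ (tTgt_nn_le _).2))
            rw [tTgt_inr hn, hal]; simp only [en, h1]; split_ifs <;> oa
          · refine Or.inr (Or.inr (Or.inr ⟨y.1 + 1, by omega, by omega, le_trans ?_ (tTgt_nn_le _).2, le_trans ?_ (tTgt_nn_le _).2⟩))
            · rw [tTgt_inr hn, hal]; simp only [en, h1]; split_ifs <;> oa
            · rw [tTgt_inr hn, hal]; simp only [en]; split_ifs <;> oa
    · have hal : ∀ l, tAl (n := n) (q := q) (m := m) (.inr (.inl s)) l = en (s.1 + 1) l - en 0 l := fun l => by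
        simp only [tAl, if_neg hsp]
      set α := tAl (n := n) (q := q) (m := m) (.inr (.inl s)) with hαd
      have htgt : ∀ (j : Fin n) l, tgtPt (tT k n q m hm) α (.inl j) l = en (s.1 + 1) l + en j.1 l :=
        fun j l => by rw [tTgt_inl, hal]; ring
      let v : Fin n ⊕ Fin m → k := Sum.elim
        (fun j => if 1 ≤ j.1 ∧ Good (tI k n q m) (tgtPt (tT k n q m hm) α (.inl j)) ∧
          ¬ (n = m + 1 ∧ j.1 = 1) then 1 else 0) (fun _ => 0)
      have hbad : ∀ j : Fin m, ¬ Good (tI k n q m) (tgtPt (tT k n q m hm) α (.inr j)) := fun j h => by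
        have := h.1 0
        rw [tTgt_inr hn, hal] at this
        simp [en, Ne.symm hn0] at this
      have down : ∀ (x : Fin n) (y : Fin n ⊕ Fin m), Good (tI k n q m) (fun l => max (tgtPt (tT k n q m hm) α (.inl x) l)
            (tgtPt (tT k n q m hm) α y l)) → Good (tI k n q m) (tgtPt (tT k n q m hm) α (.inl x)) :=
        fun x y hab => hab.of_le _ (fun l => le_max_left _ _) fun l => by
          rw [htgt]; have := en_nonneg (n := n) (s.1 + 1) l; have := en_nonneg (n := n) x.1 l; omega
      refine ⟨v, ⟨fun y hy => ?_, fun a b hab => ?_⟩, ?_, fun r' e hne => ?_⟩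
      · rcases y with y | y
        · exact if_neg fun h => hy h.2.1
        · rfl
      · have hmix : ∀ (x : Fin n) (y : Fin m), Good (tI k n q m) (fun l => max (tgtPt (tT k n q m hm) α (.inl x) l)
            (tgtPt (tT k n q m hm) α (.inr y) l)) → v (.inl x) = 0 := by
          intro x y hab
          refine if_neg fun h => ?_
          obtain ⟨-, -, g1, -, gq⟩ := G.mp hab
          rcases Nat.eq_zero_or_pos y.1 with e | e
          · have := le_trans (le_max_right _ _) g1
            rw [tTgt_inr hn, hal] at this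
            simp only [en, h1] at this; split_ifs at this <;> oa
          · refine W (Or.inr (Or.inr (Or.inr ⟨y.1 + 1, by omega, by omega, le_trans ?_ (tTgt_nn_le _).2,
              le_trans ?_ (tTgt_nn_le _).2⟩))) hab
            · rw [tTgt_inr hn, hal]; simp only [en, h1]; split_ifs <;> oa
            · rw [tTgt_inr hn, hal]; simp only [en]; split_ifs <;> oa
        rcases a with a | a <;> rcases b with b | b
        · have ga := down a _ hab
          have gb := down b (.inl a) (by simpa only [max_comm] using hab)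
          have h0 : ∀ x y : Fin n, x.1 = 0 → 1 ≤ y.1 → ¬ Good (tI k n q m)
              (fun l => max (tgtPt (tT k n q m hm) α (.inl x) l) (tgtPt (tT k n q m hm) α (.inl y) l)) :=
            fun x y hx hy => W (Or.inr (Or.inr (Or.inl ⟨y.1, hy, y.2, le_trans ?_ (tTgt_nn_le _).1,
              le_trans ?_ (tTgt_nn_le _).2⟩)))
          rotate_left
          · rw [htgt]; simp only [en, Fin.val_zero]; split_ifs <;> oa
          · rw [htgt]; simp only [en]; split_ifs <;> oa
          have h11 : ∀ x y : Fin n, n = m + 1 → x.1 = 1 → 2 ≤ y.1 → ¬ Good (tI k n q m)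
              (fun l => max (tgtPt (tT k n q m hm) α (.inl x) l) (tgtPt (tT k n q m hm) α (.inl y) l)) :=
            fun x y hr hx hy => W (Or.inr (Or.inr (Or.inr ⟨y.1, hy, by omega, le_trans ?_ (tTgt_nn_le _).1,
              le_trans ?_ (tTgt_nn_le _).2⟩)))
          rotate_left
          · have : q = 1 := by rcases H with h | h | h <;> oa
            rw [htgt]; simp only [en, h1]; split_ifs <;> oa
          · rw [htgt]; simp only [en]; split_ifs <;> oa
          have hab' : Good (tI k n q m) (fun l => max (tgtPt (tT k n q m hm) α (.inl b) l)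
              (tgtPt (tT k n q m hm) α (.inl a) l)) := by simpa only [max_comm] using hab
          simp only [v, Sum.elim_inl, ga, gb, true_and]
          by_cases ca : 1 ≤ a.1 ∧ ¬(n = m + 1 ∧ a.1 = 1) <;> by_cases cb : 1 ≤ b.1 ∧ ¬(n = m + 1 ∧ b.1 = 1)
          · rw [if_pos ca, if_pos cb]
          · exfalso
            rcases Nat.eq_zero_or_pos b.1 with e | e
            · exact h0 b a e ca.1 hab'
            · have : n = m + 1 ∧ b.1 = 1 := by by_contra h; exact cb ⟨e, h⟩
              exact h11 b a this.1 this.2 (by omega) hab'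
          · exfalso
            rcases Nat.eq_zero_or_pos a.1 with e | e
            · exact h0 a b e cb.1 hab
            · have : n = m + 1 ∧ a.1 = 1 := by by_contra h; exact ca ⟨e, h⟩
              exact h11 a b this.1 this.2 (by omega) hab
          · rw [if_neg ca, if_neg cb]
        · rw [hmix a b hab]; rfl
        · rw [hmix b a (by simpa only [max_comm] using hab)]; rfl
        · rfl
      · simp only [tVe, if_neg hsp]
        by_cases hr : n = m + 1
        · have hq1 : q = 1 := by rcases H with h | h | h <;> oa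
          rw [if_pos hr]
          refine if_pos ⟨by simp, G.mpr ?_, by simp⟩
          refine ⟨fun l => ?_, ?_, ?_, fun e l _ _ => ?_, fun e l a b => ?_⟩ <;> simp only [htgt] at *
          · unfold en; split_ifs <;> oa
          · simp only [en, Fin.val_zero]; split_ifs <;> oa
          · simp only [en, h1]; split_ifs <;> oa
          · simp only [en, Fin.val_zero] at e; split_ifs at e <;> oa
          · simp only [en, h1] at e; split_ifs at e <;> oa
        · rw [if_neg hr]
          refine if_pos ⟨by simp; omega, G.mpr ?_, by omega⟩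
          refine ⟨fun l => ?_, ?_, ?_, fun e l _ _ => ?_, fun e l a b => ?_⟩ <;> simp only [htgt] at *
          · unfold en; split_ifs <;> oa
          · simp only [en, Fin.val_zero]; split_ifs <;> oa
          · simp only [en, h1]; split_ifs <;> oa
          · simp only [en, Fin.val_zero] at e; split_ifs at e <;> oa
          · simp only [en, h1] at e ⊢; split_ifs at e ⊢ <;> oa
      · -- other representatives
        have e0 := inj_eval e 0 (Nat.zero_le n)
        have e1 := inj_eval e 1 (by omega)
        have eN := inj_eval e n le_rfl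
        rw [hal] at e0 e1 eN
        rcases r' with i' | s' | i' | j' | P' | t' | a' <;> simp only [tVe, Sum.elim_inl, Sum.elim_inr, v]
        · refine if_neg fun h => ?_
          simp only [tAl, en] at e0
          split_ifs at e0 <;> oa
        · refine if_neg fun h => hne ?_
          by_cases hsp' : n = m + 1 ∧ s'.1 = 0
          · exfalso; simp [hsp'.1, hsp'.2] at h
          · have e2 := inj_eval e (s'.1 + 1) (by omega)
            rw [hal] at e2
            simp only [tAl, if_neg hsp', en] at e2
            suffices s' = s by rw [this]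
            apply Fin.ext
            split_ifs at e2 <;> oa
        · refine if_neg fun h => ?_
          simp only [tAl, en] at e0 e1 eN
          split_ifs at e0 e1 eN <;> oa
  · -- exceptional family
    have hi := i.2
    refine single_basis hn hm hm2 hq _ (G.mpr ?_) fun y hy => W ?_
    · refine ⟨fun l => ?_, ?_, ?_, fun e l _ _ => ?_, fun e l a b => ?_⟩ <;>
        simp only [tVe, tTgt_inl, tAl] at *
      · unfold en; split_ifs <;> oa
      · simp only [en, Fin.val_zero]; split_ifs <;> oa
      · simp only [en, h1]; split_ifs <;> oa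
      · simp only [en, Fin.val_zero] at e; split_ifs at e <;> oa
      · simp only [en]; split_ifs <;> oa
    · rcases y with y | y
      · have hyi : y.1 ≠ i.1.1 := fun e => hy (by simp [tVe, Fin.ext e])
        rcases (show y.1 = 0 ∨ y.1 = 1 ∨ (2 ≤ y.1 ∧ y.1 ≤ m) by omega) with e | e | e
        · refine Or.inr (Or.inr (Or.inl ⟨1, le_rfl, by omega, le_trans ?_ (tTgt_nn_le _).2, le_trans ?_ (tTgt_nn_le _).1⟩))
          · simp only [tTgt_inl, tAl, en, Fin.val_zero]; split_ifs <;> oa
          · simp only [tVe, tTgt_inl, tAl, en]; split_ifs <;> oa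
        · refine Or.inr (Or.inl (lt_of_lt_of_le ?_ (tTgt_nn_le _).2))
          simp only [tTgt_inl, tAl, en, h1]; split_ifs <;> oa
        · refine Or.inr (Or.inr (Or.inr ⟨y.1, e.1, e.2, le_trans ?_ (tTgt_nn_le _).1, le_trans ?_ (tTgt_nn_le _).2⟩))
          · simp only [tVe, tTgt_inl, tAl, en, h1]; split_ifs <;> oa
          · simp only [tTgt_inl, tAl, en]; split_ifs <;> oa
      · refine Or.inr (Or.inl (lt_of_lt_of_le ?_ (tTgt_nn_le _).2))
        simp only [tTgt_inr hn, tAl, en, h1]; split_ifs <;> oa
  · -- the embedded point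
    refine single_basis hn hm hm2 hq _ (G.mpr ?_) fun y hy => W ?_
    · refine ⟨fun l => ?_, ?_, ?_, fun e l a b => ?_, fun e l a b => ?_⟩ <;>
        simp only [tVe, tTgt_inr hn, tAl] at *
      · have := en_nonneg (n := n) 0 l
        have : 0 ≤ (q : ℤ) * en n l := mul_nonneg (Int.natCast_nonneg _) (en_nonneg _ _)
        omega
      · simp [en, Ne.symm hn0]
      · simp [en, h1, show ¬ (1 = n) by omega]; split_ifs <;> oa
      · rw [en_ne a, en_ne b]; ring
      · simp [en, h1, show ¬ (1 = n) by omega] at e; split_ifs at e <;> oa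
    · rcases y with y | y
      · refine Or.inl (le_trans ?_ (tTgt_nn_le _).2)
        simp [tTgt_inl, tAl, en, Ne.symm hn0]; split_ifs <;> oa
      · have hyj : y.1 ≠ j.1 := fun e => hy (by simp [tVe, Fin.ext e])
        refine Or.inr (Or.inr (Or.inl ⟨y.1 + 1, by omega, by omega, le_trans ?_ (tTgt_nn_le _).1, le_trans ?_ (tTgt_nn_le _).2⟩))
        · simp [tVe, tTgt_inr hn, tAl, en, Ne.symm hn0]
        · simp [tTgt_inr hn, tAl, en, hyj, show ¬ (y.1 + 1 = n) by omega]
  · -- the large family
    set α := tAl (n := n) (q := q) (m := m) (.inr (.inr (.inr (.inr (.inl P))))) with hαd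
    let D : Fin (n + 1) → ℤ := Fin.cons 0 (fun i => (P.1 i : ℤ))
    have hD0 : D 0 = 0 := by simp [D]
    have hDnn : ∀ l, 0 ≤ D l := fun l => by
      rcases eq_or_ne l.1 0 with e | e
      · rw [show D l = 0 from cons_zero_val _ _ e]
      · rw [show D l = _ from cons_pos_val _ _ e]; exact Int.natCast_nonneg _
    have hD1 : D 1 = P.1 ⟨0, by omega⟩ := by
      rw [show D 1 = _ from cons_pos_val _ _ (by omega)]; simp only [h1, Nat.sub_self]
    have hDlt := BX_first hn P
    have htgt : ∀ (j : Fin m) l, tgtPt (tT k n q m hm) α (.inr j) l = D l + en (j.1 + 1) l := fun j l => by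
      rw [tTgt_inr hn]; simp only [hαd, tAl, D]; ring
    let v : Fin n ⊕ Fin m → k := Sum.elim (fun _ => 0)
      (fun j => if Good (tI k n q m) (tgtPt (tT k n q m hm) α (.inr j)) ∧
        ¬ (j.1 = 0 ∧ P.1 ⟨0, by omega⟩ + 1 = q) then 1 else 0)
    have down : ∀ (x : Fin m) (y : Fin n ⊕ Fin m), Good (tI k n q m) (fun l => max (tgtPt (tT k n q m hm) α (.inr x) l)
          (tgtPt (tT k n q m hm) α y l)) → Good (tI k n q m) (tgtPt (tT k n q m hm) α (.inr x)) :=
      fun x y hab => hab.of_le _ (fun l => le_max_left _ _) fun l => by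
        rw [htgt]; have := hDnn l; have := en_nonneg (n := n) (x.1 + 1) l; omega
    refine ⟨v, ⟨fun y hy => ?_, fun a b hab => ?_⟩, ?_, fun r' e hne => ?_⟩
    · rcases y with y | y
      · rfl
      · exact if_neg fun h => hy h.1
    · have hmix : ∀ (x : Fin n) (y : Fin m), ¬ Good (tI k n q m) (fun l => max (tgtPt (tT k n q m hm) α (.inl x) l)
          (tgtPt (tT k n q m hm) α (.inr y) l)) := by
        intro x y
        refine W (Or.inr (Or.inr (Or.inl ⟨y.1 + 1, by omega, by omega, le_trans ?_ (tTgt_nn_le _).1,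
          le_trans ?_ (tTgt_nn_le _).2⟩)))
        · rw [tTgt_inl]; simp only [hαd, tAl, D] at hD0 ⊢; rw [hD0]; simp [en, Ne.symm hn0]; split_ifs <;> oa
        · rw [htgt]; have := hDnn ⟨y.1 + 1, by omega⟩; simp only [en, if_true]; omega
      rcases a with a | a <;> rcases b with b | b
      · rfl
      · exact absurd hab (hmix a b)
      · exact absurd (by simpa only [max_comm] using hab) (hmix b a)
      · have ga := down a _ hab
        have gb := down b (.inr a) (by simpa only [max_comm] using hab)
        have h11 : ∀ x y : Fin m, x.1 = 0 → P.1 ⟨0, by omega⟩ + 1 = q → y.1 ≠ 0 → ¬ Good (tI k n q m)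
            (fun l => max (tgtPt (tT k n q m hm) α (.inr x) l) (tgtPt (tT k n q m hm) α (.inr y) l)) :=
          fun x y hx hP hy => W (Or.inr (Or.inr (Or.inr ⟨y.1 + 1, by omega, by omega,
            le_trans ?_ (tTgt_nn_le _).1, le_trans ?_ (tTgt_nn_le _).2⟩)))
        rotate_left
        · rw [htgt, hD1]; simp only [en, h1, hx, ← hP]; push_cast; simp
        · rw [htgt]; have := hDnn ⟨y.1 + 1, by omega⟩; simp only [en, if_true]; omega
        simp only [v, Sum.elim_inr, ga, gb, true_and]
        by_cases ca : a.1 = 0 ∧ P.1 ⟨0, by omega⟩ + 1 = q <;> by_cases cb : b.1 = 0 ∧ P.1 ⟨0, by omega⟩ + 1 = q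
        · rw [if_neg (not_not.mpr ca), if_neg (not_not.mpr cb)]
        · exact absurd hab (h11 a b ca.1 ca.2 (by omega))
        · exact absurd (by simpa only [max_comm] using hab) (h11 b a cb.1 cb.2 (by omega))
        · rw [if_pos ca, if_pos cb]
    · refine if_pos ⟨G.mpr ?_, by simp⟩
      refine ⟨fun l => ?_, ?_, ?_, fun e l _ _ => ?_, fun e l a b => ?_⟩ <;> simp only [htgt] at *
      · have := hDnn l; have := en_nonneg (n := n) (1 + 1) l; omega
      · rw [hD0]; simp [en]
      · rw [hD1]; simp only [en, h1]; split_ifs <;> oa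
      · rw [hD0] at e; simp [en] at e
      · rw [hD1] at e; simp only [en, h1] at e; split_ifs at e <;> oa
    · have e0 := inj_eval e 0 (Nat.zero_le n)
      rcases r' with i' | s' | i' | j' | P' | t' | a' <;> simp only [tVe, Sum.elim_inl, Sum.elim_inr, v]
      · exfalso
        simp [hαd, tAl, en, Ne.symm hn0] at e0
      · exfalso
        refine hne ?_
        suffices P' = P by rw [this]
        refine Subtype.ext (funext fun l => ?_)
        have := congrFun e l.succ
        simpa [hαd, tAl] using this
      · refine if_neg fun h => h.2 ⟨trivial, ?_⟩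
        have e1 := inj_eval e 1 (by omega)
        simp only [hαd, tAl] at e1
        rw [cons_pos_val _ _ (by simp)] at e1
        simp [en, show ¬ (1 = m + 1 + t'.1) by omega] at e1
        omega
      · exfalso
        have e2 := inj_eval e (a'.1.1 + 2) (by omega)
        simp only [hαd, tAl] at e2
        rw [cons_pos_val _ _ (by simp)] at e2
        simp [en, show ¬ (a'.1.1 + 2 = m + 1 + a'.2.1) by omega] at e2
  · -- the first vertex of the second block
    refine single_basis hn hm hm2 hq _ (G.mpr ?_) fun y hy => W ?_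
    · refine ⟨fun l => ?_, ?_, ?_, fun e l _ _ => ?_, fun e l a b => ?_⟩ <;>
        simp only [tVe, tTgt_inr hn, tAl] at *
      · unfold en; split_ifs <;> oa
      · simp only [en, Fin.val_zero]; split_ifs <;> oa
      · simp only [en, h1]; split_ifs <;> oa
      · simp only [en, Fin.val_zero] at e; split_ifs at e <;> oa
      · simp only [en]; split_ifs <;> oa
    · rcases y with y | y
      · refine Or.inr (Or.inr (Or.inl ⟨1, le_rfl, by omega, le_trans ?_ (tTgt_nn_le _).2, le_trans ?_ (tTgt_nn_le _).1⟩))
        · simp only [tTgt_inl, tAl, en, Fin.val_zero]; split_ifs <;> oa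
        · simp only [tVe, tTgt_inr hn, tAl, en]; split_ifs <;> oa
      · have hyj : y.1 ≠ 0 := fun e => hy (by simp [tVe, Fin.ext_iff, e])
        refine Or.inr (Or.inr (Or.inr ⟨y.1 + 1, by omega, by omega, le_trans ?_ (tTgt_nn_le _).1, le_trans ?_ (tTgt_nn_le _).2⟩))
        · simp only [tVe, tTgt_inr hn, tAl, en, h1]; split_ifs <;> oa
        · simp only [tTgt_inr hn, tAl, en]; split_ifs <;> oa
  · -- the other vertices of the second block
    refine single_basis hn hm hm2 hq _ (G.mpr ?_) fun y hy => W ?_
    · refine ⟨fun l => ?_, ?_, ?_, fun e l _ _ => ?_, fun e l c d => ?_⟩ <;>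
        simp only [tVe, tTgt_inr hn, tAl] at *
      · unfold en; split_ifs <;> oa
      · simp only [en, Fin.val_zero]; split_ifs <;> oa
      · simp only [en, h1]; split_ifs <;> oa
      · simp only [en, Fin.val_zero] at e; split_ifs at e <;> oa
      · simp only [en]; split_ifs <;> oa
    · rcases y with y | y
      · refine Or.inr (Or.inr (Or.inl ⟨1, le_rfl, by omega, le_trans ?_ (tTgt_nn_le _).2, le_trans ?_ (tTgt_nn_le _).1⟩))
        · simp only [tTgt_inl, tAl, en, Fin.val_zero]; split_ifs <;> oa
        · simp only [tVe, tTgt_inr hn, tAl, en]; split_ifs <;> oa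
      · have hyj : y.1 ≠ a.1.1 + 1 := fun e => hy (by simp [tVe, Fin.ext_iff, e])
        rcases Nat.eq_zero_or_pos y.1 with ey | ey
        · refine Or.inr (Or.inl (lt_of_lt_of_le ?_ (tTgt_nn_le _).2))
          simp only [tTgt_inr hn, tAl, en, h1]; split_ifs <;> oa
        · refine Or.inr (Or.inr (Or.inr ⟨y.1 + 1, by omega, by omega, le_trans ?_ (tTgt_nn_le _).1, le_trans ?_ (tTgt_nn_le _).2⟩))
          · simp only [tVe, tTgt_inr hn, tAl, en, h1]; split_ifs <;> oa
          · simp only [tTgt_inr hn, tAl, en]; split_ifs <;> oa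

/-- The count. -/
theorem finrank_tI (hn : 3 ≤ n) (hm : m < n) (hm2 : 2 ≤ m) (hq : 1 ≤ q) (H : Param n q m) :
    Module.finrank k ↥(⨆ α : {α : Fin (n + 1) → ℤ // ∑ i, α i = 0}, tPiece (tI k n q m) α.1) + 1 =
      2 * n + m + Nat.card (Exc n q m) + Nat.choose (n + q - 1) (n - 1) + m * (n - m) := by
  classical
  haveI : Finite {P : Fin n → ℕ // ∑ i, P i = q} :=
    Finite.of_equiv _ (Sym.equivNatSumOfFintype (Fin n) q)
  haveI : Finite (BX n q) := Finite.of_injective (fun P : BX n q => (⟨P.1, P.2.1⟩ : {P : Fin n → ℕ // ∑ i, P i = q}))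
    fun P Q e => Subtype.ext (congrArg (fun x : {P : Fin n → ℕ // ∑ i, P i = q} => x.1) e)
  haveI := Fintype.ofFinite (BX n q)
  haveI := Fintype.ofFinite {P : Fin n → ℕ // ∑ i, P i = q}
  rw [finrank_hom0_eq (tT k n q m hm) tAl (tVe hn hm2) (tAl_sum hn hm hm2) (tAl_inj hn hm hm2 hq)
    (fun α v hα hv hr => tHzero hn hm hm2 hq H α v hα hv hr) (tHbasis hn hm hm2 hq H)]
  have hX : Nat.card (BX n q) + 1 = Nat.choose (n + q - 1) (n - 1) := by
    let P₁ : {P : Fin n → ℕ // ∑ i, P i = q} := ⟨fun i => if i.1 = 0 then q else 0, by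
      rw [Finset.sum_eq_single ⟨0, by omega⟩ (fun j _ hj => if_neg fun e => hj (Fin.ext e)) (by simp)]
      simp⟩
    have e : BX n q ≃ {P : {P : Fin n → ℕ // ∑ i, P i = q} // P ≠ P₁} :=
      { toFun := fun P => ⟨⟨P.1, P.2.1⟩, fun e => P.2.2 (congrArg Subtype.val e)⟩
        invFun := fun P => ⟨P.1.1, P.1.2, fun e => P.2 (Subtype.ext e)⟩
        left_inv := fun _ => rfl
        right_inv := fun _ => rfl }
    have hc := card_sum_eq n q
    rw [Nat.card_eq_fintype_card] at hc
    rw [Nat.card_congr e, Nat.card_eq_fintype_card, Fintype.card_subtype_compl, Fintype.card_subtype_eq, hc,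
      show n + q - 1 = q + (n - 1) by omega, Nat.choose_symm_add]
    have := Nat.choose_pos (show n - 1 ≤ q + (n - 1) by omega)
    omega
  have hT : Fintype.card (TR n q m) =
      n + (n + (Fintype.card (Exc n q m) + (m + (Fintype.card (BX n q) + ((n - m) + (m - 1) * (n - m)))))) := by
    simp [TR, Fintype.card_sum, Fintype.card_prod]
  rw [Nat.card_eq_fintype_card] at hX
  rw [Nat.card_eq_fintype_card]
  have hmm : (m - 1) * (n - m) + (n - m) = m * (n - m) := by
    rw [← Nat.succ_mul]; congr 1; omega
  omega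

end Groth.Agent.L13.HilbPn
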